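import Cfsg.Agent.PMcKay87.Over
import Mathlib.GroupTheory.SchurZassenhaus
import Mathlib.GroupTheory.Sylow

/-!
The count over a central character when a Sylow subgroup is normal modulo a `p'`-subgroup.
-/

set_option autoImplicit false

namespace Cfsg.Agent.PMcKay87

open scoped ComplexConjugate commutatorElement
open Cfsg (extendByZero classInner IsIrrCharacter IrrCharacter)
open Subgroup

attribute [local instance high] Fintype.ofFinite

universe u

variable {G : Type u} [Group G] [Finite G]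

variable {p : ℕ} [hp : Fact p.Prime]

theorem mem_goodSet {Z : Subgroup G} {ζ : Z →* ℂˣ} {H : Subgroup G} {η : IrrCharacter H} :
    η ∈ goodSet p Z ζ H ↔
      ¬ p ∣ Cfsg.charDegree (η : H → ℂ) ∧ Central Z ζ H (η : H → ℂ) := by
  simp [goodSet]

theorem mem_fixedSet {Z : Subgroup G} {ζ : Z →* ℂˣ} {K S : Subgroup G} {x y : G}
    {θ : IrrCharacter K} : θ ∈ fixedSet Z ζ K S x y ↔ (∀ s ∈ S, Fixes K s (θ : K → ℂ)) ∧
      Fixes K x (θ : K → ℂ) ∧ Fixes K y (θ : K → ℂ) ∧ Central Z ζ K (θ : K → ℂ) := by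
  simp [fixedSet]

theorem central_iff_of_constituent {Z : Subgroup G} (hZ : Z ≤ center G) (ζ : Z →* ℂˣ)
    {H J : Subgroup G} (hZH : Z ≤ H) (hHJ : H ≤ J) (χ : IrrCharacter J) (η : IrrCharacter H)
    (hne : classInner (fun h : H => extendByZero J (χ : J → ℂ) (h : G)) η ≠ 0) :
    Central Z ζ J (χ : J → ℂ) ↔ Central Z ζ H (η : H → ℂ) := by
  have hχ1 := CharCore.irr_apply_one_ne_zero χ
  have hη1 := CharCore.irr_apply_one_ne_zero η
  constructor
  · intro h z hz
    have h1 := central_of_constituent hHJ χ η hne hz (hZ z.2)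
    rw [h z (hHJ hz)] at h1
    refine mul_right_cancel₀ hχ1 ?_
    rw [← h1]; ring
  · intro h z hz
    have h1 := central_of_constituent hHJ χ η hne (hZH z.2) (hZ z.2)
    rw [h z (hZH z.2)] at h1
    refine mul_right_cancel₀ hη1 ?_
    rw [show (⟨(z : G), hz⟩ : J) = ⟨z, hHJ (hZH z.2)⟩ from rfl, h1]; ring

/-- The count as a sum over pairs of cosets. -/
theorem countZ_mul (Z : Subgroup G) (hZ : Z ≤ center G) (ζ : Z →* ℂˣ) {P J : Subgroup G}
    (hPJ : P ≤ J) (hJP : J ≤ normalizer (P : Set G)) (hZP : Z ≤ P) (hidx : ¬ p ∣ P.relIndex J) :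
    (countZ p Z ζ J : ℂ) * P.relIndex J =
      ∑ q : J ⧸ P.subgroupOf J, ∑ r : J ⧸ P.subgroupOf J,
        ∑ η ∈ goodSet p Z ζ P, pairSum P (η : P → ℂ) ((q.out : J) : G) ((r.out : J) : G) := by
  haveI hN : (P.subgroupOf J).Normal := ⟨fun n hn g => conj_mem_of (hJP g.2) hn⟩
  let e := subgroupOfEquivOfLe hPJ
  let back : IrrCharacter P → IrrCharacter (P.subgroupOf J) := fun η =>
    ⟨fun n => (η : P → ℂ) (e n),
      CharCore.isIrrCharacter_comp_surjective η.2 e.toMonoidHom e.surjective⟩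
  let fwd : IrrCharacter (P.subgroupOf J) → IrrCharacter P := fun η =>
    ⟨fun n => (η : P.subgroupOf J → ℂ) (e.symm n),
      CharCore.isIrrCharacter_comp_surjective η.2 e.symm.toMonoidHom e.symm.surjective⟩
  have hbf : ∀ η, back (fwd η) = η := fun η => Subtype.ext (funext fun n => by
    show (η : P.subgroupOf J → ℂ) (e.symm (e n)) = _
    rw [e.symm_apply_apply])
  have hfb : ∀ η, fwd (back η) = η := fun η => Subtype.ext (funext fun n => by
    show (η : P → ℂ) (e (e.symm n)) = _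
    rw [e.apply_symm_apply])
  classical
  let _ : Fintype P := Fintype.ofFinite P
  let _ : Fintype (P.subgroupOf J) := Fintype.ofFinite _
  let _ : Fintype J := Fintype.ofFinite J
  set E : Finset (IrrCharacter (P.subgroupOf J)) := (goodSet p Z ζ P).image back with hE
  have hmemE : ∀ η, η ∈ E ↔ fwd η ∈ goodSet p Z ζ P := fun η => by
    rw [hE, Finset.mem_image]
    exact ⟨fun ⟨a, ha, he⟩ => by rw [← he, hfb]; exact ha, fun h => ⟨_, h, hbf η⟩⟩
  have hstable : ∀ g : J, ∀ η ∈ E, ∃ η' ∈ E,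
      (η' : P.subgroupOf J → ℂ) = CharClifford.conjFun (P.subgroupOf J) g η := by
    intro g η hη
    refine ⟨⟨_, CharClifford.isIrrCharacter_conjFun _ η.2 g⟩, (hmemE _).mpr ?_, rfl⟩
    obtain ⟨hd, hc⟩ := mem_goodSet.mp ((hmemE η).mp hη)
    have hone : CharClifford.conjFun (P.subgroupOf J) g (η : P.subgroupOf J → ℂ) (e.symm 1) =
        (η : P.subgroupOf J → ℂ) (e.symm 1) := by
      rw [CharClifford.conjFun_apply]
      exact congrArg _ (Subtype.ext (Subtype.ext (by simp [e])))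
    refine mem_goodSet.mpr ⟨?_, fun z hz => ?_⟩
    · simpa only [fwd, Cfsg.charDegree, hone] using hd
    · have h := hc z hz
      simp only [fwd] at h ⊢
      rw [hone, ← h, CharClifford.conjFun_apply]
      refine congrArg _ (Subtype.ext (Subtype.ext ?_))
      show (g : G) * (z : G) * (g : G)⁻¹ = z
      rw [mem_center_iff.mp (hZ z.2) (g : G), mul_inv_cancel_right]
  have hinner : ∀ (χ : IrrCharacter J) (η : IrrCharacter (P.subgroupOf J)),
      classInner (fun h : P.subgroupOf J => (χ : J → ℂ) h) η =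
        classInner (fun h : P => extendByZero J (χ : J → ℂ) (h : G)) (fwd η) := fun χ η => by
    simp only [CharCore.classInner_def]
    rw [Nat.card_congr e.toEquiv]
    congr 1
    refine Fintype.sum_equiv e.toEquiv _ _ fun n => ?_
    show _ = extendByZero J (χ : J → ℂ) ((e n : P) : G) *
      conj ((η : P.subgroupOf J → ℂ) (e.symm (e n)))
    rw [e.symm_apply_apply, CharInd.extendByZero_mem _ (show ((e n : P) : G) ∈ J from n.1.2)]
    rfl
  have hset : Nat.card {χ : IrrCharacter J // ∃ η ∈ E,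
      classInner (fun h : P.subgroupOf J => (χ : J → ℂ) h) η ≠ 0} = countZ p Z ζ J := by
    refine Nat.card_congr (Equiv.subtypeEquivRight fun χ => ?_)
    obtain ⟨c, hc, hcd, -, -⟩ := exists_deg χ
    constructor
    · rintro ⟨η, hη, hne⟩
      obtain ⟨hd, hcen⟩ := mem_goodSet.mp ((hmemE η).mp hη)
      obtain ⟨d, hd1, hdd, -, -⟩ := exists_deg (fwd η)
      have hd' : (η : P.subgroupOf J → ℂ) 1 = d := by
        rw [← hd1]; exact congrArg (η : P.subgroupOf J → ℂ) (map_one e.symm).symm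
      obtain ⟨h1, h2⟩ := CharB.degree_dvd (P.subgroupOf J) χ.2 η.2 hne hc hd'
      refine ⟨fun h => ?_, (central_iff_of_constituent hZ ζ hZP hPJ χ (fwd η)
        (by rwa [← hinner])).mpr hcen⟩
      rw [hcd, ← Nat.div_mul_cancel h1] at h
      rcases hp.out.dvd_mul.mp h with h | h
      · exact hidx (h.trans h2)
      · exact hd (hdd ▸ h)
    · rintro ⟨hd, hcen⟩
      obtain ⟨η, hη⟩ := CharClifford.exists_constituent
        (CharCore.isCharacter_restrict (CharCore.irr_isCharacter χ) (P.subgroupOf J))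
        (by simpa using CharCore.irr_apply_one_ne_zero χ)
      obtain ⟨d, hd1, hdd, -, -⟩ := exists_deg (fwd η)
      have hd' : (η : P.subgroupOf J → ℂ) 1 = d := by
        rw [← hd1]; exact congrArg (η : P.subgroupOf J → ℂ) (map_one e.symm).symm
      obtain ⟨h1, -⟩ := CharB.degree_dvd (P.subgroupOf J) χ.2 η.2 hη hc hd'
      refine ⟨η, (hmemE η).mpr (mem_goodSet.mpr ⟨fun h => hd (by rw [hcd]; exact (hdd ▸ h).trans h1),
        (central_iff_of_constituent hZ ζ hZP hPJ χ (fwd η) (by rwa [← hinner])).mp hcen⟩), hη⟩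
  have hmain := card_over_mul_index (P.subgroupOf J) E hstable
  rw [hset] at hmain
  rw [show P.relIndex J = (P.subgroupOf J).index from rfl, hmain]
  refine Finset.sum_congr rfl fun q _ => Finset.sum_congr rfl fun r _ => ?_
  rw [hE, Finset.sum_image fun a _ b _ h => by rw [← hfb a, ← hfb b, h]]
  refine Finset.sum_congr rfl fun η _ => ?_
  simp only [pairSum, back]
  rw [Nat.card_congr e.toEquiv, map_one e]
  congr 1
  refine Fintype.sum_equiv e.toEquiv _ _ fun k => Fintype.sum_equiv e.toEquiv _ _ fun l => ?_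
  simp only [MulEquiv.toEquiv_eq_coe, EquivLike.coe_coe]
  by_cases h : ⁅q.out * (k : J), r.out * (l : J)⁆ ∈ P.subgroupOf J
  · rw [CharInd.extendByZero_mem _ h, CharInd.extendByZero_mem _ (show
      ⁅((q.out : J) : G) * ((e k : P) : G), ((r.out : J) : G) * ((e l : P) : G)⁆ ∈ P from h)]
    rfl
  · rw [CharInd.extendByZero_notMem _ h, CharInd.extendByZero_notMem _ (show
      ⁅((q.out : J) : G) * ((e k : P) : G), ((r.out : J) : G) * ((e l : P) : G)⁆ ∉ P from fun h' => h h')]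

theorem pairSum_notMem (H : Subgroup G) (η : H → ℂ) {x y : G}
    (hx : x ∈ normalizer (H : Set G)) (hy : y ∈ normalizer (H : Set G)) (h : ⁅x, y⁆ ∉ H) :
    pairSum H η x y = 0 := by
  rw [pairSum, Finset.sum_eq_zero fun k _ => Finset.sum_eq_zero fun l _ =>
    CharInd.extendByZero_notMem _ fun hm => h ?_, mul_zero]
  have hk : ∀ a : H, ∀ g : G, g ∈ normalizer (H : Set G) → g * a * g⁻¹ * (a : G)⁻¹ ∈ H :=
    fun a g hg => mul_mem (conj_mem_of hg a.2) (inv_mem a.2)
  -- commutators agree modulo `H`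
  have e : ⁅x, y⁆ = x * ((k : G) * (y * (l * (k : G)⁻¹) * y⁻¹))⁻¹ * x⁻¹ * ⁅x * (k : G), y * (l : G)⁆ *
      (y * (l : G) * y⁻¹) := by
    simp only [commutatorElement_def]; group
  rw [e]
  refine mul_mem (mul_mem ?_ hm) (conj_mem_of hy l.2)
  exact conj_mem_of hx (inv_mem (mul_mem k.2 (conj_mem_of hy (mul_mem l.2 (inv_mem k.2)))))

/-- The fixed characters correspond, with equal commutator sums. -/
theorem sum_fixedSet_eq {K S M B : Subgroup G} (D : CoprimeData p K S M)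
    (Z : Subgroup G) (hZ : Z ≤ center G) (ζ : Z →* ℂˣ) (hB : ¬ p ∣ Nat.card B)
    {x y : G} (hx : x ∈ B) (hy : y ∈ B)
    (hxK : x ∈ normalizer (K : Set G)) (hyK : y ∈ normalizer (K : Set G))
    (hxS : x ∈ normalizer (S : Set G)) (hyS : y ∈ normalizer (S : Set G)) (hxy : ⁅x, y⁆ ∈ M) :
    ∑ θ ∈ fixedSet Z ζ K S x y, pairSum K (θ : K → ℂ) x y =
      ∑ ψ ∈ fixedSet Z ζ M S x y, pairSum M (ψ : M → ℂ) x y := by
  have hMn : ∀ g ∈ normalizer (K : Set G), g ∈ normalizer (S : Set G) →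
      g ∈ normalizer (M : Set G) := fun g hgK hgS => by
    rw [D.eq]
    exact Coprime.le_normalizer_inf (A := zpowers g) (zpowers_le.mpr hgK)
      (Coprime.le_normalizer_centralizer (zpowers_le.mpr hgS)) (mem_zpowers g)
  have hMS : ∀ m ∈ M, ∀ s ∈ S, s * m = m * s := fun m hm s hs =>
    mem_centralizer_iff.mp ((D.eq ▸ hm : m ∈ K ⊓ centralizer (S : Set G)).2) s hs
  have hZM : ∀ z : Z, (z : G) ∈ K → (z : G) ∈ M := fun z hz => by
    rw [D.eq]
    exact ⟨hz, mem_centralizer_iff.mpr fun s _ => mem_center_iff.mp (hZ z.2) s⟩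
  have hcc : ∀ (θ : IrrCharacter K) (ψ : IrrCharacter M), Corr p K M (θ : K → ℂ) (ψ : M → ℂ) →
      (Central Z ζ K (θ : K → ℂ) ↔ Central Z ζ M (ψ : M → ℂ)) := by
    rintro θ ψ ⟨m, hm, hpm⟩
    have hne : classInner (fun h : M => extendByZero K (θ : K → ℂ) (h : G)) ψ ≠ 0 := by
      rw [hm, Nat.cast_ne_zero]; rintro rfl; exact hpm (dvd_zero p)
    have hθ1 := CharCore.irr_apply_one_ne_zero θ
    have hψ1 := CharCore.irr_apply_one_ne_zero ψ
    constructor
    · intro h z hz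
      have h1 := central_of_constituent D.le_left θ ψ hne hz (hZ z.2)
      rw [h z (D.le_left hz)] at h1
      refine mul_right_cancel₀ hθ1 ?_
      rw [← h1]; ring
    · intro h z hz
      have h1 := central_of_constituent D.le_left θ ψ hne (hZM z hz) (hZ z.2)
      rw [h z (hZM z hz)] at h1
      refine mul_right_cancel₀ hψ1 ?_
      rw [show (⟨(z : G), hz⟩ : K) = ⟨z, D.le_left (hZM z hz)⟩ from rfl, h1]; ring
  have hfixM : ∀ (ψ : IrrCharacter M) (s : G), s ∈ S → Fixes M s (ψ : M → ℂ) :=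
    fun ψ s hs k k' hk => congrArg (ψ : M → ℂ) (Subtype.ext (by
      rw [hk, hMS k k.2 s hs, mul_inv_cancel_right]))
  haveI : Nonempty (IrrCharacter M) := ⟨⟨1, CharCore.isIrrCharacter_one⟩⟩
  choose! f hf using fun (θ : IrrCharacter K) (h : ∀ s ∈ S, Fixes K s (θ : K → ℂ)) =>
    D.exists_corr θ h
  refine Finset.sum_bij' (fun θ _ => f θ)
    (fun ψ _ => (D.corr_surjective ψ).choose) ?_ ?_ ?_ ?_ ?_
  · intro θ hθ
    obtain ⟨h1, h2, h3, h4⟩ := mem_fixedSet.mp hθ
    exact mem_fixedSet.mpr ⟨fun s hs => hfixM _ s hs,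
      D.corr_fixes θ h1 (hf θ h1) x hxK (hMn x hxK hxS) h2,
      D.corr_fixes θ h1 (hf θ h1) y hyK (hMn y hyK hyS) h3, (hcc θ _ (hf θ h1)).mp h4⟩
  · intro ψ hψ
    obtain ⟨-, h2, h3, h4⟩ := mem_fixedSet.mp hψ
    obtain ⟨g1, g2⟩ := (D.corr_surjective ψ).choose_spec
    set θ := (D.corr_surjective ψ).choose
    have hfix : ∀ g, (hgK : g ∈ normalizer (K : Set G)) → (hgS : g ∈ normalizer (S : Set G)) →
        Fixes M g (ψ : M → ℂ) → Fixes K g (θ : K → ℂ) := by
      intro g hgK hgS hg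
      rw [fixes_iff K g hgK]
      have hc := corr_conj D.le_left g hgK (hMn g hgK hgS) θ ψ g2
      rw [(fixes_iff M g (hMn g hgK hgS) ψ).mp hg] at hc
      refine D.corr_injective (fun r hr k k' hk => ?_) g1 hc g2
      show (θ : K → ℂ) (conjEquiv K g hgK k') = (θ : K → ℂ) (conjEquiv K g hgK k)
      refine g1 (g⁻¹ * r * g) (conj_mem_of' hgS hr) _ _ ?_
      simp [hk, mul_assoc]
    exact mem_fixedSet.mpr ⟨g1, hfix x hxK hxS h2, hfix y hyK hyS h3, (hcc θ ψ g2).mpr h4⟩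
  · intro θ hθ
    have h1 := (mem_fixedSet.mp hθ).1
    obtain ⟨g1, g2⟩ := (D.corr_surjective (f θ)).choose_spec
    exact D.corr_injective g1 h1 g2 (hf θ h1)
  · intro ψ hψ
    obtain ⟨g1, g2⟩ := (D.corr_surjective ψ).choose_spec
    exact D.corr_unique _ g1 (hf _ g1) g2
  · intro θ hθ
    obtain ⟨h1, h2, h3, -⟩ := mem_fixedSet.mp hθ
    exact pairSum_eq_corr (Nat.card S) K S M rfl D B hB x hx y hy hxK hyK hxS hyS hxy θ h1 h2 h3 _
      (hf θ h1)

/-- The count when `K S` is normal, `K` a normal `p'`-subgroup. -/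
theorem countZ_eq (S : Sylow p G) (K : Subgroup G) [hKn : K.Normal] (hK : ¬ p ∣ Nat.card K)
    (hKS : (K ⊔ (S : Subgroup G)).Normal) (Z : Subgroup G) (hZ : Z ≤ center G) (ζ : Z →* ℂˣ)
    (hZd : ∀ z : Z, ∃ a b : Z, z = a * b ∧ (a : G) ∈ K ∧ (b : G) ∈ (S : Subgroup G)) :
    countZ p Z ζ (⊤ : Subgroup G) = countZ p Z ζ (normalizer ((S : Subgroup G) : Set G)) := by
  set S' := (S : Subgroup G) with hS'
  set N := normalizer (S' : Set G) with hN
  set M := K ⊓ centralizer (S' : Set G) with hM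
  set P₁ := K ⊔ S' with hP₁
  set P₂ := M ⊔ S' with hP₂
  have hnK : ∀ g : G, g ∈ normalizer (K : Set G) := fun g => by
    rw [normalizer_eq_top_iff.mpr hKn]; exact mem_top g
  have hnP₁ : ∀ g : G, g ∈ normalizer (P₁ : Set G) := fun g => by
    rw [normalizer_eq_top_iff.mpr hKS]; exact mem_top g
  have DC : CoprimeData p K S' M := ⟨fun s _ => hnK s, S.isPGroup', hK, rfl⟩
  have hMK : M ≤ K := inf_le_left
  have hMp : ¬ p ∣ Nat.card M := fun h => hK (h.trans (card_dvd_of_le hMK))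
  have hnM : ∀ g ∈ N, g ∈ normalizer (M : Set G) := fun g hg =>
    Coprime.le_normalizer_inf (A := zpowers g) (zpowers_le.mpr (hnK g))
      (Coprime.le_normalizer_centralizer (zpowers_le.mpr hg)) (mem_zpowers g)
  have D₁ : Semidirect p K S' P₁ := ⟨fun s _ => hnK s, hK, S.isPGroup', rfl⟩
  have D₂ : Semidirect p M S' P₂ :=
    ⟨fun s hs => hnM s (Subgroup.le_normalizer hs), hMp, S.isPGroup', rfl⟩
  have hMN : M ≤ N := fun m hm => by
    refine Coprime.le_normalizer_of_conj_mem (A := centralizer (S' : Set G))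
      (fun a ha s hs => ?_) hm.2
    rw [← mem_centralizer_iff.mp ha s hs, mul_inv_cancel_right]; exact hs
  have hP₂N : P₂ ≤ N := sup_le hMN Subgroup.le_normalizer
  have hNP₂ : N ≤ normalizer (P₂ : Set G) := fun g hg =>
    normalizer_sup (hnM g hg) fun s hs => mem_sup_right (conj_mem_of hg hs)
  have hP₂₁ : P₂ ≤ P₁ := sup_le_sup_right hMK _
  have hcop : (Nat.card K).Coprime (Nat.card S') := D₁.coprime
  have hP₁N : ∀ g ∈ N, g ∈ P₁ → g ∈ P₂ := by
    intro g hgN hg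
    obtain ⟨k, hk, s, hs, rfl⟩ := Coprime.exists_mul_of_mem_sup (fun s _ => hnK s) hg
    refine mul_mem_sup (mem_inf.mpr ⟨hk, mem_centralizer_iff.mpr fun t ht => ?_⟩) hs
    have hkN : k ∈ N := by
      have := mul_mem hgN (inv_mem (Subgroup.le_normalizer hs : s ∈ N))
      rwa [mul_inv_cancel_right] at this
    have h1 : k * t * k⁻¹ * t⁻¹ ∈ S' := mul_mem (conj_mem_of hkN ht) (inv_mem ht)
    have h2 : k * t * k⁻¹ * t⁻¹ ∈ K := by
      have := mul_mem hk (conj_mem_of (hnK t) (inv_mem hk))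
      simpa [mul_assoc] using this
    have h3 := Coprime.inf_eq_bot_of_coprime' hcop h2 h1
    exact (mul_inv_eq_iff_eq_mul.mp (mul_inv_eq_one.mp h3)).symm
  have hZ' : ∀ z : Z, ∃ a b : Z, z = a * b ∧ (a : G) ∈ M ∧ (b : G) ∈ S' := fun z => by
    obtain ⟨a, b, h, ha, hb⟩ := hZd z
    exact ⟨a, b, h, mem_inf.mpr ⟨ha, mem_centralizer_iff.mpr fun s _ =>
      mem_center_iff.mp (hZ a.2) s⟩, hb⟩
  have hZP₂ : Z ≤ P₂ := fun z hz => by
    obtain ⟨a, b, h, ha, hb⟩ := hZ' ⟨z, hz⟩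
    rw [show z = (a : G) * b from congrArg Subtype.val h]
    exact mul_mem_sup ha hb
  have hSidx : ¬ p ∣ S'.index := S.not_dvd_index
  have hi₁ : ¬ p ∣ P₁.relIndex ⊤ := fun h => hSidx (by
    rw [relIndex_top_right] at h
    exact h.trans (index_dvd_of_le le_sup_right))
  have hi₂ : ¬ p ∣ P₂.relIndex N := fun h => hSidx
    (h.trans ((relIndex_dvd_of_le_left N le_sup_right).trans
      (relIndex_dvd_index_of_le Subgroup.le_normalizer)))
  have h₁ := countZ_mul (p := p) Z hZ ζ (P := P₁) (J := ⊤) le_top (fun g _ => hnP₁ g)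
    (hZP₂.trans hP₂₁) hi₁
  have h₂ := countZ_mul (p := p) Z hZ ζ hP₂N hNP₂ hZP₂ hi₂
  -- the two coset spaces
  haveI hn₁ : (P₁.subgroupOf (⊤ : Subgroup G)).Normal :=
    ⟨fun n hn g => conj_mem_of (hnP₁ g) hn⟩
  haveI hn₂ : (P₂.subgroupOf N).Normal := ⟨fun n hn g => conj_mem_of (hNP₂ g.2) hn⟩
  let f : N ⧸ P₂.subgroupOf N →* (⊤ : Subgroup G) ⧸ P₁.subgroupOf ⊤ :=
    QuotientGroup.map _ _ (Subgroup.inclusion le_top) fun g hg => hP₂₁ hg
  have hfbij : Function.Bijective f := by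
    constructor
    · rw [injective_iff_map_eq_one]
      intro q hq
      induction q using QuotientGroup.induction_on with
      | H g =>
        have h1 : Subgroup.inclusion (le_top : N ≤ ⊤) g ∈ P₁.subgroupOf ⊤ :=
          (QuotientGroup.eq_one_iff _).mp hq
        exact (QuotientGroup.eq_one_iff g).mpr (show (g : G) ∈ P₂ from hP₁N g g.2 h1)
    · intro q
      induction q using QuotientGroup.induction_on with
      | H g =>
        have hg : (g : G) ∈ N ⊔ P₁ := by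
          haveI : P₁.Normal := hKS
          have h' : normalizer ((S : Subgroup G) : Set G) ⊔ P₁ = ⊤ :=
            Sylow.normalizer_sup_eq_top' (N := P₁) S le_sup_right
          rw [hN, hS', h']
          exact mem_top _
        haveI : P₁.Normal := hKS
        obtain ⟨n, hn, a, ha, e⟩ := Subgroup.mem_sup_of_normal_right.mp hg
        refine ⟨((⟨n, hn⟩ : N) : N ⧸ P₂.subgroupOf N), QuotientGroup.eq.mpr ?_⟩
        show n⁻¹ * (g : G) ∈ P₁
        rw [← e, inv_mul_cancel_left]; exact ha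
  have hidx : P₂.relIndex N = P₁.relIndex ⊤ := by
    show (P₂.subgroupOf N).index = (P₁.subgroupOf ⊤).index
    rw [index_eq_card, index_eq_card]
    exact Nat.card_eq_of_bijective f hfbij
  -- a complement of `S` in its normalizer
  haveI : (S'.subgroupOf N).Normal := normal_in_normalizer
  obtain ⟨B₀, hB₀⟩ := exists_right_complement'_of_coprime (N := S'.subgroupOf N) (by
    rw [Nat.card_congr (subgroupOfEquivOfLe (Subgroup.le_normalizer : S' ≤ N)).toEquiv]
    obtain ⟨k, hk⟩ := S.isPGroup'.exists_card_eq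
    rw [hk]
    exact Nat.Coprime.pow_left k (hp.out.coprime_iff_not_dvd.mpr fun h =>
      hSidx (h.trans (relIndex_dvd_index_of_le Subgroup.le_normalizer))))
  set B := B₀.map N.subtype with hB
  have hBp : ¬ p ∣ Nat.card B := by
    rw [hB, card_subtype, ← hB₀.symm.index_eq_card]
    exact fun h => hSidx (h.trans (relIndex_dvd_index_of_le Subgroup.le_normalizer))
  have hrep : ∀ g : N, ∃ b ∈ B, b ∈ N ∧ ∃ t ∈ P₂, (g : G) = b * t := by
    intro g
    obtain ⟨⟨⟨a, ha⟩, ⟨b, hb⟩⟩, e⟩ := hB₀.symm.2 g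
    exact ⟨a, ⟨a, ha, rfl⟩, a.2, (b : N), mem_sup_right hb,
      (congrArg Subtype.val e).symm⟩
  obtain ⟨π, hπK, hπS, hπ⟩ := D₂.exists_proj
  have hBM : ∀ g ∈ B, g ∈ P₂ → g ∈ M := by
    intro g hg hgP
    have h1 : orderOf (π ⟨g, hgP⟩) = 1 := by
      have hd : orderOf (π ⟨g, hgP⟩) ∣ Nat.card B :=
        (orderOf_map_dvd π _).trans (by rw [← orderOf_coe]; exact orderOf_dvd_natCard B hg)
      obtain ⟨k, hk⟩ := S.isPGroup'.exists_card_eq
      obtain ⟨j, -, hj⟩ := (Nat.dvd_prime_pow hp.out).mp (hk ▸ orderOf_dvd_natCard (π ⟨g, hgP⟩))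
      rcases Nat.eq_zero_or_pos j with rfl | hj0
      · simpa using hj
      · exact absurd ((dvd_pow_self p hj0.ne').trans (hj ▸ hd)) hBp
    have h2 := hπ ⟨g, hgP⟩
    rw [orderOf_eq_one_iff.mp h1] at h2
    simpa using h2
  have hkey : ∀ a b : N, ∑ η ∈ goodSet p Z ζ P₁, pairSum P₁ (η : P₁ → ℂ) (a : G) b =
      ∑ η ∈ goodSet p Z ζ P₂, pairSum P₂ (η : P₂ → ℂ) (a : G) b := by
    intro a b
    by_cases hc : ⁅(a : G), (b : G)⁆ ∈ P₂
    · obtain ⟨x, hxB, hxN, t, ht, hat⟩ := hrep a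
      obtain ⟨y, hyB, hyN, u, hu, hbu⟩ := hrep b
      have e₁ : ∀ η : IrrCharacter P₁, pairSum P₁ (η : P₁ → ℂ) (a : G) b =
          pairSum P₁ (η : P₁ → ℂ) x y := fun η => by
        rw [hat, hbu]
        exact pairSum_mul_right P₁ _ x y ⟨t, hP₂₁ ht⟩ ⟨u, hP₂₁ hu⟩
      have e₂ : ∀ η : IrrCharacter P₂, pairSum P₂ (η : P₂ → ℂ) (a : G) b =
          pairSum P₂ (η : P₂ → ℂ) x y := fun η => by
        rw [hat, hbu]
        exact pairSum_mul_right P₂ _ x y ⟨t, ht⟩ ⟨u, hu⟩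
      simp only [e₁, e₂]
      have hxyP : ⁅x, y⁆ ∈ P₂ := by
        have h' : ((⁅(⟨x, hxN⟩ : N), (⟨y, hyN⟩ : N)⁆ : N) : N ⧸ P₂.subgroupOf N) =
            ((⁅a, b⁆ : N) : N ⧸ P₂.subgroupOf N) := by
          have ea : ((⟨x, hxN⟩ : N) : N ⧸ P₂.subgroupOf N) = (a : N ⧸ P₂.subgroupOf N) :=
            QuotientGroup.eq.mpr (show x⁻¹ * (a : G) ∈ P₂ by rw [hat, inv_mul_cancel_left]; exact ht)
          have eb : ((⟨y, hyN⟩ : N) : N ⧸ P₂.subgroupOf N) = (b : N ⧸ P₂.subgroupOf N) :=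
            QuotientGroup.eq.mpr (show y⁻¹ * (b : G) ∈ P₂ by rw [hbu, inv_mul_cancel_left]; exact hu)
          simp only [← QuotientGroup.mk'_apply, map_commutatorElement]
          simp only [QuotientGroup.mk'_apply, ea, eb]
        rw [(QuotientGroup.eq_one_iff (⁅a, b⁆ : N)).mpr (show ((⁅a, b⁆ : N) : G) ∈ P₂ from hc)] at h'
        exact ((QuotientGroup.eq_one_iff (⁅(⟨x, hxN⟩ : N), (⟨y, hyN⟩ : N)⁆ : N)).mp h' :)
      have hxyM : ⁅x, y⁆ ∈ M := hBM _ (mul_mem (mul_mem (mul_mem hxB hyB) (inv_mem hxB))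
        (inv_mem hyB) : x * y * x⁻¹ * y⁻¹ ∈ B) hxyP
      rw [sum_goodSet D₁ Z hZ ζ hZd x y (hnK x) (hnK y) hxN hyN (hMK hxyM),
        sum_goodSet D₂ Z hZ ζ hZ' x y (hnM x hxN) (hnM y hyN) hxN hyN hxyM,
        sum_fixedSet_eq DC Z hZ ζ hBp hxB hyB (hnK x) (hnK y) hxN hyN hxyM]
    · rw [Finset.sum_eq_zero fun η _ => pairSum_notMem P₁ _ (hnP₁ a) (hnP₁ b) fun h => hc (hP₁N _
        (mul_mem (mul_mem (mul_mem a.2 b.2) (inv_mem a.2)) (inv_mem b.2)) h),
        Finset.sum_eq_zero fun η _ => pairSum_notMem P₂ _ (hNP₂ a.2) (hNP₂ b.2) hc]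
  have hchange : ∀ q r : N ⧸ P₂.subgroupOf N, ∑ η ∈ goodSet p Z ζ P₁,
      pairSum P₁ (η : P₁ → ℂ) (((f q).out : (⊤ : Subgroup G)) : G) (((f r).out : (⊤ : Subgroup G)) : G) =
      ∑ η ∈ goodSet p Z ζ P₁, pairSum P₁ (η : P₁ → ℂ) ((q.out : N) : G) ((r.out : N) : G) := by
    intro q r
    have hd : ∀ q : N ⧸ P₂.subgroupOf N,
        ((q.out : N) : G)⁻¹ * (((f q).out : (⊤ : Subgroup G)) : G) ∈ P₁ := by
      intro q
      have h1 : ((Subgroup.inclusion le_top q.out : (⊤ : Subgroup G)) :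
          (⊤ : Subgroup G) ⧸ P₁.subgroupOf ⊤) = ((f q).out : (⊤ : Subgroup G) ⧸ P₁.subgroupOf ⊤) := by
        rw [QuotientGroup.out_eq']
        conv_rhs => rw [← QuotientGroup.out_eq' q]
        rfl
      exact (QuotientGroup.eq.mp h1 :)
    refine Finset.sum_congr rfl fun η _ => ?_
    have h := pairSum_mul_right P₁ (η : P₁ → ℂ) ((q.out : N) : G) ((r.out : N) : G)
      ⟨_, hd q⟩ ⟨_, hd r⟩
    simp only [mul_inv_cancel_left] at h
    exact h
  have hsum : (countZ p Z ζ (⊤ : Subgroup G) : ℂ) * P₁.relIndex ⊤ =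
      (countZ p Z ζ N : ℂ) * P₂.relIndex N := by
    rw [h₁, h₂]
    refine (Fintype.sum_equiv (Equiv.ofBijective f hfbij) _ _ fun q => ?_).symm
    refine Fintype.sum_equiv (Equiv.ofBijective f hfbij) _ _ fun r => ?_
    rw [← hkey q.out r.out, ← hchange q r]
    rfl
  rw [hidx] at hsum
  have h0 : (P₁.relIndex ⊤ : ℂ) ≠ 0 := Nat.cast_ne_zero.mpr (by
    rw [relIndex_top_right]; exact index_ne_zero_of_finite)
  exact_mod_cast mul_right_cancel₀ h0 hsum

end Cfsg.Agent.PMcKay87
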