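import Cfsg.Agent.Lib.CharCore.Glauberman
import Cfsg.Agent.Lib.CharCore.Equiv
import Cfsg.Agent.Lib.CharInd.Char
import Cfsg.Agent.Lib.CharClifford.Central
import Cfsg.Agent.Lib.CharClifford.Clifford
import Cfsg.Agent.CharDeep.Ext.Avg

/-!
Counting the irreducible characters over a stable set of characters of a normal subgroup, and the
commutator sums occurring in that count.
-/

set_option autoImplicit false

namespace Cfsg.Agent.PMcKay87

open scoped ComplexConjugate commutatorElement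
open Cfsg (extendByZero classInner)

attribute [local instance] Fintype.ofFinite

variable {G : Type*} [Group G] [Finite G]

open scoped Classical in
theorem sum_irr_eq_card (g h : G) :
    ∑ χ : Cfsg.IrrCharacter G, (χ : G → ℂ) g * conj ((χ : G → ℂ) h) =
      ∑ y : G, if y * h * y⁻¹ = g then (1 : ℂ) else 0 := by
  rw [CharCore.sum_apply_mul_conj, Finset.sum_boole]
  split_ifs with hc
  · obtain ⟨c, hc⟩ := isConj_iff.mp hc.symm
    norm_cast
    rw [← Nat.card_eq_finsetCard]
    refine Nat.card_congr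
      { toFun := fun z => ⟨z * c, Finset.mem_filter.mpr ⟨Finset.mem_univ _, ?_⟩⟩
        invFun := fun y => ⟨y * c⁻¹, ?_⟩
        left_inv := fun z => Subtype.ext (by simp)
        right_inv := fun y => Subtype.ext (by simp) }
    · have hz := Subgroup.mem_centralizer_singleton_iff.mp z.2
      calc (z : G) * c * h * ((z : G) * c)⁻¹ = z * (c * h * c⁻¹) * (z : G)⁻¹ := by group
        _ = z * g * (z : G)⁻¹ := by rw [hc]
        _ = g * z * (z : G)⁻¹ := by rw [hz]
        _ = g := by group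
    · have hy := (Finset.mem_filter.mp y.2).2
      rw [Subgroup.mem_centralizer_singleton_iff]
      calc (y : G) * c⁻¹ * g = (y : G) * c⁻¹ * (c * h * c⁻¹) := by rw [hc]
        _ = ((y : G) * h * (y : G)⁻¹) * ((y : G) * c⁻¹) := by group
        _ = g * ((y : G) * c⁻¹) := by rw [hy]
  · rw [Finset.filter_eq_empty_iff.mpr fun y _ hy => hc (isConj_iff.mpr ⟨y, hy⟩).symm,
      Finset.card_empty, Nat.cast_zero]

/-- The commutator sum of `η` on a pair of cosets. -/
noncomputable def pairSum (H : Subgroup G) (η : H → ℂ) (x y : G) : ℂ :=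
  η 1 / (Nat.card H : ℂ) ^ 2 * ∑ k : H, ∑ l : H, extendByZero H η ⁅x * k, y * l⁆

/-- The number of irreducible characters over a stable set of characters of a normal subgroup. -/
theorem card_over_eq_sum (H : Subgroup G) [H.Normal] (E : Finset (Cfsg.IrrCharacter H))
    (hE : ∀ g : G, ∀ η ∈ E, ∃ η' ∈ E, (η' : H → ℂ) = CharClifford.conjFun H g (η : H → ℂ)) :
    (Nat.card {χ : Cfsg.IrrCharacter G //
        ∃ η ∈ E, classInner (fun h : H => (χ : G → ℂ) h) η ≠ 0} : ℂ) * Nat.card H * Nat.card G =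
      ∑ η ∈ E, (η : H → ℂ) 1 * ∑ x : G, ∑ y : G, extendByZero H (η : H → ℂ) ⁅x, y⁆ := by
  classical
  let _ : Fintype H := Fintype.ofFinite H
  let f : G → ℂ := fun a => ∑ η ∈ E, (η : H → ℂ) 1 * extendByZero H (η : H → ℂ) a
  have hf : Cfsg.IsClassFunction G f := by
    intro a g
    choose σ hσE hσ using fun η : {η // η ∈ E} => hE g η.1 η.2
    have hinj : Function.Injective (fun η : {η // η ∈ E} => (⟨σ η, hσE η⟩ : {η // η ∈ E})) := by
      intro η₁ η₂ h
      have h' := congrArg (fun η : {η // η ∈ E} => (η.1 : H → ℂ)) h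
      simp only [hσ] at h'
      refine Subtype.ext (Subtype.ext (funext fun n => ?_))
      have hn := congrFun h' ⟨g⁻¹ * n * g, by
        simpa using (inferInstance : H.Normal).conj_mem (n : G) n.2 g⁻¹⟩
      simp only [CharClifford.conjFun_apply] at hn
      simpa [mul_assoc] using hn
    let e := Equiv.ofBijective _ (Finite.injective_iff_bijective.mp hinj)
    simp only [f]
    rw [← Finset.sum_coe_sort E, ← Finset.sum_coe_sort E]
    refine Fintype.sum_equiv e _ _ fun η => ?_
    show _ = (σ η : H → ℂ) 1 * extendByZero H (σ η : H → ℂ) a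
    have hH : g * a * g⁻¹ ∈ H ↔ a ∈ H :=
      ⟨fun h => by simpa [mul_assoc] using (inferInstance : H.Normal).conj_mem _ h g⁻¹,
        fun h => (inferInstance : H.Normal).conj_mem _ h g⟩
    congr 1
    · rw [hσ, CharClifford.conjFun_apply]
      exact congrArg _ (Subtype.ext (by simp))
    · by_cases ha : a ∈ H
      · rw [CharInd.extendByZero_mem _ ha, CharInd.extendByZero_mem _ (hH.mpr ha), hσ,
          CharClifford.conjFun_apply]
      · rw [CharInd.extendByZero_notMem _ ha, CharInd.extendByZero_notMem _ fun h => ha (hH.mp h)]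
  have hind : ∀ χ : Cfsg.IrrCharacter G, classInner f χ * Nat.card G =
      if (∃ η ∈ E, classInner (fun h : H => (χ : G → ℂ) h) η ≠ 0) then
        (χ : G → ℂ) 1 * Nat.card H else 0 := by
    intro χ
    have h1 : classInner f χ * Nat.card G = (Nat.card H : ℂ) *
        ∑ η ∈ E, (η : H → ℂ) 1 * classInner (η : H → ℂ) (fun h : H => (χ : G → ℂ) h) := by
      rw [CharCore.classInner_def, mul_right_comm, inv_mul_cancel₀
        (Nat.cast_ne_zero.mpr Nat.card_pos.ne'), one_mul]
      simp only [f, Finset.sum_mul, CharCore.classInner_def, Finset.mul_sum]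
      rw [Finset.sum_comm]
      refine Finset.sum_congr rfl fun η _ => ?_
      rw [← Finset.sum_filter_add_sum_filter_not Finset.univ (fun a : G => a ∈ H),
        Finset.sum_eq_zero (s := Finset.univ.filter fun a : G => a ∉ H) (fun a ha => by
          rw [CharInd.extendByZero_notMem _ (Finset.mem_filter.mp ha).2, mul_zero, zero_mul]),
        add_zero, Finset.sum_subtype (p := fun a => a ∈ H) _ (fun a => by simp)]
      refine Finset.sum_congr rfl fun h _ => ?_
      rw [CharInd.extendByZero_mem _ h.2]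
      have : (Nat.card H : ℂ) ≠ 0 := Nat.cast_ne_zero.mpr Nat.card_pos.ne'
      field_simp
    rw [h1]
    have hconj : ∀ η : Cfsg.IrrCharacter H,
        classInner (η : H → ℂ) (fun h : H => (χ : G → ℂ) h) =
          classInner (fun h : H => (χ : G → ℂ) h) η := fun η => by
      obtain ⟨k, hk⟩ := CharCore.IsCharacter.exists_classInner_irr_eq_natCast
        (CharCore.isCharacter_restrict (CharCore.irr_isCharacter χ) H) η
      rw [← CharCore.conj_classInner, hk, Complex.conj_natCast]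
    simp only [hconj]
    split_ifs with hc
    · rw [mul_comm]
      congr 1
      obtain ⟨η₀, hη₀, h0⟩ := hc
      have hsum := congrFun (CharCore.IsCharacter.eq_sum_classInner
        (CharCore.isCharacter_restrict (CharCore.irr_isCharacter χ) H)) 1
      simp only [Finset.sum_apply, Pi.smul_apply, smul_eq_mul, Subgroup.coe_one] at hsum
      rw [hsum]
      refine (Finset.sum_congr rfl fun η _ => mul_comm _ _).trans
        (Finset.sum_subset (Finset.subset_univ E) fun η _ hη => ?_)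
      by_contra hne
      apply hη
      obtain ⟨g, hg⟩ := CharClifford.exists_conjFun_eq_of_constituents H χ.2 η₀.2 η.2 h0
        (fun h => hne (by simp [h]))
      obtain ⟨η', h', he⟩ := hE g η₀ hη₀
      rwa [show η = η' from Subtype.ext (hg.trans he.symm)]
    · push Not at hc
      rw [Finset.sum_eq_zero fun η hη => by rw [hc η hη, mul_zero], mul_zero]
  have hLHS : (Nat.card {χ : Cfsg.IrrCharacter G //
      ∃ η ∈ E, classInner (fun h : H => (χ : G → ℂ) h) η ≠ 0} : ℂ) * Nat.card H * Nat.card G =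
      ∑ x : G, ∑ a : G, f a * ∑ χ : Cfsg.IrrCharacter G,
        (χ : G → ℂ) (a⁻¹ * x) * conj ((χ : G → ℂ) x) := by
    simp only [Finset.mul_sum, ← mul_assoc]
    rw [Finset.sum_congr rfl fun x _ => Finset.sum_comm, Finset.sum_comm]
    have : ∀ χ : Cfsg.IrrCharacter G,
        ∑ x : G, ∑ a : G, f a * (χ : G → ℂ) (a⁻¹ * x) * conj ((χ : G → ℂ) x) =
          if (∃ η ∈ E, classInner (fun h : H => (χ : G → ℂ) h) η ≠ 0) then
            (Nat.card H : ℂ) * Nat.card G else 0 := fun χ => by
      simp only [← Finset.sum_mul]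
      simp only [CharCore.sum_mul_apply_inv_mul hf χ, mul_comm (Nat.card G : ℂ) (classInner f χ),
        hind χ]
      split_ifs
      · rw [Finset.sum_congr rfl fun x _ => show
          (χ : G → ℂ) 1 * Nat.card H / (χ : G → ℂ) 1 * (χ : G → ℂ) x * conj ((χ : G → ℂ) x) =
            (Nat.card H : ℂ) * ((χ : G → ℂ) x * conj ((χ : G → ℂ) x)) by
          rw [mul_div_cancel_left₀ _ (CharCore.irr_apply_one_ne_zero χ), mul_assoc],
          ← Finset.mul_sum]
        congr 1
        have h := CharCore.classInner_irr_self χ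
        rwa [CharCore.classInner_def, inv_mul_eq_one₀ (Nat.cast_ne_zero.mpr Nat.card_pos.ne'),
          eq_comm] at h
      · simp
    rw [Finset.sum_congr rfl fun χ _ => this χ, ← Finset.sum_filter, Finset.sum_const,
      nsmul_eq_mul, Nat.card_eq_fintype_card (α := Subtype _), Fintype.card_subtype, mul_assoc]
  refine hLHS.trans ?_
  simp only [sum_irr_eq_card, Finset.mul_sum, mul_ite, mul_one, mul_zero]
  rw [Finset.sum_congr rfl fun x _ => Finset.sum_comm, Finset.sum_comm (s := E)]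
  refine Finset.sum_congr rfl fun x _ => ?_
  rw [Finset.sum_comm (s := E)]
  refine Finset.sum_congr rfl fun y _ => ?_
  rw [Finset.sum_eq_single ⁅x, y⁆]
  · rw [if_pos (by rw [commutatorElement_def]; group)]
  · intro a _ ha
    refine if_neg fun h => ha ?_
    rw [commutatorElement_def, show a = x * (a⁻¹ * x)⁻¹ by group, ← h]
    group
  · exact fun h => absurd (Finset.mem_univ _) h

theorem sum_eq_sum_cosets (H : Subgroup G) (F : G → ℂ) :
    ∑ x : G, F x = ∑ q : G ⧸ H, ∑ k : H, F (q.out * k) := by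
  rw [← Fintype.sum_prod_type']
  let e : G ≃ (G ⧸ H) × H :=
    { toFun := fun x => (x, ⟨(x : G ⧸ H).out⁻¹ * x, QuotientGroup.eq.mp (QuotientGroup.out_eq' _)⟩)
      invFun := fun qk => qk.1.out * (qk.2 : G)
      left_inv := fun x => by simp
      right_inv := fun qk => by
        have h : ((qk.1.out * (qk.2 : G) : G) : G ⧸ H) = qk.1 := by
          rw [QuotientGroup.mk_mul_of_mem _ qk.2.2, QuotientGroup.out_eq']
        refine Prod.ext h (Subtype.ext ?_)
        simp [h] }
  exact Fintype.sum_equiv e _ _ fun x => by simp [e]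

/-- The count as a sum over pairs of cosets. -/
theorem card_over_mul_index (H : Subgroup G) [H.Normal] (E : Finset (Cfsg.IrrCharacter H))
    (hE : ∀ g : G, ∀ η ∈ E, ∃ η' ∈ E, (η' : H → ℂ) = CharClifford.conjFun H g (η : H → ℂ)) :
    (Nat.card {χ : Cfsg.IrrCharacter G //
        ∃ η ∈ E, classInner (fun h : H => (χ : G → ℂ) h) η ≠ 0} : ℂ) * H.index =
      ∑ q : G ⧸ H, ∑ r : G ⧸ H, ∑ η ∈ E, pairSum H (η : H → ℂ) q.out r.out := by
  have hH : (Nat.card H : ℂ) ≠ 0 := Nat.cast_ne_zero.mpr Nat.card_pos.ne'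
  refine mul_right_cancel₀ (pow_ne_zero 2 hH) ?_
  have h := card_over_eq_sum H E hE
  rw [← H.index_mul_card, Nat.cast_mul] at h
  calc _ = ∑ η ∈ E, (η : H → ℂ) 1 * ∑ x : G, ∑ y : G, extendByZero H (η : H → ℂ) ⁅x, y⁆ := by
        rw [← h]; ring
    _ = _ := by
        rw [Finset.sum_mul]
        simp only [Finset.sum_mul]
        rw [Finset.sum_congr rfl fun q _ => Finset.sum_comm, Finset.sum_comm]
        refine Finset.sum_congr rfl fun η _ => ?_
        rw [sum_eq_sum_cosets H, Finset.mul_sum]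
        refine Finset.sum_congr rfl fun q _ => ?_
        simp only [sum_eq_sum_cosets H (fun y => extendByZero H (η : H → ℂ) ⁅q.out * _, y⁆)]
        rw [Finset.sum_comm, Finset.mul_sum]
        refine Finset.sum_congr rfl fun r _ => ?_
        rw [pairSum]
        field_simp

theorem pairSum_mul_right (H : Subgroup G) (η : H → ℂ) (x y : G) (h h' : H) :
    pairSum H η (x * h) (y * h') = pairSum H η x y := by
  simp only [pairSum]
  congr 1
  refine Fintype.sum_equiv (Equiv.mulLeft h) _ _ fun k => ?_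
  refine Fintype.sum_equiv (Equiv.mulLeft h') _ _ fun l => ?_
  simp [mul_assoc]

theorem pairSum_swap (H : Subgroup G) (η : Cfsg.IrrCharacter H) (x y : G) :
    pairSum H (η : H → ℂ) y x = conj (pairSum H (η : H → ℂ) x y) := by
  obtain ⟨d, -, hd⟩ := CharCore.IsIrrCharacter.exists_degree η.2
  simp only [pairSum, map_mul, map_div₀, map_pow, Complex.conj_natCast, hd, map_sum]
  congr 1
  rw [Finset.sum_comm]
  refine Finset.sum_congr rfl fun l _ => Finset.sum_congr rfl fun k _ => ?_
  rw [← commutatorElement_inv (x * (l : G)) (y * (k : G))]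
  by_cases hm : ⁅x * (l : G), y * (k : G)⁆ ∈ H
  · rw [CharInd.extendByZero_mem _ hm, CharInd.extendByZero_mem _ (inv_mem hm),
      ← CharCore.irr_apply_inv]
    rfl
  · rw [CharInd.extendByZero_notMem _ hm, CharInd.extendByZero_notMem _ (fun h => hm (inv_mem_iff.mp h)),
      map_zero]

theorem pairSum_shear (H : Subgroup G) (η : H → ℂ) (x y : G)
    (hx : x ∈ Subgroup.normalizer (H : Set G)) :
    pairSum H η x (y * x) = pairSum H η x y := by
  simp only [pairSum]
  congr 1
  refine Finset.sum_congr rfl fun k _ => ?_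
  refine Fintype.sum_equiv ((Equiv.mulRight k⁻¹ : H ≃ H).trans
    { toFun := fun l : H => (⟨x * l * x⁻¹, (Subgroup.mem_normalizer_iff.mp hx l).mp l.2⟩ : H)
      invFun := fun l : H => ⟨x⁻¹ * l * x, by
        have := (Subgroup.mem_normalizer_iff.mp (inv_mem hx) l).mp l.2
        simpa using this⟩
      left_inv := fun l => Subtype.ext (by simp [mul_assoc])
      right_inv := fun l => Subtype.ext (by simp [mul_assoc]) }) _ _ fun l => ?_
  congr 1
  simp only [Equiv.trans_apply, Equiv.coe_mulRight, Equiv.coe_fn_mk, Subgroup.coe_mul,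
    Subgroup.coe_inv, commutatorElement_def]
  group

section Schur

variable {X : Type*} [Group X] [Finite X] (K : Subgroup X)

/-- Schur averaging of a character with irreducible restriction. -/
theorem sum_conj_mul {η : X → ℂ} (hη : Cfsg.IsIrrCharacter X η)
    (hK : Cfsg.IsIrrCharacter K (fun k : K => η k)) (u v : X) :
    (∑ k : K, η ((k : X) * u * (k : X)⁻¹ * v)) * η 1 = (Nat.card K : ℂ) * (η u * η v) := by
  obtain ⟨n, ρ, hρ, rfl⟩ := hη
  let σ : Representation ℂ K (Fin n → ℂ) := ρ.comp K.subtype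
  have : σ.IsIrreducible := by
    obtain ⟨m, τ, hτ, hch⟩ := hK
    refine (CharCore.isIrreducible_iff σ).mpr ?_
    rw [show σ.character = τ.character from hch.symm]
    exact (CharCore.isIrreducible_iff τ).mp hτ
  have hcomm : ∀ g : K, Commute (∑ k : K, σ k * ρ u * σ k⁻¹) (σ g) := by
    intro g
    rw [Commute, SemiconjBy, Finset.sum_mul, Finset.mul_sum]
    refine (Fintype.sum_equiv (Equiv.mulLeft g) _ _ fun k => ?_).symm
    simp only [Equiv.coe_mulLeft, mul_inv_rev, map_mul, mul_assoc]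
    rw [← map_mul σ g⁻¹ g, inv_mul_cancel, map_one, mul_one]
  obtain ⟨c, hc⟩ := CharClifford.exists_scalar_of_commute σ _ hcomm
  have h1 : (∑ k : K, ρ.character ((k : X) * u * (k : X)⁻¹ * v)) = c * ρ.character v := by
    have h := congrArg (fun T => LinearMap.trace ℂ _ (T * ρ v)) hc
    simp only [Finset.sum_mul, map_sum, smul_mul_assoc, one_mul, map_smul, smul_eq_mul] at h
    refine Eq.trans (Finset.sum_congr rfl fun k _ => ?_) h
    show LinearMap.trace ℂ _ (ρ ((k : X) * u * (k : X)⁻¹ * v)) = _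
    simp [σ, map_mul]
  have h2 : (Nat.card K : ℂ) * ρ.character u = c * n := by
    have h := congrArg (LinearMap.trace ℂ _) hc
    simp only [map_sum, map_smul, smul_eq_mul, LinearMap.trace_one, Module.finrank_fin_fun] at h
    rw [← h, Nat.card_eq_fintype_card, ← Finset.card_univ, ← nsmul_eq_mul, ← Finset.sum_const]
    refine Finset.sum_congr rfl fun k _ => ?_
    rw [mul_assoc, LinearMap.trace_mul_comm, mul_assoc, ← map_mul, inv_mul_cancel, map_one, mul_one]
    rfl
  rw [h1, ← mul_assoc, h2, Representation.char_one, Module.finrank_fin_fun]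
  ring

/-- The averaged product of two inequivalent conjugates vanishes. -/
theorem sum_conj_eq_zero (η : Cfsg.IrrCharacter K) (g v : X) (hg : g ∈ Subgroup.normalizer (K : Set X))
    (hv : v ∈ K) (hne : ∃ k k' : K, (k' : X) = g * k * g⁻¹ ∧ (η : K → ℂ) k' ≠ (η : K → ℂ) k) :
    ∑ k : K, extendByZero K (η : K → ℂ) ((k : X) * (g * (k : X)⁻¹ * g⁻¹) * v) = 0 := by
  obtain ⟨n, σ, hσ, hch⟩ := η.2
  have := hσ
  let c : K →* K :=
    { toFun := fun k => ⟨g * k * g⁻¹, (Subgroup.mem_normalizer_iff.mp hg k).mp k.2⟩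
      map_one' := Subtype.ext (by simp)
      map_mul' := fun a b => Subtype.ext (by simp [mul_assoc]) }
  have hcs : Function.Surjective c := fun k =>
    ⟨⟨g⁻¹ * k * g, by simpa using (Subgroup.mem_normalizer_iff.mp (inv_mem hg) k).mp k.2⟩,
      Subtype.ext (by simp [c, mul_assoc])⟩
  let σ' : Representation ℂ K (Fin n → ℂ) := σ.comp c
  let P : Module.End ℂ (Fin n → ℂ) := ∑ k : K, σ k * σ' k⁻¹
  have hP : ∀ h : K, σ h * P = P * σ' h := by
    intro h
    show σ h * (∑ k : K, σ k * σ' k⁻¹) = (∑ k : K, σ k * σ' k⁻¹) * σ' h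
    rw [Finset.mul_sum, Finset.sum_mul]
    refine Fintype.sum_equiv (Equiv.mulLeft h) _ _ fun k => ?_
    simp only [Equiv.coe_mulLeft, mul_inv_rev, map_mul, mul_assoc]
    rw [← map_mul σ' h⁻¹ h, inv_mul_cancel, map_one, mul_one]
  let F : Representation.IntertwiningMap σ' σ := ⟨P, fun h => (hP h).symm⟩
  have hrank : Module.finrank ℂ (Representation.IntertwiningMap σ' σ) = 0 := by
    have h := CharCore.classInner_eq_finrank_intertwiningMap σ' σ
    have hne' : (η : Cfsg.IrrCharacter K) ≠ ⟨fun k => (η : K → ℂ) (c k),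
        CharCore.isIrrCharacter_comp_surjective η.2 c hcs⟩ := by
      intro he
      obtain ⟨k, k', hk, hkk⟩ := hne
      refine hkk ?_
      rw [show k' = c k from Subtype.ext hk]
      exact (congrFun (congrArg Subtype.val he) k).symm
    rw [show σ.character = (η : K → ℂ) from hch,
      show σ'.character = fun k => (η : K → ℂ) (c k) from funext fun k => by rw [← hch]; rfl,
      CharCore.classInner_irr_of_ne hne'] at h
    exact_mod_cast h.symm
  have hP0 : P = 0 := by
    have := Module.finrank_zero_iff.mp hrank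
    exact congrArg Representation.IntertwiningMap.toLinearMap (Subsingleton.elim F 0)
  have h := congrArg (fun T => LinearMap.trace ℂ _ (T * σ ⟨v, hv⟩)) hP0
  simp only [P, Finset.sum_mul, map_sum, zero_mul, map_zero] at h
  refine Eq.trans (Finset.sum_congr rfl fun k _ => ?_) h
  rw [show (k : X) * (g * (k : X)⁻¹ * g⁻¹) * v = ((k * c k⁻¹ * ⟨v, hv⟩ : K) : X) by simp [c],
    CharInd.extendByZero_mem _ (SetLike.coe_mem _), ← hch]
  show LinearMap.trace ℂ _ (σ _) = _
  simp only [σ', MonoidHom.coe_comp, Function.comp_apply, ← map_mul σ]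

theorem sum_norm_coset [K.Normal] {η : X → ℂ} (hη : Cfsg.IsIrrCharacter X η)
    (hK : Cfsg.IsIrrCharacter K (fun k : K => η k)) (g : X) :
    ∑ k : K, η (g * k) * conj (η (g * k)) = (Nat.card K : ℂ) := by
  have h := congrFun (CharDeep.Ext.avg_mul_conj_self (N := K) hη hK) g
  rw [CharDeep.Ext.avg_apply, Pi.one_apply,
    inv_mul_eq_one₀ (Nat.cast_ne_zero.mpr Nat.card_pos.ne')] at h
  rw [h]
  refine Fintype.sum_equiv (MulAut.conjNormal g : MulAut K).toEquiv _ _ fun k => ?_
  show _ = η ((MulAut.conjNormal g k : X) * g) * conj (η ((MulAut.conjNormal g k : X) * g))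
  rw [MulAut.conjNormal_apply, inv_mul_cancel_right]

end Schur

/-- The commutator sum vanishes on pairs moving `η`. -/
theorem pairSum_eq_zero (H : Subgroup G) (η : Cfsg.IrrCharacter H) (x y : G)
    (hx : x ∈ Subgroup.normalizer (H : Set G)) (hy : y ∈ Subgroup.normalizer (H : Set G))
    (hxy : ⁅x, y⁆ ∈ H)
    (hne : ∃ k k' : H, (k' : G) = y * k * y⁻¹ ∧ (η : H → ℂ) k' ≠ (η : H → ℂ) k) :
    pairSum H (η : H → ℂ) x y = 0 := by
  rw [pairSum, Finset.sum_comm, Finset.sum_eq_zero fun l _ => ?_, mul_zero]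
  set g := y * (l : G)
  have hg : g ∈ Subgroup.normalizer (H : Set G) := mul_mem hy (Subgroup.le_normalizer l.2)
  have hgH : ∀ h : H, g * h * g⁻¹ ∈ H := fun h =>
    (Subgroup.mem_normalizer_iff.mp hg h).mp h.2
  have hxg : ⁅x, g⁆ ∈ H := by
    have e : ⁅x, g⁆ = ⁅x, y⁆ * (y * (x * l * x⁻¹ * (l : G)⁻¹) * y⁻¹) := by
      simp only [g, commutatorElement_def]; group
    rw [e]
    exact mul_mem hxy ((Subgroup.mem_normalizer_iff.mp hy _).mp
      (mul_mem ((Subgroup.mem_normalizer_iff.mp hx l).mp l.2) (inv_mem l.2)))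
  have hv : x⁻¹ * ⁅x, g⁆ * x ∈ H := by
    simpa using (Subgroup.mem_normalizer_iff.mp (inv_mem hx) _).mp hxg
  let e : H → ℂ := fun h => (η : H → ℂ) ⟨x * h * x⁻¹, (Subgroup.mem_normalizer_iff.mp hx h).mp h.2⟩
  have he : Cfsg.IsIrrCharacter H e := by
    let c : H →* H :=
      { toFun := fun k => ⟨x * k * x⁻¹, (Subgroup.mem_normalizer_iff.mp hx k).mp k.2⟩
        map_one' := Subtype.ext (by simp)
        map_mul' := fun a b => Subtype.ext (by simp [mul_assoc]) }
    exact CharCore.isIrrCharacter_comp_surjective η.2 c fun k =>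
      ⟨⟨x⁻¹ * k * x, by simpa using (Subgroup.mem_normalizer_iff.mp (inv_mem hx) k).mp k.2⟩,
        Subtype.ext (by simp [c, mul_assoc])⟩
  have hne' : ∃ k k' : H, (k' : G) = g * k * g⁻¹ ∧ e k' ≠ e k := by
    by_contra hall
    push Not at hall
    obtain ⟨k, k', hk, hkk⟩ := hne
    apply hkk
    have hm : ∀ h : H, x⁻¹ * (h : G) * x ∈ H := fun h => by
      simpa using (Subgroup.mem_normalizer_iff.mp (inv_mem hx) h).mp h.2
    have hw : x⁻¹ * y⁻¹ * x * g ∈ H := by
      have := mul_mem (((Subgroup.mem_normalizer_iff.mp (inv_mem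
        (mul_mem hx hy)) _).mp hxy)) l.2
      convert this using 1
      simp only [g, commutatorElement_def]; group
    let j : H := ⟨_, hw⟩
    let k₁ : H := ⟨x⁻¹ * (k : G) * x, hm k⟩
    have h1 := hall (j⁻¹ * k₁ * j) ⟨g * ((j⁻¹ * k₁ * j : H) : G) * g⁻¹, hgH _⟩ rfl
    have h2 : e (j⁻¹ * k₁ * j) = e k₁ := by
      have := CharCore.irr_isClassFunction ⟨e, he⟩ k₁ j⁻¹
      simpa using this
    rw [h2] at h1
    convert h1 using 1
    · refine congrArg (η : H → ℂ) (Subtype.ext ?_)
      simp only [k₁, j, hk, Subgroup.coe_mul, Subgroup.coe_inv]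
      group
    · exact congrArg (η : H → ℂ) (Subtype.ext (by simp [k₁, mul_assoc]))
  rw [← sum_conj_eq_zero H ⟨e, he⟩ g _ hg hv hne']
  refine Finset.sum_congr rfl fun k _ => ?_
  have hm : (k : G) * (g * (k : G)⁻¹ * g⁻¹) * (x⁻¹ * ⁅x, g⁆ * x) ∈ H :=
    mul_mem (mul_mem k.2 (by simpa using hgH k⁻¹)) hv
  rw [CharInd.extendByZero_mem _ hm, show ⁅x * (k : G), g⁆ =
    x * ((k : G) * (g * (k : G)⁻¹ * g⁻¹) * (x⁻¹ * ⁅x, g⁆ * x)) * x⁻¹ by
      simp only [commutatorElement_def]; group,
    CharInd.extendByZero_mem _ ((Subgroup.mem_normalizer_iff.mp hx _).mp hm)]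

/-- The commutator sum read off from an extension `η` to a group containing `y`. -/
theorem pairSum_of_ext (H J : Subgroup G) (hHJ : H ≤ J) (θ : Cfsg.IrrCharacter H)
    (η : Cfsg.IrrCharacter J) (hext : ∀ h : H, (η : J → ℂ) ⟨h, hHJ h.2⟩ = (θ : H → ℂ) h)
    (hH : J ≤ Subgroup.normalizer (H : Set G))
    (x y : G) (hy : y ∈ J) (hx : x ∈ Subgroup.normalizer (H : Set G))
    (hxJ : x ∈ Subgroup.normalizer (J : Set G)) (hxy : ⁅x, y⁆ ∈ H)
    (hfix : ∀ k k' : H, (k' : G) = x * k * x⁻¹ → (θ : H → ℂ) k' = (θ : H → ℂ) k)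
    (μ : ℂ) (hμ : ∀ l : H, extendByZero J (η : J → ℂ) (x⁻¹ * (y * l)⁻¹ * x) =
      μ * extendByZero J (η : J → ℂ) (y * l)⁻¹) :
    pairSum H (θ : H → ℂ) x y = μ := by
  set H' := H.subgroupOf J
  let e := Subgroup.subgroupOfEquivOfLe hHJ
  have hres : (fun k : H' => (η : J → ℂ) k) = fun k => (θ : H → ℂ) (e k) := funext fun k =>
    (hext ⟨(k : J), k.2⟩).symm.trans rfl |>.symm ▸ rfl
  have hirr : Cfsg.IsIrrCharacter H' (fun k : H' => (η : J → ℂ) k) :=
    hres ▸ CharCore.isIrrCharacter_comp_surjective θ.2 e.toMonoidHom e.surjective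
  have hcard : Nat.card H' = Nat.card H := Nat.card_congr e.toEquiv
  have hd0 : (θ : H → ℂ) 1 ≠ 0 := CharCore.irr_apply_one_ne_zero θ
  have hd : (η : J → ℂ) 1 = (θ : H → ℂ) 1 := hext 1
  have hgJ : ∀ l : H, y * (l : G) ∈ J := fun l => mul_mem hy (hHJ l.2)
  have hx' : ∀ a ∈ J, x⁻¹ * a * x ∈ J := fun a ha => by
    simpa using (Subgroup.mem_normalizer_iff.mp (inv_mem hxJ) a).mp ha
  have hinner : ∀ l : H, (∑ k : H, extendByZero H (θ : H → ℂ) ⁅x * (k : G), y * (l : G)⁆) *
      (θ : H → ℂ) 1 = (Nat.card H : ℂ) *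
        (μ * ((η : J → ℂ) ⟨_, hgJ l⟩ * conj ((η : J → ℂ) ⟨_, hgJ l⟩))) := by
    intro l
    set g := y * (l : G)
    have hv : x⁻¹ * g⁻¹ * x ∈ J := hx' _ (inv_mem (hgJ l))
    have h := sum_conj_mul H' η.2 hirr ⟨g, hgJ l⟩ ⟨_, hv⟩
    rw [hcard, hd] at h
    have h2 : (η : J → ℂ) ⟨_, hv⟩ = μ * conj ((η : J → ℂ) ⟨g, hgJ l⟩) := by
      have h3 := hμ l
      rw [CharInd.extendByZero_mem _ hv, CharInd.extendByZero_mem _ (inv_mem (hgJ l))] at h3
      rw [h3, ← CharCore.irr_apply_inv]
      rfl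
    rw [h2, show ∀ a b : ℂ, a * (μ * b) = μ * (a * b) from fun a b => by ring] at h
    rw [← h]
    congr 1
    refine (Fintype.sum_equiv e.toEquiv _ _ fun k => ?_).symm
    show (η : J → ℂ) _ = extendByZero H (θ : H → ℂ) ⁅x * ((e k : H) : G), g⁆
    have hg : g ∈ Subgroup.normalizer (H : Set G) := hH (hgJ l)
    have hin : ((k : J) : G) * g * ((k : J) : G)⁻¹ * (x⁻¹ * g⁻¹ * x) ∈ H := by
      have hk : ((k : J) : G) ∈ H := k.2
      have h1 : g * ((k : J) : G)⁻¹ * g⁻¹ ∈ H :=
        (Subgroup.mem_normalizer_iff.mp hg _).mp (inv_mem hk)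
      have h2 : ⁅x, g⁆ ∈ H := by
        have e1 : ⁅x, g⁆ = ⁅x, y⁆ * (y * (x * l * x⁻¹ * (l : G)⁻¹) * y⁻¹) := by
          simp only [g, commutatorElement_def]; group
        rw [e1]
        exact mul_mem hxy ((Subgroup.mem_normalizer_iff.mp (hH hy) _).mp
          (mul_mem ((Subgroup.mem_normalizer_iff.mp hx l).mp l.2) (inv_mem l.2)))
      have h4 : x⁻¹ * ⁅x, g⁆ * x ∈ H := by
        simpa using (Subgroup.mem_normalizer_iff.mp (inv_mem hx) _).mp h2
      convert mul_mem (mul_mem hk h1) h4 using 1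
      simp only [commutatorElement_def]; group
    rw [show (⟨g, hgJ l⟩ : J) = ⟨g, hgJ l⟩ from rfl]
    rw [show ⁅x * ((e k : H) : G), g⁆ =
      x * (((k : J) : G) * g * ((k : J) : G)⁻¹ * (x⁻¹ * g⁻¹ * x)) * x⁻¹ by
        show ⁅x * ((k : J) : G), g⁆ = _
        simp only [commutatorElement_def]; group,
      CharInd.extendByZero_mem _ ((Subgroup.mem_normalizer_iff.mp hx _).mp hin),
      hfix ⟨_, hin⟩ ⟨_, (Subgroup.mem_normalizer_iff.mp hx _).mp hin⟩ rfl, ← hext]
    rfl
  have hH'n : H'.Normal := ⟨fun n hn g => (Subgroup.mem_normalizer_iff.mp (hH g.2) n).mp hn⟩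
  have htot : ∑ l : H, (η : J → ℂ) ⟨_, hgJ l⟩ * conj ((η : J → ℂ) ⟨_, hgJ l⟩) =
      (Nat.card H : ℂ) := by
    let gy : J := ⟨y, hy⟩
    have h := sum_conj_mul H' η.2 hirr gy gy⁻¹
    rw [hcard, hd] at h
    -- count the norm through the averaging identity
    have hn := sum_norm_coset H' η.2 hirr gy
    rw [hcard] at hn
    rw [← hn]
    refine Fintype.sum_equiv e.symm.toEquiv _ _ fun l => ?_
    rfl
  rw [pairSum, Finset.sum_comm]
  have : (∑ l : H, ∑ k : H, extendByZero H (θ : H → ℂ) ⁅x * (k : G), y * (l : G)⁆) *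
      (θ : H → ℂ) 1 = (Nat.card H : ℂ) * (μ * Nat.card H) := by
    rw [Finset.sum_mul, Finset.sum_congr rfl fun l _ => hinner l, ← Finset.mul_sum,
      ← Finset.mul_sum, htot]
  rw [div_mul_eq_mul_div, mul_comm ((θ : H → ℂ) 1), this]
  have hH0 : (Nat.card H : ℂ) ≠ 0 := Nat.cast_ne_zero.mpr Nat.card_pos.ne'
  field_simp

end Cfsg.Agent.PMcKay87
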