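import Cfsg.Agent.PMcKay87.Glau
import Cfsg.Agent.CharDeep.Ext.Wrap
import Cfsg.Agent.CharB.CliffordDegree
import Cfsg.Agent.Lib.Coprime.Action

/-!
Characters of degree prime to `p` of a product of a normal `p'`-subgroup with a `p`-group.
-/

set_option autoImplicit false

namespace Cfsg.Agent.PMcKay87

open scoped ComplexConjugate commutatorElement
open Cfsg (extendByZero classInner IsIrrCharacter IrrCharacter)
open Subgroup

attribute [local instance] Fintype.ofFinite

universe u

variable {G : Type u} [Group G] [Finite G]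

/-- A central element acts by a scalar. -/
theorem apply_mul_central {J : Subgroup G} (χ : IrrCharacter J) {z : J}
    (hz : z ∈ center (↥J)) (g : J) :
    (χ : J → ℂ) (z * g) * (χ : J → ℂ) 1 = (χ : J → ℂ) z * (χ : J → ℂ) g := by
  obtain ⟨n, ρ, hρ, hch⟩ := χ.2
  have := hρ
  obtain ⟨c, hc⟩ := CharClifford.exists_scalar_of_mem_center ρ hz
  rw [← hch]
  have h : ∀ a, ρ.character (z * a) = c * ρ.character a := fun a => by
    show LinearMap.trace ℂ _ (ρ (z * a)) = c * LinearMap.trace ℂ _ (ρ a)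
    rw [map_mul, hc, smul_mul_assoc, one_mul, map_smul, smul_eq_mul]
  have h1 := h 1
  rw [mul_one] at h1
  rw [h, h1]; ring

theorem mem_center_sub {J : Subgroup G} {z : G} (hz : z ∈ J) (hc : z ∈ center G) :
    (⟨z, hz⟩ : J) ∈ center (↥J) :=
  mem_center_iff.mpr fun g => Subtype.ext (mem_center_iff.mp hc g)

/-- Constituents of a restriction have the same central character. -/
theorem central_of_constituent {H J : Subgroup G} (hHJ : H ≤ J) (χ : IrrCharacter J)
    (η : IrrCharacter H)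
    (hne : classInner (fun h : H => extendByZero J (χ : J → ℂ) (h : G)) η ≠ 0)
    {z : G} (hzH : z ∈ H) (hz : z ∈ center G) :
    (χ : J → ℂ) ⟨z, hHJ hzH⟩ * (η : H → ℂ) 1 = (η : H → ℂ) ⟨z, hzH⟩ * (χ : J → ℂ) 1 := by
  set zH : H := ⟨z, hzH⟩
  have hχ1 := CharCore.irr_apply_one_ne_zero χ
  have hη1 := CharCore.irr_apply_one_ne_zero η
  set c := (χ : J → ℂ) ⟨z, hHJ hzH⟩ / (χ : J → ℂ) 1 with hc
  set c' := (η : H → ℂ) zH / (η : H → ℂ) 1 with hc'
  have hχ : ∀ h : H, extendByZero J (χ : J → ℂ) ((zH * h : H) : G) =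
      c * extendByZero J (χ : J → ℂ) (h : G) := fun h => by
    rw [CharInd.extendByZero_mem _ (hHJ h.2), CharInd.extendByZero_mem _ (hHJ (zH * h).2), hc,
      div_mul_eq_mul_div, eq_div_iff hχ1]
    exact apply_mul_central χ (mem_center_sub (hHJ hzH) hz) ⟨h, hHJ h.2⟩
  have hη : ∀ h : H, (η : H → ℂ) (zH * h) = c' * (η : H → ℂ) h := fun h => by
    rw [hc', div_mul_eq_mul_div, eq_div_iff hη1]
    exact apply_mul_central η (mem_center_sub hzH hz) h
  have h1 : c * conj c' = 1 := by
    have hshift : classInner (fun h : H => extendByZero J (χ : J → ℂ) (h : G)) η =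
        (c * conj c') * classInner (fun h : H => extendByZero J (χ : J → ℂ) (h : G)) η := by
      simp only [CharCore.classInner_def, Finset.mul_sum]
      refine (Fintype.sum_equiv (Equiv.mulLeft zH) _ _ fun h => ?_).symm
      simp only [Equiv.coe_mulLeft, hχ, hη, map_mul]
      ring
    exact mul_right_cancel₀ hne (by rw [one_mul]; exact hshift.symm)
  have h2 : c' * conj c' = 1 := by
    have hshift : classInner (η : H → ℂ) η = (c' * conj c') * classInner (η : H → ℂ) η := by
      simp only [CharCore.classInner_def, Finset.mul_sum]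
      refine (Fintype.sum_equiv (Equiv.mulLeft zH) _ _ fun h => ?_).symm
      simp only [Equiv.coe_mulLeft, hη, map_mul]
      ring
    rw [CharCore.classInner_irr_self, mul_one] at hshift
    exact hshift.symm
  have h3 : c = c' := by
    calc c = c * (c' * conj c') := by rw [h2, mul_one]
      _ = c' * (c * conj c') := by ring
      _ = c' := by rw [h1, mul_one]
  rw [hc, hc'] at h3
  field_simp at h3
  linear_combination h3

/-- The degree as a natural number. -/
theorem exists_deg {H : Subgroup G} (η : IrrCharacter H) :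
    ∃ d : ℕ, (η : H → ℂ) 1 = d ∧ Cfsg.charDegree (η : H → ℂ) = d ∧ d ≠ 0 ∧ d ∣ Nat.card H := by
  obtain ⟨d, -, hdvd, hd⟩ := CharClifford.exists_degree_dvd_card η.2
  refine ⟨d, hd, by rw [Cfsg.charDegree, hd]; simp, fun h => ?_, hdvd⟩
  exact CharCore.irr_apply_one_ne_zero η (by rw [hd, h, Nat.cast_zero])

/-- `H = K S` with `K` of order prime to `p` and normal, `S` a `p`-group. -/
structure Semidirect (p : ℕ) (K S H : Subgroup G) : Prop where
  le : S ≤ normalizer (K : Set G)
  not_dvd : ¬ p ∣ Nat.card K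
  isPGroup : IsPGroup p S
  eq : H = K ⊔ S

namespace Semidirect

variable {p : ℕ} [hp : Fact p.Prime] {K S H : Subgroup G}

omit [Finite G] hp in
theorem K_le (D : Semidirect p K S H) : K ≤ H := le_sup_left.trans D.eq.ge

omit [Finite G] hp in
theorem S_le (D : Semidirect p K S H) : S ≤ H := le_sup_right.trans D.eq.ge

omit [Finite G] hp in
theorem H_le (D : Semidirect p K S H) : H ≤ normalizer (K : Set G) :=
  D.eq.le.trans (sup_le Subgroup.le_normalizer D.le)

theorem coprime (D : Semidirect p K S H) : (Nat.card K).Coprime (Nat.card S) := by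
  obtain ⟨k, hk⟩ := D.isPGroup.exists_card_eq
  rw [hk]
  exact Nat.Coprime.pow_right k (hp.out.coprime_iff_not_dvd.mpr D.not_dvd).symm

theorem exists_proj (D : Semidirect p K S H) :
    ∃ π : H →* S, (∀ k : H, (k : G) ∈ K → π k = 1) ∧ (∀ s : S, π ⟨s, D.S_le s.2⟩ = s) ∧
      ∀ a : H, (a : G) * ((π a : S) : G)⁻¹ ∈ K := by
  have h : ∀ a : H, ∃ s : S, (a : G) * (s : G)⁻¹ ∈ K := fun a => by
    obtain ⟨k, hk, s, hs, e⟩ := Coprime.exists_mul_of_mem_sup D.le (D.eq.le a.2)
    exact ⟨⟨s, hs⟩, by rw [e, mul_inv_cancel_right]; exact hk⟩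
  choose r hr using h
  have huniq : ∀ (a : H) (s : S), (a : G) * (s : G)⁻¹ ∈ K → r a = s := fun a s hs => by
    refine Subtype.ext ?_
    have h1 : ((r a : S) : G) * (s : G)⁻¹ ∈ K := by
      have := mul_mem (inv_mem (hr a)) hs
      simpa [mul_assoc] using this
    have h2 := Coprime.inf_eq_bot_of_coprime' D.coprime h1 (mul_mem (r a).2 (inv_mem s.2))
    exact mul_inv_eq_one.mp h2
  refine ⟨MonoidHom.mk' r fun a b => huniq _ _ ?_, fun k hk => huniq k 1 (by simpa using hk),
    fun s => huniq _ s (by simp), hr⟩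
  have e : ((a * b : H) : G) * ((r a * r b : S) : G)⁻¹ =
      (a : G) * ((b : G) * (r b : G)⁻¹) * (a : G)⁻¹ * ((a : G) * (r a : G)⁻¹) := by
    simp [mul_assoc]
  rw [e]
  exact mul_mem (conj_mem_of (D.H_le a.2) (hr b)) (hr a)

theorem index_card (D : Semidirect p K S H) : (K.subgroupOf H).index = Nat.card S := by
  obtain ⟨π, hπK, hπS, hπ⟩ := D.exists_proj
  have hker : π.ker = K.subgroupOf H := by
    ext a
    refine ⟨fun ha => ?_, fun ha => hπK a ha⟩
    have := hπ a
    rw [show π a = 1 from ha] at this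
    simpa [mem_subgroupOf] using this
  rw [← hker, Subgroup.index_ker, MonoidHom.range_eq_top.mpr (fun s => ⟨_, hπS s⟩),
    Subgroup.card_top]

theorem index_eq (D : Semidirect p K S H) : ∃ a : ℕ, (K.subgroupOf H).index = p ^ a := by
  rw [D.index_card]
  exact D.isPGroup.exists_card_eq

/-- A chosen extension of every fixed character, with determinant of order prime to the index. -/
theorem exists_ext (D : Semidirect p K S H) (θ : IrrCharacter K)
    (hθ : ∀ s ∈ S, Fixes K s (θ : K → ℂ)) :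
    ∃ η : IrrCharacter H, (∀ k : K, (η : H → ℂ) ⟨k, D.K_le k.2⟩ = (θ : K → ℂ) k) ∧
      (K.subgroupOf H).index.Coprime (Cfsg.detOrder (η : H → ℂ)) ∧
      ∀ η' : IrrCharacter H, (∀ k : K, (η' : H → ℂ) ⟨k, D.K_le k.2⟩ = (θ : K → ℂ) k) →
        (K.subgroupOf H).index.Coprime (Cfsg.detOrder (η' : H → ℂ)) → η' = η := by
  let N := K.subgroupOf H
  haveI : N.Normal := ⟨fun n hn g => conj_mem_of (D.H_le g.2) hn⟩
  let e := subgroupOfEquivOfLe D.K_le
  let θ' : N → ℂ := fun n => (θ : K → ℂ) (e n)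
  have hθ' : IsIrrCharacter N θ' :=
    CharCore.isIrrCharacter_comp_surjective θ.2 e.toMonoidHom e.surjective
  have hinv : CharDeep.Ext.Inv N θ' := by
    intro g n
    obtain ⟨π, -, -, hπ⟩ := D.exists_proj
    set s := π g
    set k : K := ⟨_, hπ g⟩
    have hn : ((n : H) : G) ∈ K := n.2
    let m : K := ⟨(s : G) * (n : H) * (s : G)⁻¹, conj_mem_of (D.le s.2) hn⟩
    have h1 : (θ : K → ℂ) m = (θ : K → ℂ) (e n) := hθ s s.2 (e n) m rfl
    have h2 := CharCore.irr_isClassFunction θ m k
    refine Eq.trans ?_ h1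
    rw [← h2]
    exact congrArg (θ : K → ℂ) (Subtype.ext (by simp [e, k, m, s, mul_assoc]))
  obtain ⟨d, hd, -, -, hddvd⟩ := exists_deg θ
  obtain ⟨a, ha⟩ := D.index_eq
  have hcop : N.index.Coprime (Cfsg.detOrder θ' * d) := by
    rw [show N.index = p ^ a from ha]
    refine Nat.Coprime.pow_left a (Nat.Coprime.mul_right ?_ ?_)
    · refine Nat.Coprime.coprime_dvd_right ?_
        (hp.out.coprime_iff_not_dvd.mpr fun h => D.not_dvd
          (h.trans (dvd_of_eq (Nat.card_congr e.toEquiv))))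
      rw [CharDeep.Ext.detOrder_eq]
      refine orderOf_dvd_of_pow_eq_one (MonoidHom.ext fun n => ?_)
      rw [MonoidHom.pow_apply, ← map_pow, pow_card_eq_one', map_one, MonoidHom.one_apply]
    · exact (hp.out.coprime_iff_not_dvd.mpr fun h => D.not_dvd (h.trans hddvd))
  obtain ⟨χ, ⟨hχ, hres, hdet⟩, huniq⟩ := CharDeep.Ext.exists_ext_detOrder N hθ' hinv
    (d := d) (by rw [← hd]; exact congrArg (θ : K → ℂ) (map_one e)) hcop
  refine ⟨⟨χ, hχ⟩, fun k => ?_, by
    rw [hdet]; exact hcop.coprime_dvd_right (dvd_mul_right _ _), fun η' h1 h2 => ?_⟩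
  · exact hres ⟨⟨k, D.K_le k.2⟩, k.2⟩
  · exact Subtype.ext (huniq _ η'.2 (fun n => h1 ⟨((n : H) : G), n.2⟩) h2)

/-- A central `p`-element is trivial on the chosen extension. -/
theorem apply_central_p (D : Semidirect p K S H) (η : IrrCharacter H)
    (hη : (K.subgroupOf H).index.Coprime (Cfsg.detOrder (η : H → ℂ)))
    (hθd : ¬ p ∣ Cfsg.charDegree (η : H → ℂ))
    {z : G} (hzS : z ∈ S) (hz : z ∈ center G) :
    (η : H → ℂ) ⟨z, D.S_le hzS⟩ = (η : H → ℂ) 1 := by
  obtain ⟨b, hb⟩ := D.isPGroup.exists_card_eq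
  rw [D.index_card] at hη
  obtain ⟨n, ρ, hρ, hch⟩ := η.2
  have := hρ
  set zH : H := ⟨z, D.S_le hzS⟩
  obtain ⟨c, hc⟩ := CharClifford.exists_scalar_of_mem_center ρ (mem_center_sub (D.S_le hzS) hz)
  have hn : Cfsg.charDegree (η : H → ℂ) = n := by
    rw [Cfsg.charDegree, ← hch, Representation.char_one, Module.finrank_fin_fun]; simp
  have hn0 : n ≠ 0 := by rintro rfl; exact hθd (by rw [hn]; exact dvd_zero p)
  have hzpow : zH ^ Nat.card S = 1 := Subtype.ext (by
    show z ^ Nat.card S = 1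
    exact congrArg Subtype.val (pow_card_eq_one' (x := (⟨z, hzS⟩ : S))))
  have hdet : CharDeep.Ext.detHom (η : H → ℂ) zH = 1 := by
    have h1 : CharDeep.Ext.detHom (η : H → ℂ) zH ^ Nat.card S = 1 := by
      rw [← map_pow, hzpow, map_one]
    have h2 : CharDeep.Ext.detHom (η : H → ℂ) zH ^ Cfsg.detOrder (η : H → ℂ) = 1 := by
      rw [CharDeep.Ext.detOrder_eq, ← MonoidHom.pow_apply, pow_orderOf_eq_one, MonoidHom.one_apply]
    have h3 := pow_gcd_eq_one.mpr ⟨h1, h2⟩
    rwa [hη.gcd_eq_one, pow_one] at h3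
  have hcn : c ^ n = 1 := by
    rw [← hch, CharDeep.Ext.detHom_eq] at hdet
    have h := congrArg Units.val hdet
    simp only [CharDeep.Ext.detRep, MonoidHom.coe_toHomUnits, MonoidHom.coe_comp,
      Function.comp_apply, Units.val_one] at h
    rwa [show ρ zH = c • 1 from hc, LinearMap.det_smul, map_one, mul_one,
      Module.finrank_fin_fun] at h
  have hcS : c ^ Nat.card S = 1 := by
    have h := congrArg (LinearMap.trace ℂ _) (congrArg ρ hzpow)
    rw [map_pow, map_one, show ρ zH = c • 1 from hc, smul_pow, one_pow, map_smul,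
      LinearMap.trace_one, Module.finrank_fin_fun, smul_eq_mul] at h
    exact mul_right_cancel₀ (Nat.cast_ne_zero.mpr hn0) (h.trans (one_mul _).symm)
  have hc1 : c = 1 := by
    have hcop : n.Coprime (Nat.card S) := by
      rw [hb]
      exact Nat.Coprime.pow_right b (hp.out.coprime_iff_not_dvd.mpr (hn ▸ hθd)).symm
    have h := pow_gcd_eq_one.mpr ⟨hcn, hcS⟩
    rwa [hcop.gcd_eq_one, pow_one] at h
  rw [← hch]
  show LinearMap.trace ℂ _ (ρ zH) = LinearMap.trace ℂ _ (ρ 1)
  rw [show ρ zH = c • 1 from hc, hc1, one_smul, map_one ρ]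

end Semidirect

end Cfsg.Agent.PMcKay87
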