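import Cfsg.Agent.PMcKay87.Glau
import Cfsg.Agent.Lib.Coprime.Action
import Cfsg.Agent.OddLocal43.Coprime
import Cfsg.Agent.Lib.Zassenhaus.Cyclic

/-!
Commutator sums are preserved by the Glauberman correspondence.
-/

set_option autoImplicit false

namespace Cfsg.Agent.PMcKay87

open scoped ComplexConjugate commutatorElement
open Cfsg (extendByZero classInner IsIrrCharacter IrrCharacter)
open Subgroup

attribute [local instance] Fintype.ofFinite

universe u

variable {G : Type u} [Group G] [Finite G]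

theorem card_sup_dvd {K H : Subgroup G} (h : H ≤ normalizer (K : Set G)) :
    Nat.card ↥(K ⊔ H) ∣ Nat.card K * Nat.card H := by
  let Kn := K.subgroupOf (normalizer (K : Set G))
  let Hn := H.subgroupOf (normalizer (K : Set G))
  have hle : K ≤ normalizer (K : Set G) := Subgroup.le_normalizer
  have e : (Kn ⊔ Hn).map (normalizer (K : Set G)).subtype = K ⊔ H := by
    rw [Subgroup.map_sup, map_subgroupOf_eq_of_le hle, map_subgroupOf_eq_of_le h]
  haveI : Kn.Normal := ⟨fun n hn g => conj_mem_of g.2 hn⟩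
  rw [← e, card_subtype, ← Nat.card_congr (subgroupOfEquivOfLe hle).toEquiv,
    ← Nat.card_congr (subgroupOfEquivOfLe h).toEquiv,
    ← (Kn.subgroupOf (Kn ⊔ Hn)).index_mul_card, Nat.card_congr
      (subgroupOfEquivOfLe (le_sup_left : Kn ≤ Kn ⊔ Hn)).toEquiv]
  rw [mul_comm]
  refine Nat.mul_dvd_mul_left _ ?_
  show Kn.relIndex (Kn ⊔ Hn) ∣ _
  rw [relIndex_sup_left]
  exact relIndex_dvd_card _ _

theorem normalizer_sup {K H : Subgroup G} {x : G} (hK : x ∈ normalizer (K : Set G))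
    (hH : ∀ h ∈ H, x * h * x⁻¹ ∈ K ⊔ H) : x ∈ normalizer ((K ⊔ H : Subgroup G) : Set G) := by
  rw [mem_normalizer_iff_map_conj_eq]
  refine eq_of_le_of_card_ge ?_ (Nat.card_congr (equivMapOfInjective _ _
    (MulAut.conj x).injective).toEquiv).le
  rw [map_le_iff_le_comap]
  exact sup_le (fun k hk => mem_sup_left (conj_mem_of hK hk)) fun h hh => hH h hh

variable {p : ℕ} [hp : Fact p.Prime]

theorem coprime_of_not_dvd {P : Subgroup G} (hP : IsPGroup p P) {n : ℕ} (hn : ¬ p ∣ n) :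
    n.Coprime (Nat.card P) := by
  obtain ⟨k, hk⟩ := hP.exists_card_eq
  rw [hk]
  exact Nat.Coprime.pow_right k (hp.out.coprime_iff_not_dvd.mpr hn).symm

set_option maxHeartbeats 4000000 in
/-- One step: `y` centralises `R` modulo a subgroup centralising `K`. -/
theorem pairSum_step {K R M R₁ B : Subgroup G} (D : CoprimeData p K R M) (hR₁ : R₁ ≤ R)
    (hR₁n : R ≤ normalizer (R₁ : Set G)) (hR₁K : R₁ ≤ centralizer (K : Set G))
    (hB : ¬ p ∣ Nat.card B) {x y : G} (hy : y ∈ B)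
    (hxK : x ∈ normalizer (K : Set G)) (hyK : y ∈ normalizer (K : Set G))
    (hxR : x ∈ normalizer (R : Set G)) (hyR : y ∈ normalizer (R : Set G))
    (hy₁ : y ∈ normalizer (R₁ : Set G))
    (hyW : ∀ r ∈ R, ⁅y, r⁆ ∈ R₁) (hxy : ⁅x, y⁆ ∈ M) (θ : IrrCharacter K)
    (hθR : ∀ r ∈ R, Fixes K r (θ : K → ℂ)) (hθx : Fixes K x (θ : K → ℂ))
    (hθy : Fixes K y (θ : K → ℂ)) (ψ : IrrCharacter M)
    (hψ : Corr p K M (θ : K → ℂ) (ψ : M → ℂ)) :
    pairSum K (θ : K → ℂ) x y = pairSum M (ψ : M → ℂ) x y := by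
  have hMK := D.le_left
  have hMn : ∀ g ∈ normalizer (K : Set G), g ∈ normalizer (R : Set G) →
      g ∈ normalizer (M : Set G) := fun g hgK hgR => by
    rw [D.eq]
    exact Coprime.le_normalizer_inf (A := zpowers g) (zpowers_le.mpr hgK)
      (Coprime.le_normalizer_centralizer (zpowers_le.mpr hgR)) (mem_zpowers g)
  have hxM := hMn x hxK hxR
  have hyM := hMn y hyK hyR
  set W := R ⊓ centralizer ({y} : Set G) with hWdef
  have hWR : W ≤ R := inf_le_left
  have hWp : IsPGroup p W := D.isPGroup.to_le hWR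
  have hyB : Nat.card (zpowers y) ∣ Nat.card B :=
    card_dvd_of_le (zpowers_le.mpr hy)
  have hR₁p : IsPGroup p R₁ := D.isPGroup.to_le hR₁
  -- `R = R₁ W`
  have hRW : ∀ r ∈ R, ∃ s ∈ R₁, r * s ∈ W := by
    intro r hr
    obtain ⟨s, hs, hrs⟩ := Coprime.exists_fixed_in_coset_of_normal (zpowers y) R₁
      (zpowers_le.mpr hy₁)
      (coprime_of_not_dvd hR₁p fun h => hB (h.trans hyB))
      (Or.inl (Group.isSolvable_of_comm fun a b => IsMulCommutative.is_comm.comm a b)) r (hR₁n hr)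
      (fun a ha => by
        -- the elements moving `R` only inside `R₁` form a subgroup
        let T : Subgroup G :=
          { carrier := {g | g ∈ normalizer (R : Set G) ∧ g ∈ normalizer (R₁ : Set G) ∧
              ∀ r ∈ R, ⁅g, r⁆ ∈ R₁}
            one_mem' := ⟨one_mem _, one_mem _, fun r _ => by simp⟩
            mul_mem' := fun {g h} hg hh => ⟨mul_mem hg.1 hh.1, mul_mem hg.2.1 hh.2.1, fun r hr => by
              have e : ⁅g * h, r⁆ = g * ⁅h, r⁆ * g⁻¹ * ⁅g, r⁆ := by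
                simp only [commutatorElement_def]; group
              rw [e]
              exact mul_mem (conj_mem_of hg.2.1 (hh.2.2 r hr)) (hg.2.2 r hr)⟩
            inv_mem' := fun {g} hg => ⟨inv_mem hg.1, inv_mem hg.2.1, fun r hr => by
              have e : ⁅g⁻¹, r⁆ = g⁻¹ * ⁅g, r⁆⁻¹ * g := by
                simp only [commutatorElement_def]; group
              rw [e]
              exact conj_mem_of' hg.2.1 (inv_mem (hg.2.2 r hr))⟩ }
        exact ((zpowers_le.mpr (show y ∈ T from ⟨hyR, hy₁, hyW⟩)) ha).2.2 r hr)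
    refine ⟨s, hs, mul_mem hr (hR₁ hs), mem_centralizer_singleton_iff.mpr ?_⟩
    exact (mem_centralizer_iff.mp hrs y (mem_zpowers y)).symm
  have hMW : ∀ k ∈ K, k ∈ M ↔ ∀ w ∈ W, w * k = k * w := by
    intro k hk
    rw [D.eq, mem_inf, mem_centralizer_iff]
    refine ⟨fun h w hw => h.2 w (hWR hw), fun h => ⟨hk, fun r hr => ?_⟩⟩
    obtain ⟨s, hs, hw⟩ := hRW r hr
    have hsk : s * k = k * s := (mem_centralizer_iff.mp (hR₁K hs) k hk).symm
    have := h _ hw
    calc r * k = r * s * k * s⁻¹ := by rw [mul_assoc r s k, hsk]; group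
      _ = k * (r * s) * s⁻¹ := by rw [this]
      _ = k * r := by group
  have hWy : ∀ w ∈ W, ∀ g ∈ zpowers y, w * g = g * w := fun w hw g hg => by
    have hle : zpowers y ≤ centralizer ({w} : Set G) :=
      zpowers_le.mpr (mem_centralizer_singleton_iff.mpr
        (mem_centralizer_singleton_iff.mp hw.2).symm)
    exact (mem_centralizer_singleton_iff.mp (hle hg)).symm
  -- the two extension groups
  set J := K ⊔ zpowers y with hJdef
  set C := M ⊔ zpowers y with hCdef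
  have hyn : zpowers y ≤ normalizer (K : Set G) := zpowers_le.mpr hyK
  have hynM : zpowers y ≤ normalizer (M : Set G) := zpowers_le.mpr hyM
  have hCJ : C ≤ J := sup_le (hMK.trans le_sup_left) le_sup_right
  have hKJ : K ≤ J := le_sup_left
  have hMC : M ≤ C := le_sup_left
  have hJK : J ≤ normalizer (K : Set G) := sup_le Subgroup.le_normalizer hyn
  have hCM : C ≤ normalizer (M : Set G) := sup_le Subgroup.le_normalizer hynM
  have hWK : W ≤ normalizer (K : Set G) := hWR.trans D.le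
  have hWJ : W ≤ normalizer (J : Set G) := fun w hw => normalizer_sup (hWK hw) fun g hg => by
    rw [hWy w hw g hg, mul_inv_cancel_right]; exact mem_sup_right hg
  have hJp : ¬ p ∣ Nat.card J := fun h =>
    (hp.out.dvd_mul.mp (h.trans (card_sup_dvd hyn))).elim D.not_dvd fun h' => hB (h'.trans hyB)
  have D' : CoprimeData p J W C := by
    refine ⟨hWJ, hWp, hJp, le_antisymm (le_inf hCJ (sup_le ?_ ?_)) ?_⟩
    · exact fun k hk => mem_centralizer_iff.mpr ((hMW k (hMK hk)).mp hk)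
    · exact fun g hg => mem_centralizer_iff.mpr fun w hw => hWy w hw g hg
    · rintro g ⟨hgJ, hgW⟩
      obtain ⟨k, hk, t, ht, rfl⟩ := Coprime.exists_mul_of_mem_sup hyn hgJ
      refine Subgroup.mul_mem_sup ((hMW k hk).mpr fun w hw => ?_) ht
      have := mem_centralizer_iff.mp hgW w hw
      calc w * k = w * (k * t) * t⁻¹ := by group
        _ = k * (t * w) * t⁻¹ := by rw [this]; group
        _ = k * w := by rw [← hWy w hw t ht]; group
  -- the extension
  haveI hKn : (K.subgroupOf J).Normal := ⟨fun n hn g => conj_mem_of (hJK g.2) hn⟩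
  haveI hMn' : (M.subgroupOf C).Normal := ⟨fun n hn g => conj_mem_of (hCM g.2) hn⟩
  have hcyc : ∀ (A : Subgroup G) (hA : zpowers y ≤ normalizer (A : Set G))
      [(A.subgroupOf (A ⊔ zpowers y)).Normal],
      IsCyclic (↥(A ⊔ zpowers y) ⧸ A.subgroupOf (A ⊔ zpowers y)) := by
    intro A hA _
    refine ⟨⟨((⟨y, mem_sup_right (mem_zpowers y)⟩ : ↥(A ⊔ zpowers y)) : _ ⧸ _), fun q => ?_⟩⟩
    induction q using QuotientGroup.induction_on with
    | H g =>
      obtain ⟨a, ha, t, ⟨i, rfl⟩, he⟩ := Coprime.exists_mul_of_mem_sup hA g.2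
      refine mem_zpowers_iff.mpr ⟨i, ?_⟩
      rw [← QuotientGroup.mk_zpow, QuotientGroup.eq]
      rw [mem_subgroupOf]
      simp only [Subgroup.coe_mul, Subgroup.coe_inv, Subgroup.coe_zpow, he]
      have := conj_mem_of' (zpow_mem (hA (mem_zpowers y)) i) ha
      simpa [mul_assoc] using this
  let eK := subgroupOfEquivOfLe hKJ
  let eM := subgroupOfEquivOfLe hMC
  let θ' : K.subgroupOf J → ℂ := fun n => (θ : K → ℂ) (eK n)
  have hθ' : IsIrrCharacter (K.subgroupOf J) θ' :=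
    CharCore.isIrrCharacter_comp_surjective θ.2 eK.toMonoidHom eK.surjective
  let ψ' : M.subgroupOf C → ℂ := fun n => (ψ : M → ℂ) (eM n)
  have hψ' : IsIrrCharacter (M.subgroupOf C) ψ' :=
    CharCore.isIrrCharacter_comp_surjective ψ.2 eM.toMonoidHom eM.surjective
  have stabGrp : ∀ (A : Subgroup G) (f : IrrCharacter A), zpowers y ≤ normalizer (A : Set G) →
      Fixes A y (f : A → ℂ) → ∀ g ∈ A ⊔ zpowers y, Fixes A g (f : A → ℂ) := by
    intro A f hA hf g hg
    let T : Subgroup G :=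
      { carrier := {g | ∃ hg : g ∈ normalizer (A : Set G), cjIrr A g hg f = f}
        one_mem' := ⟨one_mem _, Subtype.ext (funext fun k => congrArg (f : A → ℂ)
          (Subtype.ext (by simp)))⟩
        mul_mem' := fun {a b} ⟨ha, ha'⟩ ⟨hb, hb'⟩ => ⟨mul_mem ha hb, Subtype.ext (funext fun k => by
          have h1 := congrFun (congrArg Subtype.val hb') (conjEquiv A a ha k)
          have h2 := congrFun (congrArg Subtype.val ha') k
          refine Eq.trans ?_ (h1.trans h2)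
          exact congrArg (f : A → ℂ) (Subtype.ext (by simp [mul_assoc])))⟩
        inv_mem' := fun {a} ⟨ha, ha'⟩ => ⟨inv_mem ha, Subtype.ext (funext fun k => by
          have h2 := congrFun (congrArg Subtype.val ha') (conjEquiv A a⁻¹ (inv_mem ha) k)
          refine h2.symm.trans ?_
          exact congrArg (f : A → ℂ) (Subtype.ext (by simp [mul_assoc])))⟩ }
    have hle : A ⊔ zpowers y ≤ T := sup_le
      (fun a ha => ⟨Subgroup.le_normalizer ha, Subtype.ext (funext fun k => by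
        have := CharCore.irr_isClassFunction f k ⟨a, ha⟩⁻¹
        simp only [inv_inv] at this
        exact (congrArg (f : A → ℂ) (Subtype.ext (by simp [mul_assoc]))).trans this)⟩)
      (zpowers_le.mpr ⟨hA (mem_zpowers y), (fixes_iff A y _ f).mp hf⟩)
    obtain ⟨hgA, hgf⟩ := hle hg
    exact (fixes_iff A g hgA f).mpr hgf
  have hinvθ : CharDeep.Ext.Inv (K.subgroupOf J) θ' := fun g n =>
    stabGrp K θ hyn hθy g g.2 _ _ rfl
  have hψy : Fixes M y (ψ : M → ℂ) := D.corr_fixes θ hθR hψ y hyK hyM hθy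
  have hψx : Fixes M x (ψ : M → ℂ) := D.corr_fixes θ hθR hψ x hxK hxM hθx
  have hinvψ : CharDeep.Ext.Inv (M.subgroupOf C) ψ' := fun g n =>
    stabGrp M ψ hynM hψy g g.2 _ _ rfl
  obtain ⟨η₀, hη₀, hext₀⟩ := CharB.exists_extension_of_cyclic (K.subgroupOf J)
    (hcyc K hyn) hθ' hinvθ
  let η : IrrCharacter J := ⟨η₀, hη₀⟩
  have hext : ∀ k : K, (η : J → ℂ) ⟨k, hKJ k.2⟩ = (θ : K → ℂ) k := fun k =>
    hext₀ ⟨⟨k, hKJ k.2⟩, k.2⟩
  have hηN : IsIrrCharacter (K.subgroupOf J) (fun n : K.subgroupOf J => (η : J → ℂ) n) := by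
    rwa [show (fun n : K.subgroupOf J => (η : J → ℂ) n) = θ' from funext hext₀]
  -- conjugates of `η` are twists
  have twist : ∀ g (hgJ : g ∈ normalizer (J : Set G)) (hgK : g ∈ normalizer (K : Set G)),
      Fixes K g (θ : K → ℂ) → ∃ μ : J →* ℂˣ, (∀ n : K.subgroupOf J, μ n = 1) ∧
        ∀ a, (cjIrr J g hgJ η : J → ℂ) a = μ a * (η : J → ℂ) a := by
    intro g hgJ hgK hgθ
    refine exists_twist (K.subgroupOf J) η.2 (cjIrr J g hgJ η).2 hηN fun n => ?_
    show (η : J → ℂ) (conjEquiv J g hgJ n) = (η : J → ℂ) n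
    have h1 : (η : J → ℂ) (conjEquiv J g hgJ n) =
        (θ : K → ℂ) ⟨g⁻¹ * ((n : J) : G) * g, conj_mem_of' hgK n.2⟩ :=
      (hext ⟨g⁻¹ * ((n : J) : G) * g, conj_mem_of' hgK n.2⟩)
    rw [h1, show (η : J → ℂ) n = (θ : K → ℂ) (eK n) from hext₀ n]
    exact (hgθ ⟨_, conj_mem_of' hgK n.2⟩ (eK n) (by simp [eK, mul_assoc])).symm
  have hηW : ∀ w ∈ W, Fixes J w (η : J → ℂ) := by
    intro w hw
    rw [fixes_iff J w (hWJ hw)]
    obtain ⟨μ, hμK, hμ⟩ := twist w (hWJ hw) (hWK hw) (hθR w (hWR hw))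
    have hμw : ∀ a : J, μ (conjEquiv J w (hWJ hw) a) = μ a := by
      intro a
      obtain ⟨k, hk, t, ht, he⟩ := Coprime.exists_mul_of_mem_sup hyn a.2
      have hK' : w⁻¹ * k * w * k⁻¹ ∈ K := mul_mem (conj_mem_of' (hWK hw) hk) (inv_mem hk)
      have e : conjEquiv J w (hWJ hw) a = ⟨_, hKJ hK'⟩ * a := Subtype.ext <| by
        show w⁻¹ * (a : G) * w = w⁻¹ * k * w * k⁻¹ * a
        rw [he]
        calc w⁻¹ * (k * t) * w = w⁻¹ * k * (t * w) := by group
          _ = w⁻¹ * k * (w * t) := by rw [hWy w hw t ht]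
          _ = _ := by group
      rw [e, map_mul, hμK ⟨⟨_, hKJ hK'⟩, hK'⟩, one_mul]
    have hpow : ∀ (j : ℕ) (a : J),
        (η : J → ℂ) ⟨(w ^ j)⁻¹ * a * w ^ j, conj_mem_of' (pow_mem (hWJ hw) j) a.2⟩ =
          ((μ a : ℂ)) ^ j * (η : J → ℂ) a := by
      intro j
      induction j with
      | zero => intro a; simp
      | succ j ih =>
        intro a
        have h1 := hμ ⟨(w ^ j)⁻¹ * a * w ^ j, conj_mem_of' (pow_mem (hWJ hw) j) a.2⟩
        have hμj : ∀ j, ∀ a : J, μ ⟨(w ^ j)⁻¹ * a * w ^ j,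
            conj_mem_of' (pow_mem (hWJ hw) j) a.2⟩ = μ a := by
          intro j
          induction j with
          | zero => intro a; simp
          | succ j ihj =>
            intro a
            rw [← ihj a, ← hμw ⟨(w ^ j)⁻¹ * a * w ^ j, _⟩]
            exact congrArg μ (Subtype.ext (by simp [pow_succ, mul_assoc]))
        refine Eq.trans ?_ (h1.trans ?_)
        · exact congrArg (η : J → ℂ) (Subtype.ext (by simp [pow_succ, mul_assoc]))
        · rw [hμj j a, ih a, pow_succ]; ring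
    obtain ⟨e, he⟩ := hWp ⟨w, hw⟩
    have he' : w ^ p ^ e = 1 := congrArg Subtype.val he
    have hμ1 : μ ^ p ^ e = 1 := twist_unique (K.subgroupOf J) η.2 hηN
      (fun n => by rw [MonoidHom.pow_apply, hμK, one_pow]) fun a => by
        rw [MonoidHom.pow_apply, Units.val_pow_eq_pow_val, ← hpow]
        exact congrArg (η : J → ℂ) (Subtype.ext (by simp [he']))
    have hμc : μ = 1 := by
      refine MonoidHom.ext fun a => ?_
      have h2 : μ a ^ p ^ e = 1 := by rw [← MonoidHom.pow_apply, hμ1, MonoidHom.one_apply]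
      have h3 : μ a ^ Nat.card J = 1 := by rw [← map_pow, pow_card_eq_one', map_one]
      have hcop : Nat.Coprime (p ^ e) (Nat.card J) :=
        Nat.Coprime.pow_left e (hp.out.coprime_iff_not_dvd.mpr hJp)
      have h4 := pow_gcd_eq_one.mpr ⟨h2, h3⟩
      rwa [hcop.gcd_eq_one, pow_one] at h4
    exact Subtype.ext (funext fun a => by rw [hμ, hμc, MonoidHom.one_apply, Units.val_one, one_mul])
  obtain ⟨φ, hφ⟩ := D'.exists_corr η hηW
  -- `φ` extends `ψ`
  have hφψ : ∀ m : M, (φ : C → ℂ) ⟨m, hMC m.2⟩ = (ψ : M → ℂ) m := by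
    have h1 : Corr p J M (η : J → ℂ) (ψ : M → ℂ) := by
      obtain ⟨m, hm, hpm⟩ := hψ
      refine ⟨m, ?_, hpm⟩
      rw [← hm]
      congr 1
      funext c
      rw [CharInd.extendByZero_mem _ (hKJ (hMK c.2)), CharInd.extendByZero_mem _ (hMK c.2)]
      exact hext ⟨c, hMK c.2⟩
    have h2 := (corr_trans hp.out hCJ hMC η φ hφ
      (fun f hf => D'.corr_unique η hηW hf hφ) ψ).mp h1
    obtain ⟨m, hm, hpm⟩ := h2
    have hne : classInner (fun n : M.subgroupOf C => (φ : C → ℂ) n) ψ' ≠ 0 := by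
      have : classInner (fun n : M.subgroupOf C => (φ : C → ℂ) n) ψ' = m := by
        rw [← hm, res_eq hMC]
        simp only [CharCore.classInner_def]
        rw [Nat.card_congr eM.toEquiv]
        congr 1
        exact Fintype.sum_equiv eM.toEquiv
          (fun n : M.subgroupOf C => (φ : C → ℂ) n * conj (ψ' n))
          (fun m : M => (φ : C → ℂ) (Subgroup.inclusion hMC m) * conj ((ψ : M → ℂ) m)) fun n => rfl
      rw [this, Nat.cast_ne_zero]
      rintro rfl
      exact hpm (dvd_zero p)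
    exact fun k => extends_of_cyclic (M.subgroupOf C) (hcyc M hynM) hψ' hinvψ φ.2 hne
      ⟨⟨k, hMC k.2⟩, k.2⟩
  -- the action of `x`
  have hxy' : x * y * x⁻¹ = ⁅x, y⁆ * y := by rw [commutatorElement_def]; group
  have hxzp : ∀ g ∈ zpowers y, x * g * x⁻¹ ∈ C := by
    intro g hg
    have : zpowers y ≤ C.comap ((MulAut.conj x : G ≃* G) : G →* G) := zpowers_le.mpr (by
      show x * y * x⁻¹ ∈ C
      rw [hxy']
      exact mul_mem_sup hxy (mem_zpowers y))
    exact this hg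
  have hxJ : x ∈ normalizer (J : Set G) := normalizer_sup hxK fun g hg => hCJ (hxzp g hg)
  have hxC : x ∈ normalizer (C : Set G) := normalizer_sup hxM hxzp
  obtain ⟨μ, hμK, hμ⟩ := twist x hxJ hxK hθx
  have hxφ : ∀ a : C, (cjIrr C x hxC φ : C → ℂ) a =
      μ (Subgroup.inclusion hCJ a) * (φ : C → ℂ) a := by
    have hlin : IsIrrCharacter C (fun a : C => (μ (Subgroup.inclusion hCJ a) : ℂ) * (φ : C → ℂ) a) :=
      CharDeep.Ext.isIrrCharacter_mul φ.2 (N := M.subgroupOf C)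
        (by rw [show (fun n : M.subgroupOf C => (φ : C → ℂ) n) = ψ' from funext fun n =>
          hφψ (eM n)]; exact hψ')
        (CharCore.isIrrCharacter_hom (μ.comp (Subgroup.inclusion hCJ))) fun n a => by
          have := hμK ⟨⟨((n : C) : G), hCJ n.1.2⟩, hMK n.2⟩
          simp only [MonoidHom.comp_apply, map_mul, Units.val_mul]
          rw [show μ (Subgroup.inclusion hCJ (n : C)) = 1 from this, Units.val_one, one_mul]
    have hc1 := corr_conj hCJ x hxJ hxC η φ hφ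
    have hWfix : ∀ w ∈ W, Fixes J w (cjIrr J x hxJ η : J → ℂ) := by
      intro w hw k k' hk
      rw [hμ, hμ, hηW w hw k k' hk]
      congr 2
      obtain ⟨k₀, hk₀, t, ht, he⟩ := Coprime.exists_mul_of_mem_sup hyn k.2
      have hK' : w * k₀ * w⁻¹ * k₀⁻¹ ∈ K := mul_mem (conj_mem_of (hWK hw) hk₀) (inv_mem hk₀)
      have e : k' = ⟨_, hKJ hK'⟩ * k := Subtype.ext <| by
        show (k' : G) = w * k₀ * w⁻¹ * k₀⁻¹ * k
        rw [hk, he]
        calc w * (k₀ * t) * w⁻¹ = w * k₀ * w⁻¹ * (w * t) * w⁻¹ := by group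
          _ = w * k₀ * w⁻¹ * (t * w) * w⁻¹ := by rw [hWy w hw t ht]
          _ = _ := by group
      rw [e, map_mul, hμK ⟨⟨_, hKJ hK'⟩, hK'⟩, one_mul]
    have hc2 : Corr p J C (cjIrr J x hxJ η : J → ℂ)
        ((⟨_, hlin⟩ : IrrCharacter C) : C → ℂ) := by
      obtain ⟨m, hm, hpm⟩ := hφ
      refine ⟨m, ?_, hpm⟩
      rw [← hm, res_eq hCJ, res_eq hCJ]
      simp only [CharCore.classInner_def, hμ, map_mul]
      congr 1
      refine Finset.sum_congr rfl fun a _ => ?_
      have hn : (μ (Subgroup.inclusion hCJ a) : ℂ) * conj (μ (Subgroup.inclusion hCJ a) : ℂ) = 1 := by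
        have h := CharCore.irr_apply_inv ⟨_, CharCore.isIrrCharacter_hom μ⟩ (Subgroup.inclusion hCJ a)
        simp only [map_inv] at h
        rw [← h]
        exact Units.mul_inv _
      linear_combination ((η : J → ℂ) (Subgroup.inclusion hCJ a) *
        conj ((φ : C → ℂ) a)) * hn
    intro a
    exact congrFun (congrArg Subtype.val (D'.corr_unique _ hWfix hc1 hc2)) a
  -- both sums
  have hμl : ∀ l : K, μ (⟨(y * (l : G))⁻¹, inv_mem (mul_mem (mem_sup_right (mem_zpowers y)) (hKJ l.2))⟩ : J) =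
      μ ⟨y⁻¹, inv_mem (mem_sup_right (mem_zpowers y))⟩ := fun l => by
    rw [show (⟨(y * (l : G))⁻¹, _⟩ : J) =
      ⟨(l : G)⁻¹, inv_mem (hKJ l.2)⟩ * ⟨y⁻¹, inv_mem (mem_sup_right (mem_zpowers y))⟩ from
        Subtype.ext (mul_inv_rev _ _), map_mul,
      hμK ⟨⟨(l : G)⁻¹, inv_mem (hKJ l.2)⟩, inv_mem l.2⟩, one_mul]
  have hyJ : y ∈ J := mem_sup_right (mem_zpowers y)
  rw [pairSum_of_ext K J hKJ θ η hext hJK x y hyJ hxK hxJ (hMK hxy) hθx
    (μ ⟨y⁻¹, inv_mem hyJ⟩) fun l => ?_,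
    pairSum_of_ext M C hMC ψ φ hφψ hCM x y (mem_sup_right (mem_zpowers y)) hxM hxC hxy hψx
    (μ ⟨y⁻¹, inv_mem hyJ⟩) fun l => ?_]
  · have hm : (y * (l : G))⁻¹ ∈ C :=
      inv_mem (mul_mem (mem_sup_right (mem_zpowers y)) (hMC l.2))
    rw [CharInd.extendByZero_mem _ hm, CharInd.extendByZero_mem _ (conj_mem_of' hxC hm),
      ← hμl ⟨l, hMK l.2⟩]
    exact hxφ ⟨_, hm⟩
  · have hm : (y * (l : G))⁻¹ ∈ J := inv_mem (mul_mem hyJ (hKJ l.2))
    rw [CharInd.extendByZero_mem _ hm, CharInd.extendByZero_mem _ (conj_mem_of' hxJ hm),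
      ← hμl l]
    exact hμ ⟨_, hm⟩

set_option maxHeartbeats 2000000 in
/-- Commutator sums are preserved by the correspondence. -/
theorem pairSum_eq_corr : ∀ (n : ℕ) (K R M : Subgroup G), Nat.card R = n →
    CoprimeData p K R M → ∀ (B : Subgroup G), ¬ p ∣ Nat.card B → ∀ x ∈ B, ∀ y ∈ B,
      x ∈ normalizer (K : Set G) → y ∈ normalizer (K : Set G) →
      x ∈ normalizer (R : Set G) → y ∈ normalizer (R : Set G) → ⁅x, y⁆ ∈ M →
      ∀ θ : IrrCharacter K, (∀ r ∈ R, Fixes K r (θ : K → ℂ)) → Fixes K x (θ : K → ℂ) →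
        Fixes K y (θ : K → ℂ) → ∀ ψ : IrrCharacter M, Corr p K M (θ : K → ℂ) (ψ : M → ℂ) →
          pairSum K (θ : K → ℂ) x y = pairSum M (ψ : M → ℂ) x y := by
  intro n
  induction n using Nat.strong_induction_on with
  | _ n IH =>
  intro K R M hn D B hB x hx y hy hxK hyK hxR hyR hxy θ hθR hθx hθy ψ hψ
  by_cases hR : R = ⊥
  · obtain rfl : M = K := by
      rw [D.eq, hR]
      refine le_antisymm inf_le_left fun k hk => ⟨hk, ?_⟩
      exact mem_centralizer_iff.mpr fun r hr => by simp [mem_bot.mp hr]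
    obtain ⟨m, hm, hpm⟩ := hψ
    have : θ = ψ := by
      by_contra hne
      rw [res_eq le_rfl, show (fun c : M => (θ : M → ℂ) (Subgroup.inclusion le_rfl c)) =
        (θ : M → ℂ) from funext fun c => congrArg (θ : M → ℂ) (Subtype.ext rfl),
        CharCore.classInner_irr_of_ne hne] at hm
      exact hpm (by rw [show m = 0 by exact_mod_cast hm.symm]; exact dvd_zero p)
    rw [this]
  -- a maximal invariant subgroup
  let Sset : Set (Subgroup G) := {R₁ | R₁ ≤ R ∧ R₁ ≠ R ∧ R ≤ normalizer (R₁ : Set G) ∧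
    x ∈ normalizer (R₁ : Set G) ∧ y ∈ normalizer (R₁ : Set G)}
  have hbn : normalizer (((⊥ : Subgroup G)) : Set G) = ⊤ :=
    normalizer_eq_top_iff.mpr inferInstance
  have hbot : (⊥ : Subgroup G) ∈ Sset :=
    ⟨bot_le, fun h => hR h.symm, by rw [hbn]; exact le_top, by rw [hbn]; exact mem_top _,
      by rw [hbn]; exact mem_top _⟩
  obtain ⟨R₁, hR₁m⟩ := (Set.toFinite Sset).exists_maximal ⟨⊥, hbot⟩
  obtain ⟨hR₁, hR₁ne, hR₁n, hx₁, hy₁⟩ := hR₁m.prop
  have hlt : Nat.card R₁ < n := hn ▸ lt_of_le_of_ne (card_le_of_le hR₁) fun h =>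
    hR₁ne (eq_of_le_of_card_ge hR₁ h.ge)
  set K₁ := K ⊓ centralizer (R₁ : Set G) with hK₁
  have D₁ : CoprimeData p K R₁ K₁ := ⟨hR₁.trans D.le, D.isPGroup.to_le hR₁, D.not_dvd, rfl⟩
  have hK₁K : K₁ ≤ K := inf_le_left
  have hMK₁ : M ≤ K₁ := by rw [D.eq]; exact inf_le_inf_left _ (centralizer_le hR₁)
  have hK₁n : ∀ g ∈ normalizer (K : Set G), g ∈ normalizer (R₁ : Set G) →
      g ∈ normalizer (K₁ : Set G) := fun g hgK hgR =>
    Coprime.le_normalizer_inf (A := zpowers g) (zpowers_le.mpr hgK)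
      (Coprime.le_normalizer_centralizer (zpowers_le.mpr hgR)) (mem_zpowers g)
  have hθR₁ : ∀ r ∈ R₁, Fixes K r (θ : K → ℂ) := fun r hr => hθR r (hR₁ hr)
  obtain ⟨θ₁, hθ₁⟩ := D₁.exists_corr θ hθR₁
  have hfix : ∀ g, g ∈ normalizer (K : Set G) → g ∈ normalizer (R₁ : Set G) →
      Fixes K g (θ : K → ℂ) → Fixes K₁ g (θ₁ : K₁ → ℂ) := fun g hgK hgR hg =>
    D₁.corr_fixes θ hθR₁ hθ₁ g hgK (hK₁n g hgK hgR) hg
  have D₂ : CoprimeData p K₁ R M :=
    ⟨fun r hr => hK₁n r (D.le hr) (hR₁n hr), D.isPGroup,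
      fun h => D.not_dvd (h.trans (card_dvd_of_le hK₁K)), by
        rw [D.eq, hK₁, inf_assoc, inf_eq_right.mpr (centralizer_le hR₁)]⟩
  have hψ₁ := (corr_trans hp.out hK₁K hMK₁ θ θ₁ hθ₁
    (fun f hf => D₁.corr_unique θ hθR₁ hf hθ₁) ψ).mp hψ
  rw [IH _ hlt K R₁ K₁ rfl D₁ B hB x hx y hy hxK hyK hx₁ hy₁ (hMK₁ hxy) θ hθR₁ hθx hθy θ₁ hθ₁]
  have hθ₁R : ∀ r ∈ R, Fixes K₁ r (θ₁ : K₁ → ℂ) := fun r hr =>
    hfix r (D.le hr) (hR₁n hr) (hθR r hr)
  have hR₁C : R₁ ≤ centralizer (K₁ : Set G) := le_centralizer_iff.mp inf_le_right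
  -- the quotient `R / R₁`
  haveI hN : (R₁.subgroupOf R).Normal := ⟨fun a ha g => conj_mem_of (hR₁n g.2) ha⟩
  let Q := R ⧸ R₁.subgroupOf R
  haveI : Nontrivial Q := QuotientGroup.nontrivial_iff.mpr fun h =>
    hR₁ne (le_antisymm hR₁ (subgroupOf_eq_top.mp h))
  have hQp : IsPGroup p Q := D.isPGroup.to_quotient _
  haveI : Group.IsNilpotent Q := hQp.isNilpotent
  have hQc : commutator Q = ⊥ := by
    by_contra hne
    have hlt' : commutator Q < ⊤ := Group.IsSolvable.commutator_lt_top_of_nontrivial Q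
    set R' := ((commutator Q).comap (QuotientGroup.mk' (R₁.subgroupOf R))).map R.subtype
    have hR' : R' ≤ R := map_subtype_le _
    have hle : R₁ ≤ R' := fun r hr => ⟨⟨r, hR₁ hr⟩, by
      show QuotientGroup.mk' (R₁.subgroupOf R) _ ∈ commutator Q
      rw [QuotientGroup.mk'_apply, (QuotientGroup.eq_one_iff (N := R₁.subgroupOf R) _).mpr hr]
      exact one_mem _, rfl⟩
    have hR'top : R' ≠ R := by
      intro h
      refine hlt'.ne (eq_top_iff.mpr fun q _ => ?_)
      induction q using QuotientGroup.induction_on with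
      | H r =>
        obtain ⟨r', hr', he⟩ : (r : G) ∈ R' := h.symm ▸ r.2
        rwa [Subtype.ext he] at hr'
    have hR'n : ∀ g, g ∈ normalizer (R : Set G) → g ∈ normalizer (R₁ : Set G) →
        g ∈ normalizer (R' : Set G) := by
      intro g hgR hg₁
      have e : R' = R₁ ⊔ ⁅R, R⁆ := by
        show ((commutator Q).comap _).map _ = _
        rw [_root_.commutator_def, ← map_top_of_surjective _ (QuotientGroup.mk'_surjective _),
          ← map_commutator, comap_map_eq, QuotientGroup.ker_mk', Subgroup.map_sup,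
          map_subgroupOf_eq_of_le hR₁, map_commutator, ← MonoidHom.range_eq_map, range_subtype,
          sup_comm]
      rw [e]
      exact Coprime.le_normalizer_sup (A := zpowers g) (zpowers_le.mpr hg₁)
        (OddLocal43.normalizes_commutator (zpowers_le.mpr hgR) (zpowers_le.mpr hgR))
        (mem_zpowers g)
    have hmem : R' ∈ Sset := ⟨hR', hR'top, fun r hr => hR'n r (Subgroup.le_normalizer hr) (hR₁n hr),
      hR'n x hxR hx₁, hR'n y hyR hy₁⟩
    have heq : R' ≤ R₁ := hR₁m.2 hmem hle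
    apply hne
    rw [eq_bot_iff]
    intro q hq
    induction q using QuotientGroup.induction_on with
    | H r =>
      have : (r : G) ∈ R₁ := heq ⟨r, hq, rfl⟩
      exact mem_bot.mpr ((QuotientGroup.eq_one_iff _).mpr this)
  have hQcomm : ∀ a b : Q, a * b = b * a := fun a b => by
    have h := commutator_mem_commutator (mem_top a) (mem_top b)
    rw [← _root_.commutator_def, hQc, mem_bot] at h
    exact commutatorElement_eq_one_iff_mul_comm.mp h
  letI : CommGroup Q := { (inferInstance : Group Q) with mul_comm := hQcomm }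
  -- the automorphisms of the quotient
  let N₀ : Subgroup G := normalizer (R : Set G) ⊓ normalizer (R₁ : Set G)
  let σ : N₀ →* MulAut Q :=
    { toFun := fun g => QuotientGroup.congr (R₁.subgroupOf R) (R₁.subgroupOf R)
        ((conjEquiv R (g : G)⁻¹ (inv_mem g.2.1))) (by
          ext r
          constructor
          · rintro ⟨r', hr', rfl⟩
            show (g : G)⁻¹⁻¹ * (r' : G) * (g : G)⁻¹ ∈ R₁
            rw [inv_inv]; exact conj_mem_of g.2.2 hr'
          · intro hr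
            exact ⟨⟨(g : G)⁻¹ * r * g, conj_mem_of' g.2.1 r.2⟩, conj_mem_of' g.2.2 hr,
              Subtype.ext (by simp [mul_assoc])⟩)
      map_one' := MulEquiv.ext fun q => QuotientGroup.induction_on q fun r => by
        show ((conjEquiv R _ _ r : R) : Q) = r
        exact congrArg _ (Subtype.ext (by simp))
      map_mul' := fun a b => MulEquiv.ext fun q => QuotientGroup.induction_on q fun r => by
        show ((conjEquiv R _ _ r : R) : Q) = ((conjEquiv R _ _ (conjEquiv R _ _ r) : R) : Q)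
        exact congrArg _ (Subtype.ext (by simp [mul_assoc])) }
  have hσ1 : ∀ g : N₀, σ g = 1 ↔ ∀ r ∈ R, ⁅(g : G), r⁆ ∈ R₁ := by
    intro g
    have key : ∀ r : R, σ g (r : Q) = r ↔ ⁅(g : G), (r : G)⁆ ∈ R₁ := fun r => by
      show ((conjEquiv R _ _ r : R) : Q) = r ↔ _
      rw [← mul_inv_eq_one, ← QuotientGroup.mk_inv, ← QuotientGroup.mk_mul, QuotientGroup.eq_one_iff,
        mem_subgroupOf]
      simp [commutatorElement_def, mul_assoc]
    exact ⟨fun h r hr => (key ⟨r, hr⟩).mp (by rw [h]; rfl),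
      fun h => MulEquiv.ext fun q => QuotientGroup.induction_on q fun r => (key r).mpr (h r r.2)⟩
  let x₀ : N₀ := ⟨x, hxR, hx₁⟩
  let y₀ : N₀ := ⟨y, hyR, hy₁⟩
  let V : Subgroup (MulAut Q) := (Subgroup.closure {x₀, y₀}).map σ
  have hxyc : σ x₀ * σ y₀ = σ y₀ * σ x₀ := by
    rw [← commutatorElement_eq_one_iff_mul_comm, ← map_commutatorElement, hσ1]
    intro r hr
    have : ((⁅x₀, y₀⁆ : N₀) : G) = ⁅x, y⁆ := map_commutatorElement N₀.subtype x₀ y₀
    rw [this]
    have hc := mem_centralizer_iff.mp ((D.eq ▸ hxy : ⁅x, y⁆ ∈ K ⊓ centralizer (R : Set G)).2) r hr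
    rw [commutatorElement_eq_one_iff_mul_comm.mpr hc.symm]
    exact one_mem _
  have hVcomm : ∀ a b : V, a * b = b * a := by
    have : IsMulCommutative (Subgroup.closure ({σ x₀, σ y₀} : Set (MulAut Q))) :=
      Subgroup.isMulCommutative_closure fun a ha b hb => by
        simp only [Set.mem_insert_iff, Set.mem_singleton_iff] at ha hb
        rcases ha with rfl | rfl <;> rcases hb with rfl | rfl <;> first | rfl | exact hxyc | exact hxyc.symm
    intro a b
    have hV : V = Subgroup.closure ({σ x₀, σ y₀} : Set (MulAut Q)) := by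
      show (Subgroup.closure _).map σ = _
      rw [MonoidHom.map_closure, Set.image_pair]
    exact Subtype.ext (congrArg Subtype.val
      (this.is_comm.comm ⟨a.1, hV ▸ a.2⟩ ⟨b.1, hV ▸ b.2⟩) :)
  have hclB : Subgroup.closure {x₀, y₀} ≤ B.comap N₀.subtype := ((Subgroup.closure_le _)).mpr (by
    rintro g (rfl | rfl)
    · exact hx
    · exact hy)
  have hVp : ¬ p ∣ Nat.card V := fun h => hB (h.trans ((card_map_dvd _ _).trans
    ((card_dvd_of_le hclB).trans (card_comap_dvd_of_injective _ _ N₀.subtype_injective))))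
  have hfpf : ∀ v : V, v ≠ 1 → ∀ q : Q, v • q = q → q = 1 := by
    rintro ⟨v, g, hg, rfl⟩ hv q hq
    have hcomm' : ∀ h : N₀, h ∈ Subgroup.closure {x₀, y₀} → σ h * σ g = σ g * σ h := fun h hh =>
      congrArg Subtype.val (hVcomm ⟨σ h, h, hh, rfl⟩ ⟨σ g, g, hg, rfl⟩)
    -- the fixed points form an invariant subgroup
    let F : Subgroup Q :=
      { carrier := {q | σ g q = q}
        one_mem' := map_one _
        mul_mem' := fun {a b} ha hb => by
          show σ g (a * b) = a * b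
          rw [map_mul, ha, hb]
        inv_mem' := fun {a} ha => by
          show σ g a⁻¹ = a⁻¹
          rw [map_inv, ha] }
    set R' := (F.comap (QuotientGroup.mk' (R₁.subgroupOf R))).map R.subtype
    have hR' : R' ≤ R := map_subtype_le _
    have hle : R₁ ≤ R' := fun r hr => ⟨⟨r, hR₁ hr⟩, by
      show σ g (QuotientGroup.mk' _ _) = QuotientGroup.mk' _ _
      rw [QuotientGroup.mk'_apply, (QuotientGroup.eq_one_iff (N := R₁.subgroupOf R) _).mpr hr, map_one], rfl⟩
    have hR'x : ∀ h : N₀, h ∈ Subgroup.closure {x₀, y₀} → (h : G) ∈ normalizer (R' : Set G) := by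
      intro h hh
      refine Coprime.le_normalizer_of_conj_mem (A := (Subgroup.closure {x₀, y₀}).map N₀.subtype) ?_ ⟨h, hh, rfl⟩
      rintro _ ⟨a, ha, rfl⟩ _ ⟨r, hr, rfl⟩
      refine ⟨⟨(a : G) * r * (a : G)⁻¹, conj_mem_of a.2.1 r.2⟩, ?_, rfl⟩
      show σ g _ = _
      have e : QuotientGroup.mk' (R₁.subgroupOf R)
          (⟨(a : G) * r * (a : G)⁻¹, conj_mem_of a.2.1 r.2⟩ : R) = σ a (r : Q) :=
        congrArg _ (Subtype.ext (by simp))
      rw [e, ← MulAut.mul_apply, ← hcomm' a ha, MulAut.mul_apply]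
      exact congrArg (σ a) hr
    have hR'R : R ≤ normalizer (R' : Set G) :=
      Coprime.le_normalizer_of_conj_mem fun r hr _ ⟨r', hr', he⟩ => by
        subst he
        refine ⟨⟨r, hr⟩ * r' * ⟨r, hr⟩⁻¹, ?_, rfl⟩
        show σ g _ = _
        have e : QuotientGroup.mk' (R₁.subgroupOf R) (⟨r, hr⟩ * r' * ⟨r, hr⟩⁻¹) =
            QuotientGroup.mk' (R₁.subgroupOf R) r' := by
          rw [map_mul, map_mul, map_inv, hQcomm (QuotientGroup.mk' _ ⟨r, hr⟩), mul_inv_cancel_right]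
        rw [e]
        exact hr'
    by_cases hall : R' = R
    · exfalso
      apply hv
      refine Subtype.ext (MulEquiv.ext fun q => ?_)
      induction q using QuotientGroup.induction_on with
      | H r =>
        obtain ⟨r', hr', he⟩ : (r : G) ∈ R' := hall.symm ▸ r.2
        rw [Subtype.ext he] at hr'
        exact hr'
    · have heq : R' ≤ R₁ := hR₁m.2 ⟨hR', hall, hR'R,
        hR'x x₀ (subset_closure (Or.inl rfl)), hR'x y₀ (subset_closure (Or.inr rfl))⟩ hle
      induction q using QuotientGroup.induction_on with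
      | H r =>
        exact (QuotientGroup.eq_one_iff _).mpr (heq ⟨r, hq, rfl⟩ : (r : G) ∈ R₁)
  haveI : IsCyclic V := ZassNormal.isCyclic_of_fpf_comm hVcomm
    ((by obtain ⟨k, hk⟩ := hQp.exists_card_eq; rw [hk]; exact Nat.Coprime.pow_right k (hp.out.coprime_iff_not_dvd.mpr hVp).symm)) hfpf
  obtain ⟨v, hv⟩ := IsCyclic.exists_monoid_generator (α := V)
  have hpow : ∀ g : N₀, g ∈ Subgroup.closure {x₀, y₀} → ∃ a : ℕ, σ g = (v : MulAut Q) ^ a := fun g hg => by
    obtain ⟨a, ha⟩ := Submonoid.mem_powers_iff _ _ |>.mp (hv ⟨σ g, g, hg, rfl⟩)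
    exact ⟨a, (congrArg Subtype.val ha).symm.trans (SubmonoidClass.coe_pow _ _)⟩
  have key : ∀ (s : ℕ) (x y : G) (hx0 : x ∈ N₀) (hy0 : y ∈ N₀) (a b : ℕ), a + b = s → x ∈ B → y ∈ B →
      σ ⟨x, hx0⟩ = (v : MulAut Q) ^ a → σ ⟨y, hy0⟩ = (v : MulAut Q) ^ b →
      x ∈ normalizer (K₁ : Set G) → y ∈ normalizer (K₁ : Set G) → ⁅x, y⁆ ∈ M →
      Fixes K₁ x (θ₁ : K₁ → ℂ) → Fixes K₁ y (θ₁ : K₁ → ℂ) →
        pairSum K₁ (θ₁ : K₁ → ℂ) x y = pairSum M (ψ : M → ℂ) x y := by
    intro s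
    induction s using Nat.strong_induction_on with
    | _ s ihs =>
    intro x y hx0 hy0 a b hab hx hy ha hb hxK hyK hxy hfx hfy
    have main : ∀ (x y : G) (hx0 : x ∈ N₀) (hy0 : y ∈ N₀), y ∈ B → σ ⟨y, hy0⟩ = 1 →
        x ∈ normalizer (K₁ : Set G) → y ∈ normalizer (K₁ : Set G) → ⁅x, y⁆ ∈ M →
        Fixes K₁ x (θ₁ : K₁ → ℂ) → Fixes K₁ y (θ₁ : K₁ → ℂ) →
          pairSum K₁ (θ₁ : K₁ → ℂ) x y = pairSum M (ψ : M → ℂ) x y :=
      fun x y hx0 hy0 hy h1 hxK hyK hxy hfx hfy =>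
        pairSum_step D₂ hR₁ hR₁n hR₁C hB hy hxK hyK hx0.1 hy0.1 hy0.2
          ((hσ1 ⟨y, hy0⟩).mp h1) hxy θ₁ hθ₁R hfx hfy ψ hψ₁
    rcases Nat.eq_zero_or_pos b with rfl | hb0
    · exact main x y hx0 hy0 hy (by rw [hb, pow_zero]) hxK hyK hxy hfx hfy
    rcases Nat.eq_zero_or_pos a with rfl | ha0
    · have h := main y x hy0 hx0 hx (by rw [ha, pow_zero]) hyK hxK
        (commutatorElement_inv x y ▸ inv_mem hxy) hfy hfx
      rw [pairSum_swap K₁ θ₁ x y, pairSum_swap M ψ x y] at h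
      exact (starRingEnd ℂ).injective h
    have hxM : x ∈ normalizer (M : Set G) := by
      rw [D₂.eq]
      exact Coprime.le_normalizer_inf (A := zpowers x) (zpowers_le.mpr hxK)
        (Coprime.le_normalizer_centralizer (zpowers_le.mpr hx0.1)) (mem_zpowers x)
    have hyM : y ∈ normalizer (M : Set G) := by
      rw [D₂.eq]
      exact Coprime.le_normalizer_inf (A := zpowers y) (zpowers_le.mpr hyK)
        (Coprime.le_normalizer_centralizer (zpowers_le.mpr hy0.1)) (mem_zpowers y)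
    have hshear : ∀ (x y : G), x ∈ normalizer (K₁ : Set G) → y ∈ normalizer (K₁ : Set G) →
        Fixes K₁ x (θ₁ : K₁ → ℂ) → Fixes K₁ y (θ₁ : K₁ → ℂ) →
        Fixes K₁ (y * x⁻¹) (θ₁ : K₁ → ℂ) := by
      intro x y hxK hyK hfx hfy k k' hk
      let j : K₁ := ⟨x⁻¹ * k * x, conj_mem_of' hxK k.2⟩
      rw [hfy j k' (by rw [hk]; simp [j, mul_assoc])]
      exact (hfx j k (by simp [j, mul_assoc])).symm
    rcases Nat.lt_or_ge b a with hlt2 | hge
    · -- reduce `x` by `y`
      have hz0 : x * y⁻¹ ∈ N₀ := mul_mem hx0 (inv_mem hy0)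
      have hσz : σ ⟨x * y⁻¹, hz0⟩ = (v : MulAut Q) ^ (a - b) := by
        rw [show (⟨x * y⁻¹, hz0⟩ : N₀) = ⟨x, hx0⟩ * ⟨y, hy0⟩⁻¹ from rfl, map_mul, map_inv, ha, hb,
          ← pow_sub _ hlt2.le]
      have h := ihs ((a - b) + b) (by omega) (x * y⁻¹) y hz0 hy0 (a - b) b rfl
        (mul_mem hx (inv_mem hy)) hy hσz hb (mul_mem hxK (inv_mem hyK)) hyK (by
          have e : ⁅x * y⁻¹, y⁆ = ⁅x, y⁆ := by simp only [commutatorElement_def]; group
          rwa [e]) (hshear y x hyK hxK hfy hfx) hfy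
      have e1 : pairSum K₁ (θ₁ : K₁ → ℂ) x y = pairSum K₁ (θ₁ : K₁ → ℂ) (x * y⁻¹) y := by
        apply (starRingEnd ℂ).injective
        rw [← pairSum_swap, ← pairSum_swap, ← pairSum_shear K₁ _ y (x * y⁻¹) hyK, inv_mul_cancel_right]
      have e2 : pairSum M (ψ : M → ℂ) x y = pairSum M (ψ : M → ℂ) (x * y⁻¹) y := by
        apply (starRingEnd ℂ).injective
        rw [← pairSum_swap, ← pairSum_swap, ← pairSum_shear M _ y (x * y⁻¹) hyM, inv_mul_cancel_right]
      rw [e1, e2, h]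
    · have hz0 : y * x⁻¹ ∈ N₀ := mul_mem hy0 (inv_mem hx0)
      have hσz : σ ⟨y * x⁻¹, hz0⟩ = (v : MulAut Q) ^ (b - a) := by
        rw [show (⟨y * x⁻¹, hz0⟩ : N₀) = ⟨y, hy0⟩ * ⟨x, hx0⟩⁻¹ from rfl, map_mul, map_inv, ha, hb,
          ← pow_sub _ hge]
      have h := ihs (a + (b - a)) (by omega) x (y * x⁻¹) hx0 hz0 a (b - a) rfl hx
        (mul_mem hy (inv_mem hx)) ha hσz hxK (mul_mem hyK (inv_mem hxK)) (by
          have e : ⁅x, y * x⁻¹⁆ = ⁅x, y⁆ := by simp only [commutatorElement_def]; group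
          rwa [e]) hfx (hshear x y hxK hyK hfx hfy)
      have e1 := pairSum_shear K₁ (θ₁ : K₁ → ℂ) x (y * x⁻¹) hxK
      have e2 := pairSum_shear M (ψ : M → ℂ) x (y * x⁻¹) hxM
      rw [inv_mul_cancel_right] at e1 e2
      rw [e1, e2, h]
  obtain ⟨a, ha⟩ := hpow x₀ (subset_closure (Or.inl rfl))
  obtain ⟨b, hb⟩ := hpow y₀ (subset_closure (Or.inr rfl))
  exact key (a + b) x y ⟨hxR, hx₁⟩ ⟨hyR, hy₁⟩ a b rfl hx hy ha hb (hK₁n x hxK hx₁)
    (hK₁n y hyK hy₁) hxy (hfix x hxK hx₁ hθx) (hfix y hyK hy₁ hθy)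

end Cfsg.Agent.PMcKay87
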