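import Cfsg.Agent.PMcKay87.Extend
import Cfsg.Agent.PMcKay87.Step

/-!
The commutator sums over the characters of `K S` reduce to those over the fixed characters of `K`.
-/

set_option autoImplicit false

namespace Cfsg.Agent.PMcKay87

open scoped ComplexConjugate commutatorElement Classical
open Cfsg (extendByZero classInner IsIrrCharacter IrrCharacter)
open Subgroup

attribute [local instance high] Fintype.ofFinite

universe u

variable {G : Type u} [Group G] [Finite G]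

/-- The central elements of `Z` act through `ζ`. -/
def Central (Z : Subgroup G) (ζ : Z →* ℂˣ) (H : Subgroup G) (χ : H → ℂ) : Prop :=
  ∀ (z : Z) (hz : (z : G) ∈ H), χ ⟨z, hz⟩ = (ζ z : ℂ) * χ 1

/-- The characters of degree prime to `p` over `ζ`. -/
noncomputable def goodSet (p : ℕ) (Z : Subgroup G) (ζ : Z →* ℂˣ) (H : Subgroup G) :
    Finset (IrrCharacter H) :=
  Finset.univ.filter fun η =>
    ¬ p ∣ Cfsg.charDegree (η : H → ℂ) ∧ Central Z ζ H (η : H → ℂ)

/-- The fixed characters of `K` over `ζ`. -/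
noncomputable def fixedSet (Z : Subgroup G) (ζ : Z →* ℂˣ) (K S : Subgroup G) (x y : G) :
    Finset (IrrCharacter K) :=
  Finset.univ.filter fun θ => (∀ s ∈ S, Fixes K s (θ : K → ℂ)) ∧ Fixes K x (θ : K → ℂ) ∧
    Fixes K y (θ : K → ℂ) ∧ Central Z ζ K (θ : K → ℂ)

/-- The linear characters of `S` over `ζ` fixed by `x` and `y`. -/
def linSet (Z : Subgroup G) (ζ : Z →* ℂˣ) (S : Subgroup G) (x y : G) : Set (S →* ℂˣ) :=
  {l | (∀ (z : Z) (hz : (z : G) ∈ S), l ⟨z, hz⟩ = ζ z) ∧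
    (∀ s s' : S, (s' : G) = x * s * x⁻¹ → l s' = l s) ∧
    ∀ s s' : S, (s' : G) = y * s * y⁻¹ → l s' = l s}

theorem isCyclic_quot (A : Subgroup G) (y : G) (hA : zpowers y ≤ normalizer (A : Set G))
    [(A.subgroupOf (A ⊔ zpowers y)).Normal] :
    IsCyclic (↥(A ⊔ zpowers y) ⧸ A.subgroupOf (A ⊔ zpowers y)) := by
  refine ⟨⟨((⟨y, mem_sup_right (mem_zpowers y)⟩ : ↥(A ⊔ zpowers y)) : _ ⧸ _), fun q => ?_⟩⟩
  induction q using QuotientGroup.induction_on with
  | H g =>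
    obtain ⟨a, ha, t, ⟨i, rfl⟩, he⟩ := Coprime.exists_mul_of_mem_sup hA g.2
    refine mem_zpowers_iff.mpr ⟨i, ?_⟩
    rw [← QuotientGroup.mk_zpow, QuotientGroup.eq]
    rw [mem_subgroupOf]
    simp only [Subgroup.coe_mul, Subgroup.coe_inv, Subgroup.coe_zpow, he]
    have := conj_mem_of' (zpow_mem (hA (mem_zpowers y)) i) ha
    simpa [mul_assoc] using this

theorem fixes_of_mem_sup (A : Subgroup G) (f : IrrCharacter A) {y : G}
    (hy : y ∈ normalizer (A : Set G)) (hf : Fixes A y (f : A → ℂ)) :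
    ∀ g ∈ A ⊔ zpowers y, Fixes A g (f : A → ℂ) := by
  intro g hg
  let T : Subgroup G :=
    { carrier := {g | ∃ hg : g ∈ normalizer (A : Set G), cjIrr A g hg f = f}
      one_mem' := ⟨one_mem _, Subtype.ext (funext fun k => congrArg (f : A → ℂ)
        (Subtype.ext (by simp)))⟩
      mul_mem' := fun {a b} ⟨ha, ha'⟩ ⟨hb, hb'⟩ => ⟨mul_mem ha hb, Subtype.ext (funext fun k => by
        have h1 := congrFun (congrArg Subtype.val hb') (conjEquiv A a ha k)
        have h2 := congrFun (congrArg Subtype.val ha') k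
        refine Eq.trans ?_ (h1.trans h2)
        exact congrArg (f : A → ℂ) (Subtype.ext (by simp [mul_assoc])))⟩
      inv_mem' := fun {a} ⟨ha, ha'⟩ => ⟨inv_mem ha, Subtype.ext (funext fun k => by
        have h2 := congrFun (congrArg Subtype.val ha') (conjEquiv A a⁻¹ (inv_mem ha) k)
        refine h2.symm.trans ?_
        exact congrArg (f : A → ℂ) (Subtype.ext (by simp [mul_assoc])))⟩ }
  have hle : A ⊔ zpowers y ≤ T := sup_le
    (fun a ha => ⟨Subgroup.le_normalizer ha, Subtype.ext (funext fun k => by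
      have := CharCore.irr_isClassFunction f k ⟨a, ha⟩⁻¹
      simp only [inv_inv] at this
      exact (congrArg (f : A → ℂ) (Subtype.ext (by simp [mul_assoc]))).trans this)⟩)
    (zpowers_le.mpr ⟨hy, (fixes_iff A y _ f).mp hf⟩)
  obtain ⟨hgA, hgf⟩ := hle hg
  exact (fixes_iff A g hgA f).mpr hgf

/-- The commutator sum of an extension is that of the restricted character. -/
theorem pairSum_restrict {K H : Subgroup G} (hKH : K ≤ H) (hH : H ≤ normalizer (K : Set G))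
    (η : IrrCharacter H) (θ : IrrCharacter K)
    (hres : ∀ k : K, (η : H → ℂ) ⟨k, hKH k.2⟩ = (θ : K → ℂ) k) {x y : G}
    (hxH : x ∈ normalizer (H : Set G)) (hyH : y ∈ normalizer (H : Set G))
    (hxK : x ∈ normalizer (K : Set G)) (hyK : y ∈ normalizer (K : Set G))
    (hxy : ⁅x, y⁆ ∈ K) (hηx : Fixes H x (η : H → ℂ)) (hηy : Fixes H y (η : H → ℂ)) :
    pairSum H (η : H → ℂ) x y = pairSum K (θ : K → ℂ) x y := by
  have hθx : Fixes K x (θ : K → ℂ) := fun k k' hk => by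
    rw [← hres, ← hres]; exact hηx ⟨k, hKH k.2⟩ ⟨k', hKH k'.2⟩ hk
  set J := H ⊔ zpowers y with hJdef
  set J' := K ⊔ zpowers y with hJ'def
  have hHJ : H ≤ J := le_sup_left
  have hKJ' : K ≤ J' := le_sup_left
  have hJ'J : J' ≤ J := sup_le (hKH.trans hHJ) le_sup_right
  have hJH : J ≤ normalizer (H : Set G) := sup_le Subgroup.le_normalizer (zpowers_le.mpr hyH)
  have hJ'K : J' ≤ normalizer (K : Set G) := sup_le Subgroup.le_normalizer (zpowers_le.mpr hyK)
  haveI : (H.subgroupOf J).Normal := ⟨fun n hn g => conj_mem_of (hJH g.2) hn⟩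
  let e := subgroupOfEquivOfLe hHJ
  let η' : H.subgroupOf J → ℂ := fun n => (η : H → ℂ) (e n)
  have hη' : IsIrrCharacter (H.subgroupOf J) η' :=
    CharCore.isIrrCharacter_comp_surjective η.2 e.toMonoidHom e.surjective
  have hinv : CharDeep.Ext.Inv (H.subgroupOf J) η' := fun g n =>
    fixes_of_mem_sup H η hyH hηy g g.2 _ _ rfl
  obtain ⟨f₀, hf₀, hext₀⟩ := CharB.exists_extension_of_cyclic (H.subgroupOf J)
    (isCyclic_quot H y (zpowers_le.mpr hyH)) hη' hinv
  let f : IrrCharacter J := ⟨f₀, hf₀⟩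
  have hext : ∀ h : H, (f : J → ℂ) ⟨h, hHJ h.2⟩ = (η : H → ℂ) h := fun h =>
    hext₀ ⟨⟨h, hHJ h.2⟩, h.2⟩
  have hfK : ∀ k : K, (f : J → ℂ) ⟨k, hHJ (hKH k.2)⟩ = (θ : K → ℂ) k := fun k =>
    (hext ⟨k, hKH k.2⟩).trans (hres k)
  have hg : IsIrrCharacter J' (fun a : J' => (f : J → ℂ) (Subgroup.inclusion hJ'J a)) := by
    refine CharDeep.Ext.isIrrCharacter_of_restrict (K.subgroupOf J')
      (CharCore.isCharacter_comp (CharCore.irr_isCharacter f) _) ?_
    let eK := subgroupOfEquivOfLe hKJ'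
    rw [show (fun n : K.subgroupOf J' => (f : J → ℂ) (Subgroup.inclusion hJ'J n)) =
      fun n => (θ : K → ℂ) (eK n) from funext fun n => hfK ⟨((n : J') : G), n.2⟩]
    exact CharCore.isIrrCharacter_comp_surjective θ.2 eK.toMonoidHom eK.surjective
  let g : IrrCharacter J' := ⟨_, hg⟩
  have hxy' : x * y * x⁻¹ = ⁅x, y⁆ * y := by rw [commutatorElement_def]; group
  have hxzp : ∀ a ∈ zpowers y, x * a * x⁻¹ ∈ J' := by
    intro a ha
    have : zpowers y ≤ J'.comap ((MulAut.conj x : G ≃* G) : G →* G) := zpowers_le.mpr (by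
      show x * y * x⁻¹ ∈ J'
      rw [hxy']
      exact mul_mem_sup hxy (mem_zpowers y))
    exact this ha
  have hxJ : x ∈ normalizer (J : Set G) := normalizer_sup hxH fun a ha => hJ'J (hxzp a ha)
  have hxJ' : x ∈ normalizer (J' : Set G) := normalizer_sup hxK hxzp
  have hfN : IsIrrCharacter (H.subgroupOf J) (fun n : H.subgroupOf J => (f : J → ℂ) n) := by
    rwa [show (fun n : H.subgroupOf J => (f : J → ℂ) n) = η' from funext hext₀]
  obtain ⟨μ, hμN, hμ⟩ := exists_twist (H.subgroupOf J) f.2 (cjIrr J x hxJ f).2 hfN fun n => by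
    have hn : ((n : J) : G) ∈ H := n.2
    show (f : J → ℂ) (conjEquiv J x hxJ n) = (f : J → ℂ) n
    have h1 : (f : J → ℂ) (conjEquiv J x hxJ n) =
        (η : H → ℂ) ⟨x⁻¹ * ((n : J) : G) * x, conj_mem_of' hxH hn⟩ :=
      hext ⟨x⁻¹ * ((n : J) : G) * x, conj_mem_of' hxH hn⟩
    rw [h1, show (f : J → ℂ) n = (η : H → ℂ) (e n) from hext₀ n]
    exact (hηx ⟨_, conj_mem_of' hxH hn⟩ (e n) (by simp [e, mul_assoc])).symm
  have hyJ : y ∈ J := mem_sup_right (mem_zpowers y)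
  have hμl : ∀ (h : G) (hh : h ∈ H), μ ⟨(y * h)⁻¹, inv_mem (mul_mem hyJ (hHJ hh))⟩ =
      μ ⟨y⁻¹, inv_mem hyJ⟩ := fun h hh => by
    rw [show (⟨(y * h)⁻¹, _⟩ : J) = ⟨h⁻¹, inv_mem (hHJ hh)⟩ * ⟨y⁻¹, inv_mem hyJ⟩ from
      Subtype.ext (mul_inv_rev _ _), map_mul, hμN ⟨⟨h⁻¹, inv_mem (hHJ hh)⟩, inv_mem hh⟩, one_mul]
  rw [pairSum_of_ext H J hHJ η f hext hJH x y hyJ hxH hxJ (hKH hxy) hηx
    (μ ⟨y⁻¹, inv_mem hyJ⟩) fun l => ?_,
    pairSum_of_ext K J' hKJ' θ g hfK hJ'K x y (mem_sup_right (mem_zpowers y)) hxK hxJ' hxy hθx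
    (μ ⟨y⁻¹, inv_mem hyJ⟩) fun l => ?_]
  · have hm : (y * (l : G))⁻¹ ∈ J' :=
      inv_mem (mul_mem (mem_sup_right (mem_zpowers y)) (hKJ' l.2))
    rw [CharInd.extendByZero_mem _ hm, CharInd.extendByZero_mem _ (conj_mem_of' hxJ' hm),
      ← hμl l (hKH l.2)]
    exact hμ ⟨_, hJ'J hm⟩
  · have hm : (y * (l : G))⁻¹ ∈ J := inv_mem (mul_mem hyJ (hHJ l.2))
    rw [CharInd.extendByZero_mem _ hm, CharInd.extendByZero_mem _ (conj_mem_of' hxJ hm),
      ← hμl l l.2]
    exact hμ ⟨_, hm⟩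

/-- The linear twist of the chosen extension. -/
theorem sum_goodSet {p : ℕ} [hp : Fact p.Prime] {K S H : Subgroup G} (D : Semidirect p K S H)
    (Z : Subgroup G) (hZ : Z ≤ center G) (ζ : Z →* ℂˣ)
    (hZd : ∀ z : Z, ∃ a b : Z, z = a * b ∧ (a : G) ∈ K ∧ (b : G) ∈ S)
    (x y : G) (hxK : x ∈ normalizer (K : Set G)) (hyK : y ∈ normalizer (K : Set G))
    (hxS : x ∈ normalizer (S : Set G)) (hyS : y ∈ normalizer (S : Set G))
    (hxy : ⁅x, y⁆ ∈ K) :
    ∑ η ∈ goodSet p Z ζ H, pairSum H (η : H → ℂ) x y =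
      (Nat.card (linSet Z ζ S x y) : ℂ) *
        ∑ θ ∈ fixedSet Z ζ K S x y, pairSum K (θ : K → ℂ) x y := by
  haveI hN : (K.subgroupOf H).Normal := ⟨fun n hn g => conj_mem_of (D.H_le g.2) hn⟩
  have hxH : x ∈ normalizer (H : Set G) := D.eq ▸ normalizer_sup hxK
    fun s hs => mem_sup_right (conj_mem_of hxS hs)
  have hyH : y ∈ normalizer (H : Set G) := D.eq ▸ normalizer_sup hyK
    fun s hs => mem_sup_right (conj_mem_of hyS hs)
  obtain ⟨π, hπK, hπS, hπ⟩ := D.exists_proj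
  let eK := subgroupOfEquivOfLe D.K_le
  have hresIrr : ∀ (η : IrrCharacter H) (θ : IrrCharacter K),
      (∀ k : K, (η : H → ℂ) ⟨k, D.K_le k.2⟩ = (θ : K → ℂ) k) →
      IsIrrCharacter (K.subgroupOf H) (fun n : K.subgroupOf H => (η : H → ℂ) n) := by
    intro η θ h
    rw [show (fun n : K.subgroupOf H => (η : H → ℂ) n) = fun n => (θ : K → ℂ) (eK n) from
      funext fun n => h ⟨((n : H) : G), n.2⟩]
    exact CharCore.isIrrCharacter_comp_surjective θ.2 eK.toMonoidHom eK.surjective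
  -- a good character restricts irreducibly
  have hgood : ∀ η : IrrCharacter H, ¬ p ∣ Cfsg.charDegree (η : H → ℂ) →
      ∃ θ : IrrCharacter K, (∀ k : K, (η : H → ℂ) ⟨k, D.K_le k.2⟩ = (θ : K → ℂ) k) ∧
        ∀ s ∈ S, Fixes K s (θ : K → ℂ) := by
    intro η hη
    obtain ⟨θ₀, hθ₀⟩ := CharClifford.exists_constituent
      (CharCore.isCharacter_restrict (CharCore.irr_isCharacter η) (K.subgroupOf H))
      (by simpa using CharCore.irr_apply_one_ne_zero η)
    let θ : IrrCharacter K := ⟨fun k => (θ₀ : K.subgroupOf H → ℂ) (eK.symm k),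
      CharCore.isIrrCharacter_comp_surjective θ₀.2 eK.symm.toMonoidHom eK.symm.surjective⟩
    obtain ⟨c, hc, hcd, hc0, -⟩ := exists_deg η
    obtain ⟨d, hd, -, hd0, -⟩ := exists_deg θ
    have hd' : (θ₀ : K.subgroupOf H → ℂ) 1 = d := by
      rw [← hd]; exact congrArg (θ₀ : K.subgroupOf H → ℂ) (map_one eK.symm).symm
    obtain ⟨hdc, hci⟩ := CharB.degree_dvd (K.subgroupOf H) η.2 θ₀.2 hθ₀ hc hd'
    obtain ⟨a, ha⟩ := D.index_eq
    rw [ha] at hci
    have hcd' : c = d := by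
      obtain ⟨j, -, hj⟩ := (Nat.dvd_prime_pow hp.out).mp hci
      rcases Nat.eq_zero_or_pos j with rfl | hj0
      · rw [pow_zero] at hj
        exact (Nat.eq_of_dvd_of_div_eq_one hdc hj).symm
      · exfalso
        apply hη
        rw [hcd, ← Nat.div_mul_cancel hdc, hj]
        exact dvd_mul_of_dvd_left (dvd_pow_self p hj0.ne') _
    obtain ⟨m, hm⟩ := CharCore.IsCharacter.exists_sum
      (CharCore.isCharacter_restrict (CharCore.irr_isCharacter η) (K.subgroupOf H))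
    have hmθ : m θ₀ ≠ 0 := by
      intro h
      apply hθ₀
      rw [hm, CharCore.classInner_sum_all, h, Nat.cast_zero]
    choose dd hdd using fun ψ : IrrCharacter (K.subgroupOf H) =>
      CharCore.IsCharacter.exists_degree (CharCore.irr_isCharacter ψ)
    have hdd0 : ∀ ψ, dd ψ ≠ 0 := fun ψ h =>
      CharCore.irr_apply_one_ne_zero ψ (by rw [hdd ψ, h, Nat.cast_zero])
    have hsum : ∑ ψ, m ψ * dd ψ = d := by
      have h := congrFun hm 1
      simp only [Finset.sum_apply, Pi.smul_apply, smul_eq_mul, hdd, Subgroup.coe_one, hc, hcd'] at h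
      exact_mod_cast h.symm
    have hdθ : dd θ₀ = d := by exact_mod_cast (hdd θ₀).symm.trans hd'
    rw [← Finset.add_sum_erase _ _ (Finset.mem_univ θ₀), hdθ] at hsum
    have hm1 : m θ₀ = 1 := by
      by_contra h
      have : 2 * d ≤ m θ₀ * d := Nat.mul_le_mul_right d (by omega)
      omega
    rw [hm1, one_mul, Nat.add_eq_left] at hsum
    have hres : (fun n : K.subgroupOf H => (η : H → ℂ) n) = θ₀ := by
      rw [hm, ← Finset.add_sum_erase _ _ (Finset.mem_univ θ₀), hm1, Nat.cast_one, one_smul,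
        Finset.sum_eq_zero, add_zero]
      intro ψ hψ
      rcases mul_eq_zero.mp (Finset.sum_eq_zero_iff.mp hsum ψ hψ) with h | h
      · rw [h, Nat.cast_zero, zero_smul]
      · exact absurd h (hdd0 ψ)
    have hθres : ∀ k : K, (η : H → ℂ) ⟨k, D.K_le k.2⟩ = (θ : K → ℂ) k := fun k =>
      congrFun hres (eK.symm k)
    refine ⟨θ, hθres, fun s hs k k' hk => ?_⟩
    rw [← hθres, ← hθres]
    have := CharCore.irr_isClassFunction η ⟨k, D.K_le k.2⟩ ⟨s, D.S_le hs⟩
    rw [← this]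
    exact congrArg (η : H → ℂ) (Subtype.ext hk)
  haveI : Nonempty (IrrCharacter H) := ⟨⟨1, CharCore.isIrrCharacter_one⟩⟩
  choose! ext hext hextcop hextuniq using
    fun (θ : IrrCharacter K) (hθ : ∀ s ∈ S, Fixes K s (θ : K → ℂ)) => D.exists_ext θ hθ
  have hl1 : ∀ (l : S →* ℂˣ) (k : H), (k : G) ∈ K → l (π k) = 1 := fun l k hk => by
    rw [hπK k hk, map_one]
  have hmk : ∀ (θ : IrrCharacter K), (∀ s ∈ S, Fixes K s (θ : K → ℂ)) → ∀ l : S →* ℂˣ,
      IsIrrCharacter H (fun a => (l (π a) : ℂ) * (ext θ : H → ℂ) a) := fun θ hθ l =>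
    CharDeep.Ext.isIrrCharacter_mul (ext θ).2 (N := K.subgroupOf H)
      (hresIrr _ θ (hext θ hθ)) (CharCore.isIrrCharacter_hom (l.comp π)) fun n a => by
        simp only [MonoidHom.comp_apply, map_mul, Units.val_mul, hl1 l (n : H) n.2, Units.val_one,
          one_mul]
  -- fixedness
  have hextfix : ∀ (θ : IrrCharacter K), (∀ s ∈ S, Fixes K s (θ : K → ℂ)) → ∀ g,
      g ∈ normalizer (K : Set G) → g ∈ normalizer (H : Set G) → Fixes K g (θ : K → ℂ) →
      Fixes H g (ext θ : H → ℂ) := by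
    intro θ hθ g hgK hgH hg
    rw [fixes_iff H g hgH]
    refine hextuniq θ hθ _ (fun k => ?_) ?_
    · show (ext θ : H → ℂ) (conjEquiv H g hgH ⟨k, D.K_le k.2⟩) = _
      have hk' : g⁻¹ * (k : G) * g ∈ K := conj_mem_of' hgK k.2
      refine (hext θ hθ ⟨_, hk'⟩).trans ?_
      exact (hg ⟨_, hk'⟩ k (by simp [mul_assoc])).symm
    · refine (hextcop θ hθ).coprime_dvd_right ?_
      rw [CharDeep.Ext.detOrder_eq, CharDeep.Ext.detOrder_eq]
      refine orderOf_dvd_of_pow_eq_one ?_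
      rw [show ((cjIrr H g hgH (ext θ) : IrrCharacter H) : H → ℂ) =
        fun a => (ext θ : H → ℂ) ((conjEquiv H g hgH).toMonoidHom a) from rfl,
        CharDeep.Ext.detHom_comp (CharCore.irr_isCharacter _)]
      refine MonoidHom.ext fun a => ?_
      rw [MonoidHom.pow_apply, MonoidHom.comp_apply, ← MonoidHom.pow_apply, pow_orderOf_eq_one,
        MonoidHom.one_apply, MonoidHom.one_apply]
  have hdegext : ∀ (θ : IrrCharacter K), (∀ s ∈ S, Fixes K s (θ : K → ℂ)) →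
      ¬ p ∣ Cfsg.charDegree (ext θ : H → ℂ) := by
    intro θ hθ h
    obtain ⟨d, hd, -, -, hdd⟩ := exists_deg θ
    obtain ⟨c, hc, hcc, -, -⟩ := exists_deg (ext θ)
    have : (c : ℂ) = d := by rw [← hc, ← hd]; exact hext θ hθ 1
    rw [hcc, Nat.cast_inj.mp this] at h
    exact D.not_dvd (h.trans hdd)
  have hcent : ∀ (θ : IrrCharacter K) (hθ : ∀ s ∈ S, Fixes K s (θ : K → ℂ)) (l : S →* ℂˣ),
      Central Z ζ H (fun a => (l (π a) : ℂ) * (ext θ : H → ℂ) a) ↔
        Central Z ζ K (θ : K → ℂ) ∧ ∀ (z : Z) (hz : (z : G) ∈ S), l ⟨z, hz⟩ = ζ z := by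
    intro θ hθ l
    have h1 : (ext θ : H → ℂ) 1 = (θ : K → ℂ) 1 := hext θ hθ 1
    have hθ1 := CharCore.irr_apply_one_ne_zero θ
    have hzS : ∀ (z : Z) (hz : (z : G) ∈ S),
        (l (π ⟨z, D.S_le hz⟩) : ℂ) * (ext θ : H → ℂ) ⟨z, D.S_le hz⟩ =
          (l ⟨z, hz⟩ : ℂ) * (θ : K → ℂ) 1 := fun z hz => by
      rw [D.apply_central_p (ext θ) (hextcop θ hθ) (hdegext θ hθ) hz (hZ z.2), h1,
        show π ⟨z, D.S_le hz⟩ = ⟨z, hz⟩ from hπS ⟨z, hz⟩]
    constructor
    · intro h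
      refine ⟨fun z hz => ?_, fun z hz => Units.ext ?_⟩
      · have h2 := h z (D.K_le hz)
        simp only [map_one, Units.val_one, one_mul, hl1 l ⟨z, D.K_le hz⟩ hz, h1] at h2
        rwa [hext θ hθ ⟨z, hz⟩] at h2
      · have h2 := h z (D.S_le hz)
        simp only [map_one, Units.val_one, one_mul, h1, hzS z hz] at h2
        exact mul_right_cancel₀ hθ1 h2
    · rintro ⟨hθc, hlc⟩ z hz
      obtain ⟨a, b, hzab, haK, hbS⟩ := hZd z
      simp only [map_one, Units.val_one, one_mul, h1]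
      have e : (⟨(z : G), hz⟩ : H) = ⟨a, D.K_le haK⟩ * ⟨b, D.S_le hbS⟩ :=
        Subtype.ext ((congrArg Subtype.val hzab).trans rfl)
      rw [e, map_mul π, hπK ⟨a, D.K_le haK⟩ haK, one_mul]
      have h3 := apply_mul_central (ext θ) (mem_center_sub (D.K_le haK) (hZ a.2))
        (⟨b, D.S_le hbS⟩ : H)
      rw [hext θ hθ ⟨a, haK⟩, hθc a haK, h1, D.apply_central_p (ext θ) (hextcop θ hθ)
        (hdegext θ hθ) hbS (hZ b.2), h1] at h3
      have h4 := mul_right_cancel₀ hθ1 h3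
      rw [h4, show π ⟨b, D.S_le hbS⟩ = ⟨b, hbS⟩ from hπS ⟨b, hbS⟩, hlc b hbS, hzab, map_mul,
        Units.val_mul]
      ring
  -- vanishing off the fixed characters
  have hzero : ∀ η : IrrCharacter H,
      ¬ (Fixes H x (η : H → ℂ) ∧ Fixes H y (η : H → ℂ)) → pairSum H (η : H → ℂ) x y = 0 := by
    intro η h
    by_cases hy' : Fixes H y (η : H → ℂ)
    · have hx' : ¬ Fixes H x (η : H → ℂ) := fun hx' => h ⟨hx', hy'⟩
      rw [pairSum_swap H η y x]
      simp only [Fixes, not_forall] at hx'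
      obtain ⟨k, k', hk, hne⟩ := hx'
      rw [pairSum_eq_zero H η y x hyH hxH
        (commutatorElement_inv x y ▸ inv_mem (D.K_le hxy)) ⟨k, k', hk, hne⟩, map_zero]
    · simp only [Fixes, not_forall] at hy'
      obtain ⟨k, k', hk, hne⟩ := hy'
      exact pairSum_eq_zero H η x y hxH hyH (D.K_le hxy) ⟨k, k', hk, hne⟩
  rw [← Finset.sum_filter_of_ne (s := goodSet p Z ζ H)
    (p := fun η => Fixes H x (η : H → ℂ) ∧ Fixes H y (η : H → ℂ))
    (fun η _ hne => by_contra fun h => hne (hzero η h))]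
  rw [Finset.mul_sum]
  haveI : Finite (linSet Z ζ S x y) := by
    haveI : Finite (S →* ℂˣ) := Finite.of_injective
      (fun l : S →* ℂˣ => (⟨_, CharCore.isIrrCharacter_hom l⟩ : IrrCharacter S)) fun a b h =>
        MonoidHom.ext fun s => Units.ext (congrFun (congrArg Subtype.val h) s)
    infer_instance
  symm
  calc ∑ θ ∈ fixedSet Z ζ K S x y, (Nat.card (linSet Z ζ S x y) : ℂ) * pairSum K (θ : K → ℂ) x y
      = ∑ θ ∈ fixedSet Z ζ K S x y, ∑ _l : linSet Z ζ S x y, pairSum K (θ : K → ℂ) x y := by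
        refine Finset.sum_congr rfl fun θ _ => ?_
        rw [Finset.sum_const, Finset.card_univ, nsmul_eq_mul, Nat.card_eq_fintype_card]
    _ = ∑ q ∈ fixedSet Z ζ K S x y ×ˢ (Finset.univ : Finset (linSet Z ζ S x y)),
          pairSum K (q.1 : K → ℂ) x y := by rw [Finset.sum_product]
    _ = _ := ?_
  refine Finset.sum_bij (fun q hq => (⟨_, hmk q.1
    ((Finset.mem_filter.mp (Finset.mem_product.mp hq).1).2.1) (q.2 : S →* ℂˣ)⟩ : IrrCharacter H))
    ?_ ?_ ?_ ?_
  · intro q hq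
    obtain ⟨hS, hfx, hfy, hc⟩ := (Finset.mem_filter.mp (Finset.mem_product.mp hq).1).2
    obtain ⟨hl, hlx, hly⟩ := q.2.2
    refine Finset.mem_filter.mpr ⟨Finset.mem_filter.mpr ⟨Finset.mem_univ _, ?_,
      (hcent q.1 hS _).mpr ⟨hc, hl⟩⟩, ?_, ?_⟩
    · have h1 := hdegext q.1 hS
      simp only [Cfsg.charDegree, map_one, Units.val_one, one_mul] at h1 ⊢
      exact h1
    all_goals intro a a' ha
    · show ((q.2 : S →* ℂˣ) (π a') : ℂ) * _ = _
      rw [hextfix q.1 hS x hxK hxH hfx a a' ha]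
      congr 2
      refine hlx _ _ ?_
      have hk : x * ((a : G) * (π a : G)⁻¹) * x⁻¹ ∈ K := conj_mem_of hxK (hπ a)
      have hs : x * (π a : G) * x⁻¹ ∈ S := conj_mem_of hxS (π a).2
      have e : π a' = ⟨_, hs⟩ := by
        have e1 : a' = ⟨_, D.K_le hk⟩ * ⟨_, D.S_le hs⟩ := Subtype.ext (by
          show (a' : G) = x * ((a : G) * (π a : G)⁻¹) * x⁻¹ * (x * (π a : G) * x⁻¹)
          rw [ha]; group)
        rw [e1, map_mul, hπK _ hk, one_mul]
        exact hπS ⟨_, hs⟩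
      rw [e]
    · show ((q.2 : S →* ℂˣ) (π a') : ℂ) * _ = _
      rw [hextfix q.1 hS y hyK hyH hfy a a' ha]
      congr 2
      refine hly _ _ ?_
      have hk : y * ((a : G) * (π a : G)⁻¹) * y⁻¹ ∈ K := conj_mem_of hyK (hπ a)
      have hs : y * (π a : G) * y⁻¹ ∈ S := conj_mem_of hyS (π a).2
      have e : π a' = ⟨_, hs⟩ := by
        have e1 : a' = ⟨_, D.K_le hk⟩ * ⟨_, D.S_le hs⟩ := Subtype.ext (by
          show (a' : G) = y * ((a : G) * (π a : G)⁻¹) * y⁻¹ * (y * (π a : G) * y⁻¹)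
          rw [ha]; group)
        rw [e1, map_mul, hπK _ hk, one_mul]
        exact hπS ⟨_, hs⟩
      rw [e]
  · intro q₁ h₁ q₂ h₂ he
    have hS₁ := (Finset.mem_filter.mp (Finset.mem_product.mp h₁).1).2.1
    have hS₂ := (Finset.mem_filter.mp (Finset.mem_product.mp h₂).1).2.1
    have he' := congrArg Subtype.val he
    have hθ : q₁.1 = q₂.1 := Subtype.ext (funext fun k => by
      have h := congrFun he' ⟨k, D.K_le k.2⟩
      simp only [hl1 _ ⟨(k : G), D.K_le k.2⟩ k.2, Units.val_one, one_mul, hext q₁.1 hS₁ k,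
        hext q₂.1 hS₂ k] at h
      exact h)
    refine Prod.ext hθ (Subtype.ext ?_)
    have hμ := twist_unique (K.subgroupOf H) (ext q₁.1).2 (hresIrr _ q₁.1 (hext q₁.1 hS₁))
      (μ := ((q₁.2 : S →* ℂˣ) / (q₂.2 : S →* ℂˣ)).comp π)
      (fun n => by rw [MonoidHom.comp_apply, hπK (n : H) n.2, map_one]) fun a => by
        have h := congrFun he' a
        simp only [← hθ] at h
        simp only [MonoidHom.comp_apply, MonoidHom.div_apply, Units.val_div_eq_div_val]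
        rw [div_mul_eq_mul_div, div_eq_iff (Units.ne_zero _), h]
        ring
    refine MonoidHom.ext fun s => ?_
    have h := DFunLike.congr_fun hμ ⟨(s : G), D.S_le s.2⟩
    rw [MonoidHom.comp_apply, hπS s, MonoidHom.div_apply, MonoidHom.one_apply, div_eq_one] at h
    exact h
  · intro η hη
    obtain ⟨hη', hfx, hfy⟩ := Finset.mem_filter.mp hη
    obtain ⟨-, hdeg, hc⟩ := Finset.mem_filter.mp hη'
    obtain ⟨θ, hres, hS⟩ := hgood η hdeg
    obtain ⟨μ, hμK, hμ⟩ := exists_twist (K.subgroupOf H) (ext θ).2 η.2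
      (hresIrr _ θ (hext θ hS)) fun n => by
        exact (hres ⟨((n : H) : G), n.2⟩).trans (hext θ hS ⟨((n : H) : G), n.2⟩).symm
    let l : S →* ℂˣ := μ.comp (Subgroup.inclusion D.S_le)
    have hlμ : ∀ a : H, l (π a) = μ a := fun a => by
      show μ (Subgroup.inclusion D.S_le (π a)) = μ a
      have e : a = ⟨(a : G) * (π a : G)⁻¹, D.K_le (hπ a)⟩ *
          Subgroup.inclusion D.S_le (π a) := Subtype.ext (by simp)
      conv_rhs => rw [e, map_mul, hμK ⟨⟨_, D.K_le (hπ a)⟩, hπ a⟩, one_mul]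
    have hform : (η : H → ℂ) = fun a => (l (π a) : ℂ) * (ext θ : H → ℂ) a :=
      funext fun a => by rw [hμ, hlμ]
    rw [hform] at hc
    obtain ⟨hθc, hlc⟩ := (hcent θ hS l).mp hc
    have hfixθ : ∀ g, g ∈ normalizer (K : Set G) → Fixes H g (η : H → ℂ) →
        Fixes K g (θ : K → ℂ) := fun g _ hg k k' hk => by
      rw [← hres, ← hres]; exact hg ⟨k, D.K_le k.2⟩ ⟨k', D.K_le k'.2⟩ hk
    have hfixl : ∀ g, g ∈ normalizer (K : Set G) → g ∈ normalizer (H : Set G) →
        Fixes H g (η : H → ℂ) → ∀ s s' : S, (s' : G) = g * s * g⁻¹ → l s' = l s := by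
      intro g hgK hgH hg
      have hef := hextfix θ hS g hgK hgH (hfixθ g hgK hg)
      have hμg := twist_unique (K.subgroupOf H) (ext θ).2 (hresIrr _ θ (hext θ hS))
        (μ := (μ.comp (conjEquiv H g hgH).toMonoidHom) / μ)
        (fun n => by
          rw [MonoidHom.div_apply, MonoidHom.comp_apply, hμK n, div_one]
          exact hμK ⟨_, conj_mem_of' hgK n.2⟩) fun a => by
          have h1 := (hg (conjEquiv H g hgH a) a (by simp [mul_assoc])).symm
          rw [hμ, hμ] at h1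
          have h2 := (hef (conjEquiv H g hgH a) a (by simp [mul_assoc])).symm
          rw [h2] at h1
          simp only [MonoidHom.div_apply, MonoidHom.comp_apply, Units.val_div_eq_div_val]
          rw [div_mul_eq_mul_div, div_eq_iff (Units.ne_zero _)]
          refine h1.trans ?_
          ring
      intro s s' hs
      have h := DFunLike.congr_fun hμg (Subgroup.inclusion D.S_le s')
      rw [MonoidHom.div_apply, MonoidHom.comp_apply, MonoidHom.one_apply, div_eq_one] at h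
      show μ (Subgroup.inclusion D.S_le s') = μ (Subgroup.inclusion D.S_le s)
      rw [← h]
      exact congrArg μ (Subtype.ext (by simp [hs, mul_assoc]))
    refine ⟨(θ, ⟨l, hlc, hfixl x hxK hxH hfx, hfixl y hyK hyH hfy⟩),
      Finset.mem_product.mpr ⟨Finset.mem_filter.mpr ⟨Finset.mem_univ _, hS, hfixθ x hxK hfx,
        hfixθ y hyK hfy, hθc⟩, Finset.mem_univ _⟩, Subtype.ext hform.symm⟩
  · intro q hq
    obtain ⟨hS, hfx, hfy, -⟩ := (Finset.mem_filter.mp (Finset.mem_product.mp hq).1).2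
    obtain ⟨-, hlx, hly⟩ := q.2.2
    have hfix : ∀ g, g ∈ normalizer (K : Set G) → g ∈ normalizer (H : Set G) →
        (hg : g ∈ normalizer (S : Set G)) → Fixes K g (q.1 : K → ℂ) →
        (∀ s s' : S, (s' : G) = g * s * g⁻¹ → (q.2 : S →* ℂˣ) s' = (q.2 : S →* ℂˣ) s) →
        Fixes H g (fun a => ((q.2 : S →* ℂˣ) (π a) : ℂ) * (ext q.1 : H → ℂ) a) := by
      intro g hgK hgH hgS hgf hgl a a' ha
      simp only
      rw [hextfix q.1 hS g hgK hgH hgf a a' ha]
      have hk : g * ((a : G) * (π a : G)⁻¹) * g⁻¹ ∈ K := conj_mem_of hgK (hπ a)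
      have hs : g * (π a : G) * g⁻¹ ∈ S := conj_mem_of hgS (π a).2
      have e1 : a' = ⟨_, D.K_le hk⟩ * ⟨_, D.S_le hs⟩ := Subtype.ext (by
        show (a' : G) = g * ((a : G) * (π a : G)⁻¹) * g⁻¹ * (g * (π a : G) * g⁻¹)
        rw [ha]; group)
      rw [e1, map_mul, hπK _ hk, one_mul, show π ⟨_, D.S_le hs⟩ = ⟨_, hs⟩ from hπS ⟨_, hs⟩,
        hgl (π a) ⟨_, hs⟩ rfl]
    refine (pairSum_restrict D.K_le D.H_le _ q.1 (fun k => ?_) hxH hyH hxK hyK hxy
      (hfix x hxK hxH hxS hfx hlx) (hfix y hyK hyH hyS hfy hly)).symm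
    show ((q.2 : S →* ℂˣ) (π _) : ℂ) * _ = _
    rw [hl1 _ _ k.2, Units.val_one, one_mul]
    exact hext q.1 hS k

end Cfsg.Agent.PMcKay87
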