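import Cfsg.Agent.PMcKay87.Count
import Cfsg.Agent.Lib.CharCore.Glauberman
import Cfsg.Agent.CharB.CyclicExt
import Cfsg.Agent.CharB.CentralExt
import Cfsg.Agent.Lib.CharClifford.Clifford
import Cfsg.Agent.CharDeep.Ext.Clifford

/-!
The Glauberman correspondence between subgroups of one group, and twisting of extensions.
-/

set_option autoImplicit false

namespace Cfsg.Agent.PMcKay87

open scoped ComplexConjugate commutatorElement
open Cfsg (extendByZero classInner IsIrrCharacter IrrCharacter)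
open Subgroup

attribute [local instance] Fintype.ofFinite

variable {G : Type*} [Group G] [Finite G]

/-- `θ` is fixed by `g`. -/
def Fixes (H : Subgroup G) (g : G) (θ : H → ℂ) : Prop :=
  ∀ k k' : H, (k' : G) = g * k * g⁻¹ → θ k' = θ k

/-- `ψ` has multiplicity prime to `p` in `θ`. -/
def Corr (p : ℕ) (K C : Subgroup G) (θ : K → ℂ) (ψ : C → ℂ) : Prop :=
  ∃ m : ℕ, classInner (fun c : C => extendByZero K θ (c : G)) ψ = m ∧ ¬ p ∣ m

omit [Finite G] in
theorem res_eq {K C : Subgroup G} (h : C ≤ K) (θ : K → ℂ) :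
    (fun c : C => extendByZero K θ (c : G)) = fun c : C => θ (Subgroup.inclusion h c) :=
  funext fun c => CharInd.extendByZero_mem _ (h c.2)

theorem isCharacter_res {K C : Subgroup G} (h : C ≤ K) (θ : IrrCharacter K) :
    Cfsg.IsCharacter C (fun c : C => extendByZero K (θ : K → ℂ) (c : G)) := by
  rw [res_eq h]
  exact CharCore.isCharacter_comp (CharCore.irr_isCharacter θ) _

omit [Finite G] in
theorem conj_mem_of {H : Subgroup G} {g : G} (hg : g ∈ normalizer (H : Set G)) {h : G}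
    (hh : h ∈ H) : g * h * g⁻¹ ∈ H :=
  (mem_normalizer_iff.mp hg h).mp hh

omit [Finite G] in
theorem conj_mem_of' {H : Subgroup G} {g : G} (hg : g ∈ normalizer (H : Set G)) {h : G}
    (hh : h ∈ H) : g⁻¹ * h * g ∈ H := by
  simpa using conj_mem_of (inv_mem hg) hh

/-- Conjugation by a normalising element. -/
def conjEquiv (H : Subgroup G) (g : G) (hg : g ∈ normalizer (H : Set G)) : H ≃* H where
  toFun h := ⟨g⁻¹ * h * g, conj_mem_of' hg h.2⟩
  invFun h := ⟨g * h * g⁻¹, conj_mem_of hg h.2⟩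
  left_inv h := Subtype.ext (by simp [mul_assoc])
  right_inv h := Subtype.ext (by simp [mul_assoc])
  map_mul' a b := Subtype.ext (by simp [mul_assoc])

omit [Finite G] in
@[simp] theorem coe_conjEquiv (H : Subgroup G) (g : G) (hg : g ∈ normalizer (H : Set G)) (h : H) :
    ((conjEquiv H g hg h : H) : G) = g⁻¹ * h * g := rfl

/-- The conjugate character. -/
noncomputable def cjIrr (H : Subgroup G) (g : G) (hg : g ∈ normalizer (H : Set G))
    (θ : IrrCharacter H) : IrrCharacter H :=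
  ⟨fun h => (θ : H → ℂ) (conjEquiv H g hg h),
    CharCore.isIrrCharacter_comp_surjective θ.2 (conjEquiv H g hg).toMonoidHom
      (conjEquiv H g hg).surjective⟩

theorem fixes_iff (H : Subgroup G) (g : G) (hg : g ∈ normalizer (H : Set G)) (θ : IrrCharacter H) :
    Fixes H g (θ : H → ℂ) ↔ cjIrr H g hg θ = θ := by
  constructor
  · intro h
    refine Subtype.ext (funext fun k => ?_)
    exact (h (conjEquiv H g hg k) k (by simp [mul_assoc])).symm
  · intro h k k' hk
    have h1 := congrFun (congrArg Subtype.val h) k'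
    rw [← h1]
    exact congrArg (θ : H → ℂ) (Subtype.ext (by simp [hk, mul_assoc]))

theorem corr_conj {p : ℕ} {K C : Subgroup G} (h : C ≤ K) (g : G)
    (hK : g ∈ normalizer (K : Set G)) (hC : g ∈ normalizer (C : Set G)) (θ : IrrCharacter K)
    (ψ : IrrCharacter C) (hc : Corr p K C (θ : K → ℂ) (ψ : C → ℂ)) :
    Corr p K C (cjIrr K g hK θ : K → ℂ) (cjIrr C g hC ψ : C → ℂ) := by
  obtain ⟨m, hm, hp⟩ := hc
  refine ⟨m, ?_, hp⟩
  rw [← hm, res_eq h, res_eq h]
  simp only [CharCore.classInner_def]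
  congr 1
  exact Fintype.sum_equiv (conjEquiv C g hC).toEquiv _ _ fun c => rfl

/-- Multiplicities through an intermediate subgroup. -/
theorem mult_trans {K K₁ M : Subgroup G} (h₁ : K₁ ≤ K) (h₂ : M ≤ K₁) (θ : IrrCharacter K)
    (ψ : M → ℂ) :
    classInner (fun c : M => extendByZero K (θ : K → ℂ) (c : G)) ψ =
      ∑ φ : IrrCharacter K₁, classInner (fun c : K₁ => extendByZero K (θ : K → ℂ) (c : G)) φ *
        classInner (fun c : M => extendByZero K₁ (φ : K₁ → ℂ) (c : G)) ψ := by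
  have h := CharCore.IsCharacter.eq_sum_classInner (isCharacter_res h₁ θ)
  have e : (fun c : M => extendByZero K (θ : K → ℂ) (c : G)) = ∑ φ : IrrCharacter K₁,
      classInner (fun c : K₁ => extendByZero K (θ : K → ℂ) (c : G)) φ •
        fun c : M => extendByZero K₁ (φ : K₁ → ℂ) (c : G) := by
    funext c
    have := congrFun h ⟨(c : G), h₂ c.2⟩
    simp only [Finset.sum_apply, Pi.smul_apply, smul_eq_mul] at this ⊢
    rw [this]
    exact Finset.sum_congr rfl fun φ _ => by rw [CharInd.extendByZero_mem _ (h₂ c.2)]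
  conv_lhs => rw [e]
  rw [CharCore.classInner_sum_left]
  exact Finset.sum_congr rfl fun φ _ => by rw [CharCore.classInner_smul_left]

theorem exists_mult {K C : Subgroup G} (h : C ≤ K) (θ : IrrCharacter K) (ψ : IrrCharacter C) :
    ∃ m : ℕ, classInner (fun c : C => extendByZero K (θ : K → ℂ) (c : G)) ψ = m :=
  CharCore.IsCharacter.exists_classInner_irr_eq_natCast (isCharacter_res h θ) ψ

/-- With a unique correspondent in the middle, correspondence below may be tested there. -/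
theorem corr_trans {p : ℕ} (hp : p.Prime) {K K₁ M : Subgroup G} (h₁ : K₁ ≤ K) (h₂ : M ≤ K₁)
    (θ : IrrCharacter K) (θ₁ : IrrCharacter K₁) (hc : Corr p K K₁ (θ : K → ℂ) (θ₁ : K₁ → ℂ))
    (huniq : ∀ φ : IrrCharacter K₁, Corr p K K₁ (θ : K → ℂ) (φ : K₁ → ℂ) → φ = θ₁)
    (ψ : IrrCharacter M) :
    Corr p K M (θ : K → ℂ) (ψ : M → ℂ) ↔ Corr p K₁ M (θ₁ : K₁ → ℂ) (ψ : M → ℂ) := by
  have := Classical.decEq (IrrCharacter K₁)
  choose a ha using fun φ => exists_mult h₁ θ φ
  choose b hb using fun φ => exists_mult h₂ φ ψ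
  have htot : classInner (fun c : M => extendByZero K (θ : K → ℂ) (c : G)) ψ =
      ((∑ φ, a φ * b φ : ℕ) : ℂ) := by
    rw [mult_trans h₁ h₂ θ]
    push_cast
    exact Finset.sum_congr rfl fun φ _ => by rw [ha, hb]
  obtain ⟨m, hm, hpm⟩ := hc
  have ham : a θ₁ = m := by exact_mod_cast (ha θ₁).symm.trans hm
  have hdvd : p ∣ ∑ φ, a φ * b φ ↔ p ∣ b θ₁ := by
    rw [← Finset.add_sum_erase _ _ (Finset.mem_univ θ₁), Nat.dvd_add_iff_left
      (Finset.dvd_sum fun φ hφ => Dvd.dvd.mul_right (by_contra fun hd =>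
        (Finset.mem_erase.mp hφ).1 (huniq φ ⟨a φ, ha φ, hd⟩)) _) |>.symm, hp.dvd_mul, ham]
    exact ⟨fun h => h.resolve_left hpm, Or.inr⟩
  constructor
  · rintro ⟨k, hk, hpk⟩
    rw [htot, Nat.cast_inj] at hk
    exact ⟨b θ₁, hb θ₁, fun h => hpk (hk ▸ hdvd.mpr h)⟩
  · rintro ⟨k, hk, hpk⟩
    rw [hb, Nat.cast_inj] at hk
    exact ⟨_, htot, fun h => hpk (hk ▸ hdvd.mp h)⟩

/-- A `p`-group of operators on a subgroup of order prime to `p`, and its fixed subgroup. -/
structure CoprimeData (p : ℕ) (K R C : Subgroup G) : Prop where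
  le : R ≤ normalizer (K : Set G)
  isPGroup : IsPGroup p R
  not_dvd : ¬ p ∣ Nat.card K
  eq : C = K ⊓ centralizer (R : Set G)

namespace CoprimeData

variable {p : ℕ} [Fact p.Prime] {K R C : Subgroup G}

omit [Finite G] in
theorem le_left (D : CoprimeData p K R C) : C ≤ K := D.eq.trans_le inf_le_left

/-- The operators. -/
noncomputable def act (hle : R ≤ normalizer (K : Set G)) : R →* MulAut K where
  toFun r :=
    { toFun := fun k => ⟨(r : G) * k * (r : G)⁻¹, conj_mem_of (hle r.2) k.2⟩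
      invFun := fun k => ⟨(r : G)⁻¹ * k * (r : G), conj_mem_of' (hle r.2) k.2⟩
      left_inv := fun k => Subtype.ext (by simp [mul_assoc])
      right_inv := fun k => Subtype.ext (by simp [mul_assoc])
      map_mul' := fun a b => Subtype.ext (by simp [mul_assoc]) }
  map_one' := MulEquiv.ext fun k => Subtype.ext (by simp)
  map_mul' r s := MulEquiv.ext fun k => Subtype.ext (by simp [mul_assoc])

theorem range_iff (D : CoprimeData p K R C) (g : K) :
    g ∈ (Subgroup.inclusion D.le_left).range ↔ ∀ r : R, act D.le r g = g := by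
  constructor
  · rintro ⟨c, rfl⟩ r
    refine Subtype.ext ?_
    show (r : G) * c * (r : G)⁻¹ = c
    have hc : (c : G) ∈ K ⊓ centralizer (R : Set G) := D.eq ▸ c.2
    rw [mem_centralizer_iff.mp hc.2 r r.2, mul_inv_cancel_right]
  · intro h
    have hmem : (g : G) ∈ C := D.eq ▸ mem_inf.mpr ⟨g.2, mem_centralizer_iff.mpr fun r hr =>
      mul_inv_eq_iff_eq_mul.mp (congrArg Subtype.val (h ⟨r, hr⟩))⟩
    exact ⟨⟨g, hmem⟩, rfl⟩

theorem isInvFun (D : CoprimeData p K R C) (θ : IrrCharacter K)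
    (hθ : ∀ r ∈ R, Fixes K r (θ : K → ℂ)) : CharCore.IsInvFun (act D.le) (θ : K → ℂ) :=
  fun r k => hθ r r.2 k _ rfl

theorem corr_iff (D : CoprimeData p K R C) (θ : K → ℂ) (ψ : C → ℂ) :
    Corr p K C θ ψ ↔ CharCore.IsGlauber p (Subgroup.inclusion D.le_left) θ ψ := by
  rw [Corr, CharCore.IsGlauber, res_eq D.le_left]

theorem exists_corr (D : CoprimeData p K R C) (θ : IrrCharacter K)
    (hθ : ∀ r ∈ R, Fixes K r (θ : K → ℂ)) :
    ∃ ψ : IrrCharacter C, Corr p K C (θ : K → ℂ) (ψ : C → ℂ) := by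
  obtain ⟨ψ, hψ⟩ := CharCore.exists_glauber (Subgroup.inclusion_injective D.le_left) D.range_iff
    D.isPGroup D.not_dvd (D.isInvFun θ hθ)
  exact ⟨ψ, (D.corr_iff _ _).mpr hψ⟩

theorem corr_unique (D : CoprimeData p K R C) (θ : IrrCharacter K)
    (hθ : ∀ r ∈ R, Fixes K r (θ : K → ℂ)) {ψ ψ' : IrrCharacter C}
    (h : Corr p K C (θ : K → ℂ) (ψ : C → ℂ)) (h' : Corr p K C (θ : K → ℂ) (ψ' : C → ℂ)) :
    ψ = ψ' :=
  CharCore.glauber_unique (Subgroup.inclusion_injective D.le_left) D.range_iff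
    D.isPGroup D.not_dvd (D.isInvFun θ hθ) ((D.corr_iff _ _).mp h) ((D.corr_iff _ _).mp h')

theorem corr_surjective (D : CoprimeData p K R C) (ψ : IrrCharacter C) :
    ∃ θ : IrrCharacter K, (∀ r ∈ R, Fixes K r (θ : K → ℂ)) ∧
      Corr p K C (θ : K → ℂ) (ψ : C → ℂ) := by
  obtain ⟨θ, hθ, h⟩ := CharCore.glauber_surjective (Subgroup.inclusion_injective D.le_left)
    D.range_iff D.isPGroup D.not_dvd ψ
  exact ⟨θ, fun r hr k k' hk => (congrArg (θ : K → ℂ) (Subtype.ext hk)).trans (hθ ⟨r, hr⟩ k),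
    (D.corr_iff _ _).mpr h⟩

theorem corr_injective (D : CoprimeData p K R C) {θ θ' : IrrCharacter K}
    (hθ : ∀ r ∈ R, Fixes K r (θ : K → ℂ)) (hθ' : ∀ r ∈ R, Fixes K r (θ' : K → ℂ))
    {ψ : IrrCharacter C} (h : Corr p K C (θ : K → ℂ) (ψ : C → ℂ))
    (h' : Corr p K C (θ' : K → ℂ) (ψ : C → ℂ)) : θ = θ' :=
  CharCore.glauber_injective (Subgroup.inclusion_injective D.le_left) D.range_iff
    D.isPGroup D.not_dvd (D.isInvFun θ hθ) (D.isInvFun θ' hθ')
      ((D.corr_iff _ _).mp h) ((D.corr_iff _ _).mp h')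

/-- An element normalising everything maps a fixed character's correspondent to itself. -/
theorem corr_fixes (D : CoprimeData p K R C) (θ : IrrCharacter K)
    (hθ : ∀ r ∈ R, Fixes K r (θ : K → ℂ)) {ψ : IrrCharacter C}
    (h : Corr p K C (θ : K → ℂ) (ψ : C → ℂ)) (g : G) (hK : g ∈ normalizer (K : Set G))
    (hC : g ∈ normalizer (C : Set G)) (hg : Fixes K g (θ : K → ℂ)) : Fixes C g (ψ : C → ℂ) := by
  rw [fixes_iff C g hC]
  have h1 := corr_conj D.le_left g hK hC θ ψ h
  rw [(fixes_iff K g hK θ).mp hg] at h1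
  exact D.corr_unique θ hθ h1 h

end CoprimeData

section Ext

variable {X : Type*} [Group X] [Finite X] (N : Subgroup X) [N.Normal]

/-- Two extensions of the same character differ by a linear character. -/
theorem exists_twist {η η' : X → ℂ} (hη : IsIrrCharacter X η) (hη' : IsIrrCharacter X η')
    (hN : IsIrrCharacter N (fun n : N => η n)) (h : ∀ n : N, η' n = η n) :
    ∃ μ : X →* ℂˣ, (∀ n : N, μ n = 1) ∧ ∀ g, η' g = μ g * η g := by
  have hne : classInner (fun n : N => η' n) (fun n : N => η n) ≠ 0 := by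
    rw [show (fun n : N => η' n) = fun n : N => η n from funext h,
      (CharCore.isIrrCharacter_iff.mp hN).2]
    exact one_ne_zero
  obtain ⟨β, hβ, hinv, heq, -⟩ := CharDeep.Ext.exists_gallagher hη hN hη' hne
  have h1 : β 1 = 1 := by
    have h2 : η' 1 = β 1 * η 1 := congrFun heq 1
    have h3 : η' 1 = η 1 := h 1
    rw [h3] at h2
    exact mul_right_cancel₀ (CharCore.irr_apply_one_ne_zero ⟨η, hη⟩) (by rw [← h2, one_mul])
  obtain ⟨μ, hμ⟩ := CharCore.IsCharacter.exists_hom_of_degree_one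
    (CharCore.IsIrrCharacter.isCharacter hβ) h1
  refine ⟨μ, fun n => Units.ext ?_, fun g => by rw [heq, Pi.mul_apply, hμ]⟩
  have h4 := hinv n 1
  rw [mul_one, h1, hμ] at h4
  exact h4

/-- The twisting linear character is unique. -/
theorem twist_unique {η : X → ℂ} (hη : IsIrrCharacter X η)
    (hN : IsIrrCharacter N (fun n : N => η n)) {μ : X →* ℂˣ} (hμN : ∀ n : N, μ n = 1)
    (h : ∀ g, (μ g : ℂ) * η g = η g) : μ = 1 := by
  refine MonoidHom.ext fun g => Units.ext ?_
  have hs := sum_norm_coset N hη hN g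
  have h2 : (μ g : ℂ) * (Nat.card N : ℂ) = Nat.card N := by
    conv_lhs => rw [← hs, Finset.mul_sum]
    conv_rhs => rw [← hs]
    refine Finset.sum_congr rfl fun n _ => ?_
    have h3 : μ (g * n) = μ g := by rw [map_mul, hμN n, mul_one]
    rw [← mul_assoc, ← h3, h]
  simpa [Nat.card_pos.ne'] using h2

/-- Over an extendible character, a cyclic quotient gives only extensions. -/
theorem extends_of_cyclic (hcyc : IsCyclic (X ⧸ N)) {ψ : N → ℂ} (hψ : IsIrrCharacter N ψ)
    (hinv : CharDeep.Ext.Inv N ψ) {φ : X → ℂ} (hφ : IsIrrCharacter X φ)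
    (hne : classInner (fun n : N => φ n) ψ ≠ 0) : ∀ n : N, φ n = ψ n := by
  obtain ⟨χ, hχ, hext⟩ := CharB.exists_extension_of_cyclic N hcyc hψ hinv
  have hN : IsIrrCharacter N (fun n : N => χ n) := by rwa [funext hext]
  obtain ⟨β, hβ, hβinv, heq, -⟩ := CharDeep.Ext.exists_gallagher hχ hN hφ (by rwa [funext hext])
  obtain ⟨g₀, -, hg, hge⟩ := CharCore.IsCharacter.exists_quotient
    (CharCore.IsIrrCharacter.isCharacter hβ) N (fun k hk => by
      have := hβinv ⟨k, hk⟩ 1
      simpa using this)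
  obtain ⟨f, hf⟩ := CharB.exists_hom_of_isIrr_comm
    (fun a b => (IsCyclic.isMulCommutative (α := X ⧸ N)).is_comm.comm a b) (hg hβ)
  intro n
  rw [heq, Pi.mul_apply, hext, hge]
  have : QuotientGroup.mk' N (n : X) = 1 := (QuotientGroup.eq_one_iff _).mpr n.2
  rw [this, congrFun hf 1, map_one, Units.val_one, one_mul]

end Ext

end Cfsg.Agent.PMcKay87
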