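import Cfsg.Agent.PMcKay87.Orbit
import Cfsg.Agent.Lib.Thompson.PSolvable

/-!
The induction for the relative count of characters of degree prime to `p` in `p`-solvable groups.
-/

set_option autoImplicit false
set_option linter.unusedSectionVars false
set_option linter.style.haveILetI false

namespace Cfsg.Agent.PMcKay87

open scoped ComplexConjugate
open Cfsg (extendByZero classInner IsIrrCharacter IrrCharacter IsPSolvable)
open Subgroup

attribute [local instance high] Fintype.ofFinite

universe u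

/-- A character triple is isomorphic to one with a central normal subgroup. -/
def TripleStmt (p : ℕ) : Prop :=
  ∀ (G : Type u) [Group G] [Finite G] (L : Subgroup G) [L.Normal] (ν : IrrCharacter L),
    ¬ p ∣ Cfsg.charDegree (ν : L → ℂ) → (∀ g : G, Fixes L g (ν : L → ℂ)) →
    ∃ (Γ : Type u) (_ : Group Γ) (_ : Finite Γ) (Z : Subgroup Γ) (ζ : Z →* ℂˣ) (π : Γ →* G ⧸ L),
      Z ≤ center Γ ∧ Function.Surjective π ∧ π.ker = Z ∧ ∀ H : Subgroup G, L ≤ H →
        countOver p L (ν : L → ℂ) H =
          countZ p Z ζ ((H.map (QuotientGroup.mk' L)).comap π)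

/-- The relative count over a character of a normal subgroup of index `n`. -/
def GeneralAt (p n : ℕ) : Prop :=
  ∀ (G : Type u) [Group G] [Finite G] (L : Subgroup G) [L.Normal] (ν : IrrCharacter L)
    (S : Sylow p G), L.index = n → IsPSolvable p (G ⧸ L) →
    (∀ g ∈ (S : Subgroup G), Fixes L g (ν : L → ℂ)) →
    countOver p L (ν : L → ℂ) (⊤ : Subgroup G) =
      countOver p L (ν : L → ℂ) (normalizer ((L ⊔ (S : Subgroup G) : Subgroup G) : Set G))

/-- The count over a character of a central subgroup of index `n`. -/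
def CentralAt (p n : ℕ) : Prop :=
  ∀ (G : Type u) [Group G] [Finite G] (Z : Subgroup G) [Z.Normal], Z ≤ center G →
    ∀ (ζ : Z →* ℂˣ) (S : Sylow p G), Z.index = n → IsPSolvable p (G ⧸ Z) →
    countZ p Z ζ (⊤ : Subgroup G) = countZ p Z ζ (normalizer ((S : Subgroup G) : Set G))

variable {p : ℕ} [hp : Fact p.Prime] {G : Type u} [Group G] [Finite G]

theorem isPSolvable_sub (L T : Subgroup G) [L.Normal] (h : IsPSolvable p (G ⧸ L)) :
    IsPSolvable p (T ⧸ L.subgroupOf T) := by
  let φ : T →* G ⧸ L := (QuotientGroup.mk' L).comp T.subtype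
  have hker : L.subgroupOf T = φ.ker := by ext a; simp [φ, mem_subgroupOf]
  exact Thompson.isPSolvable_of_equiv ((QuotientGroup.quotientMulEquivOfEq hker).trans
    (QuotientGroup.quotientKerEquivRange φ)).symm (Thompson.isPSolvable_subgroup φ.range h)

/-- A normal `p`-subgroup lies in every Sylow `p`-subgroup. -/
theorem le_sylow {Q : Subgroup G} [Q.Normal] (hQ : IsPGroup p Q) (S : Sylow p G) :
    Q ≤ (S : Subgroup G) := by
  have h := S.is_maximal' (hQ.to_sup_of_normal_left S.isPGroup') le_sup_right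
  exact le_sup_left.trans h.le

theorem normalizer_central_sup {Z : Subgroup G} (hZ : Z ≤ center G) (S : Sylow p G) :
    normalizer ((Z ⊔ (S : Subgroup G) : Subgroup G) : Set G) =
      normalizer ((S : Subgroup G) : Set G) := by
  haveI : Z.Normal := ⟨fun z hz g => by
    rwa [mem_center_iff.mp (hZ hz) g, mul_inv_cancel_right]⟩
  refine le_antisymm (fun g hg => ?_) fun g hg => normalizer_sup (mem_normalizer_normal Z g)
    fun s hs => mem_sup_right (conj_mem_of hg hs)
  have hle : Z ⊔ (S : Subgroup G) ≤ normalizer ((S : Subgroup G) : Set G) := by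
    refine sup_le (fun z hz => mem_normalizer_iff.mpr fun a => ?_) Subgroup.le_normalizer
    rw [← mem_center_iff.mp (hZ hz) a, mul_inv_cancel_right]
  have hgS : ((g • S : Sylow p G) : Subgroup G) ≤ Z ⊔ (S : Subgroup G) := by
    intro a ha
    rw [Sylow.coe_subgroup_smul] at ha
    obtain ⟨s, hs, rfl⟩ := (Subgroup.mem_smul_pointwise_iff_exists _ _ _).mp ha
    simpa [MulAut.smul_def] using conj_mem_of hg (mem_sup_right hs)
  have h1 : ((g • S : Sylow p G) : Subgroup G) ≤ (S : Subgroup G) := by
    have h2 := (g • S : Sylow p G).isPGroup'.inf_normalizer_sylow S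
    exact (le_inf le_rfl (hgS.trans hle)).trans (h2.le.trans inf_le_right)
  exact Sylow.smul_eq_iff_mem_normalizer.mp
    (Sylow.ext ((g • S).is_maximal' S.isPGroup' h1).symm)

/-- A normal complement to the `p`-part of a central subgroup. -/
theorem exists_normal_pPrime (Z K : Subgroup G) [K.Normal] (hZ : Z ≤ center G) (hZK : Z ≤ K)
    (S : Sylow p G) (hrel : (Z.relIndex K).Coprime p) :
    ∃ K₀ : Subgroup G, K₀.Normal ∧ ¬ p ∣ Nat.card K₀ ∧
      K₀ ⊔ (S : Subgroup G) = K ⊔ (S : Subgroup G) ∧
      ∀ z : Z, ∃ a b : Z, z = a * b ∧ (a : G) ∈ K₀ ∧ (b : G) ∈ (S : Subgroup G) := by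
  set Zp := Z ⊓ (S : Subgroup G) with hZp
  have hZpc : Zp ≤ center G := inf_le_left.trans hZ
  have hnormal : ∀ {A : Subgroup G}, A ≤ center G → A.Normal := fun {A} hA =>
    ⟨fun z hz g => by rwa [mem_center_iff.mp (hA hz) g, mul_inv_cancel_right]⟩
  have hpidx : ¬ p ∣ Zp.relIndex Z := by
    obtain ⟨Q⟩ := (inferInstance : Nonempty (Sylow p Z))
    haveI := hnormal ((map_subtype_le (Q : Subgroup Z)).trans hZ)
    have hQ : (Q : Subgroup Z).map Z.subtype ≤ Zp :=
      le_inf (map_subtype_le _) (le_sylow (Q.isPGroup'.map _) S)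
    intro h
    refine Q.not_dvd_index (h.trans (index_dvd_of_le fun a ha => ?_))
    exact hQ ⟨a, ha, rfl⟩
  set P₀ := Zp.subgroupOf K with hP₀
  haveI : P₀.Normal := (hnormal hZpc).subgroupOf K
  have hP₀p : IsPGroup p P₀ :=
    (S.isPGroup'.to_le (inf_le_right : Zp ≤ _)).of_equiv
      (subgroupOfEquivOfLe (inf_le_left.trans hZK : Zp ≤ K)).symm
  have hidx : ¬ p ∣ P₀.index := by
    show ¬ p ∣ Zp.relIndex K
    rw [← relIndex_mul_relIndex Zp Z K inf_le_left hZK]
    intro h
    rcases hp.out.dvd_mul.mp h with h | h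
    · exact hpidx h
    · exact hp.out.ne_one (Nat.eq_one_of_dvd_coprimes hrel h dvd_rfl)
  obtain ⟨k, hk⟩ := hP₀p.exists_card_eq
  obtain ⟨H₀, hH₀⟩ := exists_left_complement'_of_coprime (N := P₀)
    (hk ▸ Nat.Coprime.pow_left k (hp.out.coprime_iff_not_dvd.mpr hidx))
  set K₀ := H₀.map K.subtype with hK₀
  have hm : ¬ p ∣ Nat.card K₀ := by
    rwa [hK₀, card_subtype, ← hH₀.index_eq_card]
  have hdec : ∀ g ∈ K, ∃ h ∈ K₀, ∃ b ∈ Zp, g = h * b := by
    intro g hg
    obtain ⟨⟨⟨h, hh⟩, ⟨b, hb⟩⟩, e⟩ := hH₀.2 ⟨g, hg⟩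
    exact ⟨(h : G), ⟨h, hh, rfl⟩, (b : G), hb, (congrArg Subtype.val e).symm⟩
  have hK₀K : K₀ ≤ K := map_subtype_le _
  have hnorm : K₀.Normal := by
    refine ⟨fun x hx g => ?_⟩
    obtain ⟨h, hh, b, hb, e⟩ := hdec _ (‹K.Normal›.conj_mem x (hK₀K hx) g)
    have h1 : (g * x * g⁻¹) ^ Nat.card K₀ = 1 := by
      rw [conj_pow, show x ^ Nat.card K₀ = 1 from
        congrArg Subtype.val (pow_card_eq_one' (G := K₀) (x := ⟨x, hx⟩)), mul_one, mul_inv_cancel]
    rw [e, (show Commute h b from mem_center_iff.mp (hZpc hb) h).mul_pow,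
      show h ^ Nat.card K₀ = 1 from congrArg Subtype.val (pow_card_eq_one' (G := K₀) (x := ⟨h, hh⟩)),
      one_mul] at h1
    obtain ⟨i, hi⟩ := (S.isPGroup'.exists_card_eq)
    have h2 : orderOf b ∣ p ^ i := hi ▸ orderOf_dvd_natCard _ hb.2
    have h3 : orderOf b = 1 := Nat.eq_one_of_dvd_coprimes
      (Nat.Coprime.pow_left i (hp.out.coprime_iff_not_dvd.mpr hm)) h2
      (orderOf_dvd_of_pow_eq_one h1)
    rw [e, orderOf_eq_one_iff.mp h3, mul_one]
    exact hh
  refine ⟨K₀, hnorm, hm, le_antisymm (sup_le_sup_right hK₀K _)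
    (sup_le (fun g hg => ?_) le_sup_right), fun z => ?_⟩
  · obtain ⟨h, hh, b, hb, rfl⟩ := hdec g hg
    exact mul_mem_sup hh hb.2
  · obtain ⟨h, hh, b, hb, e⟩ := hdec z (hZK z.2)
    have hhZ : h ∈ Z := by
      rw [show h = (z : G) * b⁻¹ by rw [e, mul_inv_cancel_right]]
      exact mul_mem z.2 (inv_mem hb.1)
    exact ⟨⟨h, hhZ⟩, ⟨b, hb.1⟩, Subtype.ext e, hh, hb.2⟩

/-- The central case from the general case at smaller index. -/
theorem central_step (n : ℕ) (ihG : ∀ m < n, GeneralAt.{u} p m)
    (ihC : ∀ m < n, CentralAt.{u} p m) : CentralAt.{u} p n := by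
  intro G _ _ Z _ hZ ζ S hn hsol
  set N := normalizer ((S : Subgroup G) : Set G) with hN
  have htop : Z ⊔ (S : Subgroup G) = ⊤ → N = ⊤ := fun h => by
    rw [hN, ← normalizer_central_sup hZ S, h]
    exact normalizer_eq_top_iff.mpr inferInstance
  by_cases hZtop : Z = ⊤
  · rw [htop (by rw [hZtop, top_sup_eq])]
  haveI : Nontrivial (G ⧸ Z) := QuotientGroup.nontrivial_iff.mpr hZtop
  obtain ⟨Nb, hNb, hNne, hkind⟩ := Thompson.exists_minimal_step_of_isPSolvable hsol
  set K := Nb.comap (QuotientGroup.mk' Z) with hKdef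
  haveI hKn : K.Normal := hNb.comap _
  have hZK : Z ≤ K := fun z hz => by
    show (z : G ⧸ Z) ∈ Nb
    rw [(QuotientGroup.eq_one_iff z).mpr hz]; exact one_mem _
  have hmapK : K.map (QuotientGroup.mk' Z) = Nb :=
    map_comap_eq_self_of_surjective (QuotientGroup.mk'_surjective Z) Nb
  have hKidx : K.index < n := by
    rw [← hn, hKdef, index_comap_of_surjective Nb (QuotientGroup.mk'_surjective Z),
      index_eq_card (H := Z), ← Nb.index_mul_card]
    exact lt_mul_of_one_lt_right (Nat.pos_of_ne_zero index_ne_zero_of_finite)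
      ((Nb.one_lt_card_iff_ne_bot).mpr hNne)
  have hKsol : IsPSolvable p (G ⧸ K) :=
    Thompson.isPSolvable_of_surjective (QuotientGroup.map Z K (MonoidHom.id G) hZK)
      (fun q => by
        induction q using QuotientGroup.induction_on with
        | H g => exact ⟨(g : G ⧸ Z), rfl⟩) hsol
  set M := normalizer ((K ⊔ (S : Subgroup G) : Subgroup G) : Set G) with hM
  have hNM : N ≤ M := fun g hg =>
    normalizer_sup (mem_normalizer_normal K g) fun s hs => mem_sup_right (conj_mem_of hg hs)
  have hKM : K ≤ M := le_sup_left.trans Subgroup.le_normalizer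
  have h1 : countZ p Z ζ (⊤ : Subgroup G) = countZ p Z ζ M := by
    have ha := countZ_fibre K Z hZ ζ hZK S (H := ⊤) le_top le_top
    have hb := countZ_fibre K Z hZ ζ hZK S hKM hNM
    have : (countZ p Z ζ (⊤ : Subgroup G) : ℂ) = countZ p Z ζ M := by
      rw [ha, hb]
      refine Finset.sum_congr rfl fun θ hθ => ?_
      rw [ihG _ hKidx G K θ S rfl hKsol ((mem_baseSet K).mp hθ).2.2]
    exact_mod_cast this
  rw [h1]
  by_cases hMtop : M = ⊤
  swap
  · have hSM : (S : Subgroup G) ≤ M := le_sup_right.trans Subgroup.le_normalizer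
    have hZM : Z ≤ M := hZK.trans hKM
    haveI : (Z.subgroupOf M).Normal := ‹Z.Normal›.subgroupOf M
    have hidx : (Z.subgroupOf M).index < n := by
      show Z.relIndex M < n
      rw [← hn, ← relIndex_mul_index hZM]
      refine lt_mul_of_one_lt_right (Nat.pos_of_ne_zero ?_) ?_
      · exact index_ne_zero_of_finite (H := Z.subgroupOf M)
      · exact lt_of_le_of_ne (Nat.pos_of_ne_zero index_ne_zero_of_finite)
          fun h => hMtop (index_eq_one.mp h.symm)
    have hc := ihC _ hidx M (Z.subgroupOf M) (fun z hz => mem_center_sub z.2 (hZ hz))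
      (ζ.comp (subgroupOfEquivOfLe hZM).toMonoidHom) (S.subtype hSM) rfl
      (isPSolvable_sub Z M hsol)
    rw [show ((S.subtype hSM : Sylow p M) : Subgroup M) = (S : Subgroup G).subgroupOf M from rfl,
      ← subgroupOf_normalizer_eq hSM, ← subgroupOf_self (H := M), countZ_subgroupOf p Z ζ hZM le_rfl,
      countZ_subgroupOf p Z ζ hZM hNM] at hc
    exact hc
  rw [hMtop]
  haveI hKS : (K ⊔ (S : Subgroup G)).Normal := normalizer_eq_top_iff.mp hMtop
  rcases hkind with hP | hP
  · have hKZS : K ≤ Z ⊔ (S : Subgroup G) := by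
      have h2 : Nb ≤ ((S.mapSurjective (QuotientGroup.mk'_surjective Z) : Sylow p (G ⧸ Z)) :
          Subgroup (G ⧸ Z)) := le_sylow hP _
      rw [Sylow.coe_mapSurjective] at h2
      calc K ≤ ((S : Subgroup G).map (QuotientGroup.mk' Z)).comap (QuotientGroup.mk' Z) :=
            comap_mono h2
        _ = Z ⊔ (S : Subgroup G) := by rw [comap_map_eq, QuotientGroup.ker_mk', sup_comm]
    have heq : K ⊔ (S : Subgroup G) = Z ⊔ (S : Subgroup G) :=
      le_antisymm (sup_le hKZS le_sup_right) (sup_le_sup_right hZK _)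
    haveI : (Z ⊔ (S : Subgroup G)).Normal := heq ▸ hKS
    rw [show N = ⊤ from by
      rw [hN, ← normalizer_central_sup hZ S]; exact normalizer_eq_top_iff.mpr inferInstance]
  · have hrel : (Z.relIndex K).Coprime p := by
      rwa [Thompson.relIndex_eq_card_map_mk', hmapK]
    obtain ⟨K₀, hK₀n, hK₀p, hK₀S, hZd⟩ := exists_normal_pPrime Z K hZ hZK S hrel
    exact countZ_eq S K₀ hK₀p (hK₀S ▸ hKS) Z hZ ζ hZd

/-- The general case from the central case and the general case at smaller index. -/
theorem general_step (htriple : TripleStmt.{u} p) (n : ℕ) (ihG : ∀ m < n, GeneralAt.{u} p m)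
    (hC : CentralAt.{u} p n) : GeneralAt.{u} p n := by
  intro G _ _ L _ ν S hn hsol hfix
  set P := L ⊔ (S : Subgroup G) with hP
  set N := normalizer (P : Set G) with hN
  have hLN : L ≤ N := le_sup_left.trans Subgroup.le_normalizer
  have hSN : (S : Subgroup G) ≤ N := le_sup_right.trans Subgroup.le_normalizer
  by_cases hν : p ∣ Cfsg.charDegree (ν : L → ℂ)
  · rw [countOver_eq_zero L ν hν le_top, countOver_eq_zero L ν hν hLN]
  let T : Subgroup G :=
    { carrier := {a | cjIrr L a (mem_normalizer_normal L a) ν = ν}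
      one_mem' := cjIrr_one L _ _
      mul_mem' := fun {a b} ha hb => by
        show cjIrr L (a * b) _ ν = ν
        rw [← cjIrr_cjIrr L (mem_normalizer_normal L a) (mem_normalizer_normal L b)]
        rw [show cjIrr L b _ ν = ν from hb]; exact ha
      inv_mem' := fun {a} ha => by
        show cjIrr L a⁻¹ _ ν = ν
        conv_lhs => rw [← show cjIrr L a _ ν = ν from ha]
        rw [cjIrr_cjIrr, cjIrr_congr L (inv_mul_cancel a), cjIrr_one] }
  have hT : ∀ g : G, g ∈ T ↔ Fixes L g (ν : L → ℂ) := fun g =>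
    (fixes_iff L g (mem_normalizer_normal L g) ν).symm
  have hLT : L ≤ T := fun l hl => (hT l).mpr fun k k' hk => by
    have h := CharCore.irr_isClassFunction ν k ⟨l, hl⟩
    refine Eq.trans ?_ h
    exact congrArg (ν : L → ℂ) (Subtype.ext (by rw [hk]; rfl))
  have hST : (S : Subgroup G) ≤ T := fun s hs => (hT s).mpr (hfix s hs)
  by_cases hTtop : T = ⊤
  · obtain ⟨Γ, i₁, i₂, Z, ζ, π, hZ, hπ, hker, hcount⟩ :=
      htriple G L ν hν fun g => (hT g).mp (hTtop ▸ mem_top g)
    haveI : Z.Normal := hker ▸ inferInstance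
    obtain ⟨SΓ, hSΓ⟩ := Sylow.mapSurjective_surjective hπ p
      (S.mapSurjective (QuotientGroup.mk'_surjective L))
    have hidx : Z.index = n := by
      rw [← hker, Subgroup.index_ker, MonoidHom.range_eq_top.mpr hπ, Subgroup.card_top, ← hn,
        index_eq_card]
    have hsolΓ : IsPSolvable p (Γ ⧸ Z) :=
      Thompson.isPSolvable_of_equiv ((QuotientGroup.quotientMulEquivOfEq hker.symm).trans
        (QuotientGroup.quotientKerEquivOfSurjective π hπ)).symm hsol
    have hc := hC Γ Z hZ ζ SΓ hidx hsolΓ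
    rw [hcount ⊤ le_top, hcount N hLN, Subgroup.map_top_of_surjective _
      (QuotientGroup.mk'_surjective L), comap_top]
    have hmap : P.map (QuotientGroup.mk' L) = (SΓ : Subgroup Γ).map π := by
      have h2 := congrArg (fun Q : Sylow p (G ⧸ L) => (Q : Subgroup (G ⧸ L))) hSΓ
      simp only [Sylow.coe_mapSurjective] at h2
      rw [h2, hP, Subgroup.map_sup]
      simp
    have hN' : (N.map (QuotientGroup.mk' L)).comap π =
        normalizer ((SΓ : Subgroup Γ) : Set Γ) := by
      have h3 : N = (normalizer ((P.map (QuotientGroup.mk' L) : Subgroup (G ⧸ L)) :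
          Set (G ⧸ L))).comap (QuotientGroup.mk' L) := by
        rw [comap_normalizer_eq_of_surjective _ (QuotientGroup.mk'_surjective L),
          comap_map_eq_self (by rw [QuotientGroup.ker_mk']; exact le_sup_left)]
      rw [h3, map_comap_eq_self_of_surjective (QuotientGroup.mk'_surjective L),
        comap_normalizer_eq_of_surjective _ hπ, hmap, comap_map_eq, hker, sup_comm,
        normalizer_central_sup hZ SΓ]
    rw [hN']
    exact hc
  · have hidxT : ¬ p ∣ T.index := fun h => S.not_dvd_index (h.trans (index_dvd_of_le hST))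
    -- inside the inertia group
    have hlt : (L.subgroupOf T).index < n := by
      show L.relIndex T < n
      rw [← hn, ← relIndex_mul_index hLT]
      refine lt_mul_of_one_lt_right (Nat.pos_of_ne_zero ?_) ?_
      · exact index_ne_zero_of_finite (H := L.subgroupOf T)
      · exact lt_of_le_of_ne (Nat.pos_of_ne_zero index_ne_zero_of_finite)
          fun h => hTtop (index_eq_one.mp h.symm)
    have hPT : P ≤ T := sup_le hLT hST
    have hi := ihG _ hlt T (L.subgroupOf T) (irrEquiv (subgroupOfEquivOfLe hLT) ν)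
      (S.subtype hST) rfl (isPSolvable_sub L T hsol) fun g hg k k' hk => by
        exact hfix (g : G) hg _ _ (congrArg Subtype.val hk)
    rw [show ((S.subtype hST : Sylow p T) : Subgroup T) = (S : Subgroup G).subgroupOf T from rfl,
      ← subgroupOf_sup hLT hST, ← hP, ← subgroupOf_normalizer_eq hPT, ← hN,
      ← subgroupOf_self (H := T), ← inf_subgroupOf_right N T] at hi
    have hA : countOver p L (ν : L → ℂ) T = countOver p L (ν : L → ℂ) (N ⊓ T) :=
      (countOver_subgroupOf p L (ν : L → ℂ) hLT le_rfl).symm.trans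
        (hi.trans (countOver_subgroupOf p L (ν : L → ℂ) hLT inf_le_right))
    -- inside the normaliser
    haveI : (L.subgroupOf N).Normal := ‹L.Normal›.subgroupOf N
    have hB := clifford_count (p := p) (L.subgroupOf N) (irrEquiv (subgroupOfEquivOfLe hLN) ν)
      (T := T.subgroupOf N)
      (fun g => (hT (g : G)).trans
        ⟨fun h k k' hk => h _ _ (congrArg Subtype.val hk),
          fun h k k' hk => by
            have := h ((subgroupOfEquivOfLe hLN).symm k) ((subgroupOfEquivOfLe hLN).symm k')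
              (Subtype.ext hk)
            simpa [irrEquiv] using this⟩)
      (fun l hl => hLT hl)
      (fun h => S.not_dvd_index ((h.trans (relIndex_dvd_of_le_left N hST)).trans
        (relIndex_dvd_index_of_le hSN)))
    rw [← subgroupOf_self (H := N), ← inf_subgroupOf_right T N] at hB
    have hB' : countOver p L (ν : L → ℂ) N = countOver p L (ν : L → ℂ) (T ⊓ N) :=
      (countOver_subgroupOf p L (ν : L → ℂ) hLN le_rfl).symm.trans
        (hB.trans (countOver_subgroupOf p L (ν : L → ℂ) hLN inf_le_right))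
    rw [clifford_count L ν hT hLT hidxT, hA, hB', inf_comm]

/-- The relative count holds at every index. -/
theorem general (htriple : TripleStmt.{u} p) (n : ℕ) : GeneralAt.{u} p n := by
  have h : ∀ n, GeneralAt.{u} p n ∧ CentralAt.{u} p n := by
    intro n
    induction n using Nat.strong_induction_on with
    | _ n ih =>
      have hC := central_step n (fun m hm => (ih m hm).1) fun m hm => (ih m hm).2
      exact ⟨general_step htriple n (fun m hm => (ih m hm).1) hC, hC⟩
  exact (h n).1

end Cfsg.Agent.PMcKay87
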