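import Cfsg.Agent.PMcKay87.Reduce
import Cfsg.Agent.PMcKay87.Core

/-!
The count over a central character, fibred over the fixed characters of a normal subgroup.
-/

set_option autoImplicit false
set_option linter.unusedSectionVars false
set_option linter.style.haveILetI false

namespace Cfsg.Agent.PMcKay87

open scoped ComplexConjugate
open Cfsg (extendByZero classInner IsIrrCharacter IrrCharacter)
open Subgroup

attribute [local instance high] Fintype.ofFinite

universe u

variable {G : Type u} [Group G] [Finite G]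

theorem cjIrr_cjIrr (H : Subgroup G) {g h : G} (hg : g ∈ normalizer (H : Set G))
    (hh : h ∈ normalizer (H : Set G)) (θ : IrrCharacter H) :
    cjIrr H g hg (cjIrr H h hh θ) = cjIrr H (g * h) (mul_mem hg hh) θ :=
  Subtype.ext (funext fun k => congrArg (θ : H → ℂ) (Subtype.ext (by simp [mul_assoc])))

theorem cjIrr_one (H : Subgroup G) (hg : (1 : G) ∈ normalizer (H : Set G)) (θ : IrrCharacter H) :
    cjIrr H 1 hg θ = θ :=
  Subtype.ext (funext fun k => congrArg (θ : H → ℂ) (Subtype.ext (by simp)))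

theorem cjIrr_congr (H : Subgroup G) {g h : G} (e : g = h) (hg : g ∈ normalizer (H : Set G))
    (θ : IrrCharacter H) : cjIrr H g hg θ = cjIrr H h (e ▸ hg) θ := by
  subst e; rfl

theorem cjIrr_apply_one (H : Subgroup G) {g : G} (hg : g ∈ normalizer (H : Set G))
    (θ : IrrCharacter H) : (cjIrr H g hg θ : H → ℂ) 1 = (θ : H → ℂ) 1 :=
  congrArg (θ : H → ℂ) (map_one (conjEquiv H g hg))

variable (K : Subgroup G) [hKn : K.Normal]

theorem mem_normalizer_normal (g : G) : g ∈ normalizer (K : Set G) := by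
  rw [normalizer_eq_top_iff.mpr hKn]; exact mem_top g

/-- Multiplicities are invariant under conjugation inside. -/
theorem classInner_cjIrr {H : Subgroup G} (hKH : K ≤ H) (χ : IrrCharacter H) {g : G} (hg : g ∈ H)
    (θ : IrrCharacter K) :
    classInner (fun k : K => extendByZero H (χ : H → ℂ) (k : G))
        (cjIrr K g (mem_normalizer_normal K g) θ : K → ℂ) =
      classInner (fun k : K => extendByZero H (χ : H → ℂ) (k : G)) θ := by
  simp only [CharCore.classInner_def]
  congr 1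
  refine Fintype.sum_equiv (conjEquiv K g (mem_normalizer_normal K g)).toEquiv _ _ fun k => ?_
  refine congrArg₂ (· * ·) ?_ rfl
  rw [CharInd.extendByZero_mem _ (hKH k.2)]
  refine Eq.trans ?_ (CharInd.extendByZero_mem (χ : H → ℂ) (hKH (Subtype.prop _))).symm
  have h := CharCore.irr_isClassFunction χ ⟨(k : G), hKH k.2⟩ ⟨g, hg⟩⁻¹
  refine h.symm.trans (congrArg (χ : H → ℂ) (Subtype.ext ?_))
  simp [mul_assoc]

/-- Two constituents are conjugate inside. -/
theorem exists_cjIrr {H : Subgroup G} (hKH : K ≤ H) (χ : IrrCharacter H) (θ θ' : IrrCharacter K)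
    (h1 : classInner (fun k : K => extendByZero H (χ : H → ℂ) (k : G)) θ ≠ 0)
    (h2 : classInner (fun k : K => extendByZero H (χ : H → ℂ) (k : G)) θ' ≠ 0) :
    ∃ g ∈ H, θ' = cjIrr K g (mem_normalizer_normal K g) θ := by
  haveI : (K.subgroupOf H).Normal := Subgroup.normal_subgroupOf
  let f := subgroupOfEquivOfLe hKH
  have key : ∀ θ : IrrCharacter K,
      classInner (fun n : K.subgroupOf H => (χ : H → ℂ) n) (fun n => (θ : K → ℂ) (f n)) =
        classInner (fun k : K => extendByZero H (χ : H → ℂ) (k : G)) θ := fun θ => by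
    simp only [CharCore.classInner_def]
    rw [Nat.card_congr f.toEquiv]
    congr 1
    refine Fintype.sum_equiv f.toEquiv _ _ fun l => ?_
    congr 1
    exact (CharInd.extendByZero_mem (χ : H → ℂ)
      (show ((f l : K) : G) ∈ H from (l : H).2)).symm
  obtain ⟨x, hx⟩ := CharClifford.exists_conjFun_eq_of_constituents (K.subgroupOf H) χ.2
    (irrEquiv f θ).2 (irrEquiv f θ').2 (by rwa [show ((irrEquiv f θ : IrrCharacter _) :
      K.subgroupOf H → ℂ) = fun n => (θ : K → ℂ) (f n) from rfl, key])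
    (by rwa [show ((irrEquiv f θ' : IrrCharacter _) :
      K.subgroupOf H → ℂ) = fun n => (θ' : K → ℂ) (f n) from rfl, key])
  refine ⟨(x : G)⁻¹, inv_mem x.2, Subtype.ext (funext fun k => ?_)⟩
  have h := congrFun hx (f.symm k)
  rw [CharClifford.conjFun_apply] at h
  simp only [irrEquiv, Equiv.coe_fn_mk, MulEquiv.apply_symm_apply] at h
  exact h.trans (congrArg (θ : K → ℂ) (Subtype.ext (by simp [f, mul_assoc])))

variable {p : ℕ} [hp : Fact p.Prime]

/-- The characters of `K` of degree prime to `p` over `ζ` fixed by `S`. -/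
noncomputable def baseSet (p : ℕ) (Z : Subgroup G) (ζ : Z →* ℂˣ) (S : Subgroup G) :
    Finset (IrrCharacter K) := by
  classical
  exact Finset.univ.filter fun θ => ¬ p ∣ Cfsg.charDegree (θ : K → ℂ) ∧
    Central Z ζ K (θ : K → ℂ) ∧ ∀ s ∈ S, Fixes K s (θ : K → ℂ)

theorem mem_baseSet {Z : Subgroup G} {ζ : Z →* ℂˣ} {S : Subgroup G} {θ : IrrCharacter K} :
    θ ∈ baseSet K p Z ζ S ↔ ¬ p ∣ Cfsg.charDegree (θ : K → ℂ) ∧ Central Z ζ K (θ : K → ℂ) ∧
      ∀ s ∈ S, Fixes K s (θ : K → ℂ) := by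
  simp [baseSet]

/-- The conjugates under `N`. -/
noncomputable def classSet (N : Subgroup G) (θ : IrrCharacter K) : Finset (IrrCharacter K) := by
  classical
  exact Finset.univ.filter fun θ' => ∃ g ∈ N, θ' = cjIrr K g (mem_normalizer_normal K g) θ

theorem mem_classSet {N : Subgroup G} {θ θ' : IrrCharacter K} :
    θ' ∈ classSet K N θ ↔ ∃ g ∈ N, θ' = cjIrr K g (mem_normalizer_normal K g) θ := by
  simp [classSet]

theorem classSet_eq {N : Subgroup G} {θ θ' : IrrCharacter K} (h : θ' ∈ classSet K N θ) :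
    classSet K N θ' = classSet K N θ := by
  obtain ⟨g, hg, rfl⟩ := mem_classSet K |>.mp h
  ext φ
  rw [mem_classSet, mem_classSet]
  constructor
  · rintro ⟨a, ha, rfl⟩
    exact ⟨a * g, mul_mem ha hg, cjIrr_cjIrr K _ _ θ⟩
  · rintro ⟨a, ha, rfl⟩
    refine ⟨a * g⁻¹, mul_mem ha (inv_mem hg), ?_⟩
    rw [cjIrr_cjIrr]
    exact cjIrr_congr K (inv_mul_cancel_right a g).symm _ θ

/-- The count is a sum over the fixed characters of the normal subgroup. -/
theorem countZ_fibre (Z : Subgroup G) (hZ : Z ≤ center G) (ζ : Z →* ℂˣ) (hZK : Z ≤ K)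
    (S : Sylow p G) {H : Subgroup G} (hKH : K ≤ H)
    (hNH : normalizer ((S : Subgroup G) : Set G) ≤ H) :
    (countZ p Z ζ H : ℂ) = ∑ θ ∈ baseSet K p Z ζ (S : Subgroup G),
      (countOver p K (θ : K → ℂ) H : ℂ) /
        ((classSet K (normalizer ((S : Subgroup G) : Set G)) θ).card : ℂ) := by
  classical
  set N := normalizer ((S : Subgroup G) : Set G) with hN
  set S' := (S : Subgroup G) with hS'
  have hSH : S' ≤ H := Subgroup.le_normalizer.trans hNH
  let R : IrrCharacter H → IrrCharacter K → Prop := fun χ θ =>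
    classInner (fun k : K => extendByZero H (χ : H → ℂ) (k : G)) θ ≠ 0
  have hc : ∀ θ : IrrCharacter K, (countOver p K (θ : K → ℂ) H : ℂ) = ∑ χ : IrrCharacter H,
      if ¬ p ∣ Cfsg.charDegree (χ : H → ℂ) ∧ R χ θ then (1 : ℂ) else 0 := fun θ => by
    rw [Finset.sum_boole, countOver, Nat.card_eq_fintype_card, Fintype.card_subtype]
  have hz : (countZ p Z ζ H : ℂ) = ∑ χ : IrrCharacter H,
      if ¬ p ∣ Cfsg.charDegree (χ : H → ℂ) ∧ Central Z ζ H (χ : H → ℂ) then (1 : ℂ) else 0 := by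
    rw [Finset.sum_boole, countZ, Nat.card_eq_fintype_card, Fintype.card_subtype]
  simp only [hc, Finset.sum_div, ite_div, zero_div]
  rw [Finset.sum_comm, hz]
  refine Finset.sum_congr rfl fun χ _ => ?_
  have hcen : ∀ θ, R χ θ → (Central Z ζ H (χ : H → ℂ) ↔ Central Z ζ K (θ : K → ℂ)) :=
    fun θ h => central_iff_of_constituent hZ ζ hZK hKH χ θ h
  by_cases hA : ¬ p ∣ Cfsg.charDegree (χ : H → ℂ) ∧ Central Z ζ H (χ : H → ℂ)
  swap
  · rw [if_neg hA, Finset.sum_eq_zero]
    intro θ hθ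
    rw [if_neg fun h => hA ⟨h.1, (hcen θ h.2).mpr (mem_baseSet K |>.mp hθ).2.1⟩]
  rw [if_pos hA]
  -- some constituent is fixed by `S`
  obtain ⟨c, hc1, hcd, -, -⟩ := exists_deg χ
  have hres : Cfsg.IsCharacter K (fun k : K => extendByZero H (χ : H → ℂ) (k : G)) :=
    isCharacter_res hKH χ
  let X := {θ : IrrCharacter K // R χ θ}
  obtain ⟨θ₁, hθ₁⟩ := CharClifford.exists_constituent hres (by
    rw [show extendByZero H (χ : H → ℂ) ((1 : K) : G) = (χ : H → ℂ) 1 from
      CharInd.extendByZero_mem _ (one_mem H)]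
    exact CharCore.irr_apply_one_ne_zero χ)
  obtain ⟨m, hm⟩ := exists_mult hKH χ θ₁
  obtain ⟨d, hd, hdd, -, -⟩ := exists_deg θ₁
  have hXsum : (χ : H → ℂ) 1 = (Nat.card X : ℂ) * ((m : ℂ) * d) := by
    have h := congrFun (CharCore.IsCharacter.eq_sum_classInner hres) 1
    rw [show extendByZero H (χ : H → ℂ) ((1 : K) : G) = (χ : H → ℂ) 1 from
      CharInd.extendByZero_mem _ (one_mem H)] at h
    rw [h, Finset.sum_apply]
    simp only [Pi.smul_apply, smul_eq_mul]
    rw [Nat.card_eq_fintype_card, Fintype.card_subtype, ← nsmul_eq_mul, ← Finset.sum_const,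
      Finset.sum_filter]
    refine Finset.sum_congr rfl fun θ _ => ?_
    by_cases hθ : R χ θ
    · obtain ⟨g, hg, rfl⟩ := exists_cjIrr K hKH χ θ₁ θ hθ₁ hθ
      rw [if_pos hθ, classInner_cjIrr K hKH χ hg, hm, cjIrr_apply_one, hd]
    · rw [if_neg hθ, not_not.mp hθ, zero_mul]
  have hnat : c = Nat.card X * (m * d) := by
    rw [hc1] at hXsum; exact_mod_cast hXsum
  have hpX : ¬ p ∣ Nat.card X := fun h => hA.1 (by rw [hcd, hnat]; exact h.mul_right _)
  have hpd : ¬ p ∣ d := fun h => hA.1 (by rw [hcd, hnat]; exact (h.mul_left _).mul_left _)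
  letI : MulAction S' X :=
    { smul := fun s θ => ⟨cjIrr K (s : G) (mem_normalizer_normal K _) θ.1, by
        show classInner _ _ ≠ 0
        rw [classInner_cjIrr K hKH χ (hSH s.2)]; exact θ.2⟩
      one_smul := fun θ => Subtype.ext (cjIrr_one K _ θ.1)
      mul_smul := fun a b θ => Subtype.ext (cjIrr_cjIrr K _ _ θ.1).symm }
  obtain ⟨θ₀, hθ₀⟩ := (S.isPGroup' : IsPGroup p S').nonempty_fixed_point_of_prime_not_dvd_card X hpX
  have hθ₀S : ∀ s ∈ S', Fixes K s (θ₀.1 : K → ℂ) := fun s hs =>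
    (fixes_iff K s (mem_normalizer_normal K s) θ₀.1).mpr
      (congrArg Subtype.val (hθ₀ ⟨s, hs⟩))
  obtain ⟨g₀, hg₀, he₀⟩ := exists_cjIrr K hKH χ θ₁ θ₀.1 hθ₁ θ₀.2
  have hbase : θ₀.1 ∈ baseSet K p Z ζ S' := by
    refine mem_baseSet K |>.mpr ⟨?_, (hcen _ θ₀.2).mp hA.2, hθ₀S⟩
    rw [show Cfsg.charDegree (θ₀.1 : K → ℂ) = d by
      rw [Cfsg.charDegree, he₀, cjIrr_apply_one, hd]; simp]
    exact hpd
  have hfilter : (baseSet K p Z ζ S').filter (R χ) = classSet K N θ₀.1 := by
    ext θ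
    rw [Finset.mem_filter, mem_baseSet, mem_classSet]
    constructor
    · rintro ⟨⟨-, -, hfix⟩, hR⟩
      obtain ⟨g, hg, rfl⟩ := exists_cjIrr K hKH χ θ₀.1 θ θ₀.2 hR
      let T : Subgroup G :=
        { carrier := {a | cjIrr K a (mem_normalizer_normal K a) θ₀.1 = θ₀.1}
          one_mem' := cjIrr_one K _ _
          mul_mem' := fun {a b} ha hb => by
            show cjIrr K (a * b) _ θ₀.1 = θ₀.1
            rw [← cjIrr_cjIrr K (mem_normalizer_normal K a) (mem_normalizer_normal K b)]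
            rw [show cjIrr K b _ θ₀.1 = θ₀.1 from hb]; exact ha
          inv_mem' := fun {a} ha => by
            show cjIrr K a⁻¹ _ θ₀.1 = θ₀.1
            conv_lhs => rw [← show cjIrr K a _ θ₀.1 = θ₀.1 from ha]
            rw [cjIrr_cjIrr, cjIrr_congr K (inv_mul_cancel a), cjIrr_one] }
      have hST : S' ≤ T := fun s hs =>
        (fixes_iff K s (mem_normalizer_normal K s) θ₀.1).mp (hθ₀S s hs)
      have hST' : S' ≤ T.map (MulAut.conj g).toMonoidHom := by
        intro s hs
        refine ⟨g⁻¹ * s * g, ?_, by simp [mul_assoc]⟩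
        show cjIrr K (g⁻¹ * s * g) _ θ₀.1 = θ₀.1
        have h1 := (fixes_iff K s (mem_normalizer_normal K s) _).mp (hfix s hs)
        rw [cjIrr_cjIrr] at h1
        calc cjIrr K (g⁻¹ * s * g) _ θ₀.1 = cjIrr K g⁻¹ (mem_normalizer_normal K _)
              (cjIrr K (s * g) (mem_normalizer_normal K _) θ₀.1) := by
              rw [cjIrr_cjIrr]; exact cjIrr_congr K (mul_assoc _ _ _) _ _
          _ = θ₀.1 := by
              rw [h1, cjIrr_cjIrr, cjIrr_congr K (inv_mul_cancel g), cjIrr_one]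
      -- Sylow in the stabiliser
      have hle : ((g⁻¹ • S : Sylow p G) : Subgroup G) ≤ T := by
        intro a ha
        rw [Sylow.coe_subgroup_smul] at ha
        obtain ⟨s, hs, rfl⟩ := (Subgroup.mem_smul_pointwise_iff_exists _ _ _).mp ha
        obtain ⟨t, ht, he⟩ := hST' hs
        have : (MulAut.conj g⁻¹ • s : G) = t := by
          rw [← he]
          simp [MulAut.smul_def, mul_assoc]
        rw [this]; exact ht
      obtain ⟨t, ht⟩ := MulAction.exists_smul_eq T ((g⁻¹ • S).subtype hle) (S.subtype hST)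
      rw [Sylow.smul_subtype] at ht
      have ht' : ((t : G) * g⁻¹) • S = S := by
        rw [mul_smul]
        exact Sylow.subtype_injective ht
      have hn : (t : G) * g⁻¹ ∈ N := Sylow.smul_eq_iff_mem_normalizer.mp ht'
      refine ⟨g * (t : G)⁻¹, by simpa using inv_mem hn, ?_⟩
      rw [← cjIrr_cjIrr K (mem_normalizer_normal K g) (mem_normalizer_normal K _)]
      exact congrArg _ (show cjIrr K (t : G)⁻¹ _ θ₀.1 = θ₀.1 from T.inv_mem t.2).symm
    · rintro ⟨g, hg, rfl⟩
      have hgH := hNH hg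
      refine ⟨⟨?_, ?_, fun s hs => ?_⟩, ?_⟩
      · rw [show Cfsg.charDegree (cjIrr K g _ θ₀.1 : K → ℂ) = Cfsg.charDegree (θ₀.1 : K → ℂ) by
          rw [Cfsg.charDegree, Cfsg.charDegree, cjIrr_apply_one]]
        exact (mem_baseSet K |>.mp hbase).1
      · refine (hcen _ ?_).mp hA.2
        show classInner _ _ ≠ 0
        rw [classInner_cjIrr K hKH χ hgH]; exact θ₀.2
      · rw [fixes_iff K s (mem_normalizer_normal K s)]
        have hs' : g⁻¹ * s * g ∈ S' := conj_mem_of' hg hs
        have h1 := (fixes_iff K _ (mem_normalizer_normal K (g⁻¹ * s * g)) _).mp (hθ₀S _ hs')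
        conv_rhs => rw [← h1, cjIrr_cjIrr]
        rw [cjIrr_cjIrr]
        exact cjIrr_congr K (by group) _ _
      · show classInner _ _ ≠ 0
        rw [classInner_cjIrr K hKH χ hgH]; exact θ₀.2
  have hstep : ∀ θ ∈ baseSet K p Z ζ S', (if ¬ p ∣ Cfsg.charDegree (χ : H → ℂ) ∧ R χ θ then
      (1 : ℂ) / ((classSet K N θ).card : ℂ) else 0) =
      if R χ θ then (1 : ℂ) / ((classSet K N θ₀.1).card : ℂ) else 0 := by
    intro θ hθ
    by_cases hR : R χ θ
    · rw [if_pos ⟨hA.1, hR⟩, if_pos hR, classSet_eq K (N := N) (θ := θ₀.1) (θ' := θ)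
        (hfilter ▸ Finset.mem_filter.mpr ⟨hθ, hR⟩)]
    · rw [if_neg fun h => hR h.2, if_neg hR]
  rw [Finset.sum_congr rfl hstep, ← Finset.sum_filter, hfilter, Finset.sum_const, nsmul_eq_mul,
    mul_one_div, div_self]
  refine Nat.cast_ne_zero.mpr (Finset.card_ne_zero.mpr ⟨θ₀.1, mem_classSet K |>.mpr
    ⟨1, one_mem _, (cjIrr_one K _ _).symm⟩⟩)

end Cfsg.Agent.PMcKay87
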