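import Cfsg.Agent.PMcKay87.Fibre

/-!
The two counts of the relative McKay theorem: over a character of a normal subgroup, and over a
character of a central subgroup.
-/

set_option autoImplicit false

namespace Cfsg.Agent.PMcKay87

open scoped ComplexConjugate
open Cfsg (extendByZero classInner IsIrrCharacter IrrCharacter)
open Subgroup

attribute [local instance high] Fintype.ofFinite

universe u

variable {G : Type u} [Group G] [Finite G]

/-- The number of characters of `J` of degree prime to `p` over `ζ`. -/
noncomputable def countZ (p : ℕ) (Z : Subgroup G) (ζ : Z →* ℂˣ) (J : Subgroup G) : ℕ :=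
  Nat.card {χ : IrrCharacter J //
    ¬ p ∣ Cfsg.charDegree (χ : J → ℂ) ∧ Central Z ζ J (χ : J → ℂ)}

/-- The number of characters of `H` of degree prime to `p` over the character `ν` of `L`. -/
noncomputable def countOver (p : ℕ) (L : Subgroup G) (ν : L → ℂ) (H : Subgroup G) : ℕ :=
  Nat.card {χ : IrrCharacter H // ¬ p ∣ Cfsg.charDegree (χ : H → ℂ) ∧
    classInner (fun l : L => extendByZero H (χ : H → ℂ) (l : G)) ν ≠ 0}

end Cfsg.Agent.PMcKay87
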