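import Cfsg.Agent.PMcKay87.Over
import Cfsg.Agent.BC87.CliffordCorr
import Cfsg.Agent.CharB.CliffordDegree

/-!
The counts seen inside a subgroup, and the reduction to the inertia group.
-/

set_option autoImplicit false
set_option linter.style.haveILetI false
set_option linter.unusedSectionVars false

namespace Cfsg.Agent.PMcKay87

open scoped ComplexConjugate
open Cfsg (extendByZero classInner IsIrrCharacter IrrCharacter)
open Subgroup

attribute [local instance high] Fintype.ofFinite

universe u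

variable {G : Type u} [Group G] [Finite G]

/-- Transport of irreducible characters along an isomorphism. -/
noncomputable def irrEquiv {A B : Type u} [Group A] [Finite A] [Group B] [Finite B] (e : A ≃* B) :
    IrrCharacter B ≃ IrrCharacter A where
  toFun η := ⟨fun a => (η : B → ℂ) (e a),
    CharCore.isIrrCharacter_comp_surjective η.2 e.toMonoidHom e.surjective⟩
  invFun η := ⟨fun b => (η : A → ℂ) (e.symm b),
    CharCore.isIrrCharacter_comp_surjective η.2 e.symm.toMonoidHom e.symm.surjective⟩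
  left_inv η := Subtype.ext (funext fun b => by simp)
  right_inv η := Subtype.ext (funext fun a => by simp)

theorem charDegree_irrEquiv {A B : Type u} [Group A] [Finite A] [Group B] [Finite B] (e : A ≃* B)
    (η : IrrCharacter B) :
    Cfsg.charDegree (irrEquiv e η : A → ℂ) = Cfsg.charDegree (η : B → ℂ) := by
  simp [Cfsg.charDegree, irrEquiv]

/-- The count over a central character, seen inside a subgroup. -/
theorem countZ_subgroupOf (p : ℕ) (Z : Subgroup G) (ζ : Z →* ℂˣ) {T J : Subgroup G} (hZT : Z ≤ T)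
    (hJT : J ≤ T) :
    countZ p (Z.subgroupOf T) (ζ.comp (subgroupOfEquivOfLe hZT).toMonoidHom) (J.subgroupOf T) =
      countZ p Z ζ J := by
  let e := subgroupOfEquivOfLe hJT
  refine (Nat.card_congr ((irrEquiv e).subtypeEquiv fun χ => ?_)).symm
  rw [charDegree_irrEquiv]
  refine and_congr_right fun _ => ⟨fun h z hz => ?_, fun h z hz => ?_⟩
  · have h1 := h (subgroupOfEquivOfLe hZT z) hz
    have h2 : ((irrEquiv e χ : IrrCharacter (J.subgroupOf T)) : J.subgroupOf T → ℂ) 1 =
        (χ : J → ℂ) 1 := congrArg (χ : J → ℂ) (map_one e)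
    rw [h2]
    exact h1
  · have h1 := h ((subgroupOfEquivOfLe hZT).symm z) hz
    have h2 : ((irrEquiv e χ : IrrCharacter (J.subgroupOf T)) : J.subgroupOf T → ℂ) 1 =
        (χ : J → ℂ) 1 := congrArg (χ : J → ℂ) (map_one e)
    have h3 : (ζ.comp (subgroupOfEquivOfLe hZT).toMonoidHom) ((subgroupOfEquivOfLe hZT).symm z) =
        ζ z := congrArg ζ ((subgroupOfEquivOfLe hZT).apply_symm_apply z)
    rw [h2, h3] at h1
    exact h1

/-- The count over a character of a normal subgroup, seen inside a subgroup. -/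
theorem countOver_subgroupOf (p : ℕ) (L : Subgroup G) (ν : L → ℂ) {T J : Subgroup G} (hLT : L ≤ T)
    (hJT : J ≤ T) :
    countOver p (L.subgroupOf T) (fun l => ν (subgroupOfEquivOfLe hLT l)) (J.subgroupOf T) =
      countOver p L ν J := by
  let e := subgroupOfEquivOfLe hJT
  refine (Nat.card_congr ((irrEquiv e).subtypeEquiv fun χ => ?_)).symm
  rw [charDegree_irrEquiv]
  refine and_congr_right fun _ => ?_
  let f := subgroupOfEquivOfLe hLT
  have h : classInner (fun l : L.subgroupOf T => extendByZero (J.subgroupOf T)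
      (irrEquiv e χ : J.subgroupOf T → ℂ) (l : T)) (fun l => ν (f l)) =
      classInner (fun l : L => extendByZero J (χ : J → ℂ) (l : G)) ν := by
    simp only [CharCore.classInner_def]
    rw [Nat.card_congr f.toEquiv]
    congr 1
    refine Fintype.sum_equiv f.toEquiv _ _ fun l => ?_
    congr 1
    by_cases hm : ((l : T) : G) ∈ J
    · rw [CharInd.extendByZero_mem _ (show (l : T) ∈ J.subgroupOf T from hm)]
      exact (CharInd.extendByZero_mem (χ : J → ℂ) (show ((f l : L) : G) ∈ J from hm)).symm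
    · rw [CharInd.extendByZero_notMem _ (show (l : T) ∉ J.subgroupOf T from hm)]
      exact (CharInd.extendByZero_notMem (χ : J → ℂ) (show ((f l : L) : G) ∉ J from hm)).symm
  exact not_congr (by rw [h])

variable {p : ℕ} [hp : Fact p.Prime]

theorem classInner_top {L : Subgroup G} (χ : (⊤ : Subgroup G) → ℂ) (ν : L → ℂ) :
    classInner (fun l : L => extendByZero (⊤ : Subgroup G) χ (l : G)) ν =
      classInner (fun l : L => χ ⟨l, mem_top _⟩) ν := by
  congr 1
  funext l
  exact CharInd.extendByZero_mem _ (mem_top _)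

/-- A character over `ν` has degree divisible by that of `ν`. -/
theorem countOver_eq_zero (L : Subgroup G) [L.Normal] (ν : IrrCharacter L)
    (hν : p ∣ Cfsg.charDegree (ν : L → ℂ)) {H : Subgroup G} (hLH : L ≤ H) :
    countOver p L (ν : L → ℂ) H = 0 := by
  haveI : IsEmpty {χ : IrrCharacter H // ¬ p ∣ Cfsg.charDegree (χ : H → ℂ) ∧
      classInner (fun l : L => extendByZero H (χ : H → ℂ) (l : G)) ν ≠ 0} := by
    refine ⟨fun ⟨χ, hχ, hne⟩ => hχ ?_⟩
    haveI : (L.subgroupOf H).Normal := Subgroup.normal_subgroupOf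
    let f := subgroupOfEquivOfLe hLH
    obtain ⟨c, hc, hcd, -, -⟩ := exists_deg χ
    obtain ⟨d, hd, hdd, -, -⟩ := exists_deg ν
    have h := CharB.degree_dvd (L.subgroupOf H) χ.2
      (CharCore.isIrrCharacter_comp_surjective ν.2 f.toMonoidHom f.surjective) (c := c) (d := d)
      (by
        intro h0; apply hne; rw [← h0]
        simp only [CharCore.classInner_def]
        rw [Nat.card_congr f.toEquiv]
        congr 1
        refine (Fintype.sum_equiv f.toEquiv _ _ fun l => ?_).symm
        congr 1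
        exact (CharInd.extendByZero_mem (χ : H → ℂ)
          (show ((f l : L) : G) ∈ H from (l : H).2)).symm) hc
      (by simpa using hd)
    exact hcd ▸ (hdd ▸ hν).trans h.1
  exact Nat.card_of_isEmpty

/-- The Clifford correspondence on characters of degree prime to `p`. -/
theorem clifford_count (L : Subgroup G) [hLn : L.Normal] (ν : IrrCharacter L) {T : Subgroup G}
    (hT : ∀ g : G, g ∈ T ↔ Fixes L g (ν : L → ℂ)) (hLT : L ≤ T) (hidx : ¬ p ∣ T.index) :
    countOver p L (ν : L → ℂ) (⊤ : Subgroup G) = countOver p L (ν : L → ℂ) T := by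
  classical
  let e : G ≃* (⊤ : Subgroup G) := (Subgroup.topEquiv).symm
  have hT' : ∀ g : G, g ∈ T ↔
      ∀ n : L, (ν : L → ℂ) ⟨g * n * g⁻¹, hLn.conj_mem (n : G) n.2 g⟩ = (ν : L → ℂ) n := fun g =>
    (hT g).trans ⟨fun h n => h n _ rfl, fun h k k' hk => by
      rw [← h k]; exact congrArg (ν : L → ℂ) (Subtype.ext hk)⟩
  have hover : ∀ η : IrrCharacter T,
      classInner (fun l : L => extendByZero T (η : T → ℂ) (l : G)) ν =
        classInner (fun n : L => (η : T → ℂ) ⟨(n : G), hLT n.2⟩) (ν : L → ℂ) := fun η => by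
    congr 1; funext l; exact CharInd.extendByZero_mem _ (hLT l.2)
  have hdeg : ∀ η : IrrCharacter T, ∃ d : ℕ, Cfsg.charDegree (η : T → ℂ) = d ∧
      Cfsg.indFun T (η : T → ℂ) 1 = ((T.index * d : ℕ) : ℂ) := fun η => by
    obtain ⟨d, hd, hdd, -, -⟩ := exists_deg η
    exact ⟨d, hdd, by rw [CharInd.indFun_apply_one, hd, Nat.cast_mul]⟩
  have hcd : ∀ η : IrrCharacter T, ∀ χ : IrrCharacter (⊤ : Subgroup G),
      (fun g => (χ : (⊤ : Subgroup G) → ℂ) (e g)) = Cfsg.indFun T (η : T → ℂ) →
      (¬ p ∣ Cfsg.charDegree (χ : (⊤ : Subgroup G) → ℂ) ↔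
        ¬ p ∣ Cfsg.charDegree (η : T → ℂ)) := by
    intro η χ h
    obtain ⟨d, hd, hd1⟩ := hdeg η
    obtain ⟨c, hc, hcd, -, -⟩ := exists_deg χ
    have h1 := congrFun h 1
    simp only [map_one, hc, hd1, Nat.cast_inj] at h1
    rw [hcd, hd, h1]
    exact not_congr ⟨fun h => (hp.out.dvd_mul.mp h).resolve_left hidx, fun h => h.mul_left _⟩
  let F : {η : IrrCharacter T // ¬ p ∣ Cfsg.charDegree (η : T → ℂ) ∧
      classInner (fun l : L => extendByZero T (η : T → ℂ) (l : G)) ν ≠ 0} →
      IrrCharacter (⊤ : Subgroup G) := fun η =>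
    (irrEquiv e.symm) ⟨_, BC87.isIrrCharacter_indFun_inertia ν.2 hT' hLT η.1
      (by rw [← hover]; exact η.2.2)⟩
  have hF : ∀ η, (fun g => (F η : (⊤ : Subgroup G) → ℂ) (e g)) = Cfsg.indFun T (η.1 : T → ℂ) :=
    fun η => funext fun g => by
      show Cfsg.indFun T (η.1 : T → ℂ) (e.symm (e g)) = _
      rw [e.symm_apply_apply]
  have hmem : ∀ η, ¬ p ∣ Cfsg.charDegree (F η : (⊤ : Subgroup G) → ℂ) ∧
      classInner (fun l : L => extendByZero (⊤ : Subgroup G) (F η : (⊤ : Subgroup G) → ℂ) (l : G))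
        ν ≠ 0 := by
    intro η
    refine ⟨(hcd η.1 _ (hF η)).mpr η.2.1, ?_⟩
    let χ : IrrCharacter G := ⟨Cfsg.indFun T (η.1 : T → ℂ),
      BC87.isIrrCharacter_indFun_inertia ν.2 hT' hLT η.1 (by rw [← hover]; exact η.2.2)⟩
    have hcon : classInner (fun n : L => (χ : G → ℂ) n) (ν : L → ℂ) ≠ 0 := by
      obtain ⟨m, hm⟩ := CharCore.IsCharacter.exists_sum
        (CharCore.isCharacter_restrict (CharCore.irr_isCharacter χ) T)
      have hm1 : m η.1 = 1 := by
        have h3 : classInner (Cfsg.indFun T (η.1 : T → ℂ)) (χ : G → ℂ) = 1 :=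
          (CharCore.isIrrCharacter_iff.mp χ.2).2
        rw [CharInd.classInner_indFun_left T (η.1 : T → ℂ) (CharCore.irr_isClassFunction χ),
          ← CharInd.classInner_swap, hm, CharCore.classInner_sum_all (fun ψ => (m ψ : ℂ)) η.1,
          map_natCast] at h3
        exact_mod_cast h3
      have hnat : ∀ ψ : IrrCharacter T, ∃ k : ℕ,
          classInner (fun n : L => (ψ : T → ℂ) ⟨(n : G), hLT n.2⟩) (ν : L → ℂ) = k := fun ψ =>
        CharCore.IsCharacter.exists_classInner_irr_eq_natCast
          (CharCore.isCharacter_comp (CharCore.irr_isCharacter ψ) (Subgroup.inclusion hLT)) ν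
      choose a ha using hnat
      have e1 : (fun n : L => (χ : G → ℂ) n) =
          ∑ ψ : IrrCharacter T, (m ψ : ℂ) • fun n : L => (ψ : T → ℂ) ⟨(n : G), hLT n.2⟩ := by
        funext n
        have := congrFun hm ⟨(n : G), hLT n.2⟩
        simpa [Finset.sum_apply] using this
      rw [e1, CharCore.classInner_sum_left]
      simp only [CharCore.classInner_smul_left, ha]
      have hne : (∑ ψ, m ψ * a ψ) ≠ 0 := fun h0 => by
        have := Finset.sum_eq_zero_iff.mp h0 η.1 (Finset.mem_univ _)
        rw [hm1, one_mul] at this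
        exact η.2.2 (by rw [hover, ha, this, Nat.cast_zero])
      exact_mod_cast hne
    rw [classInner_top]
    exact hcon
  refine (Nat.card_eq_of_bijective (fun η => (⟨F η, hmem η⟩ :
    {χ : IrrCharacter (⊤ : Subgroup G) // ¬ p ∣ Cfsg.charDegree (χ : (⊤ : Subgroup G) → ℂ) ∧
      classInner (fun l : L => extendByZero (⊤ : Subgroup G) (χ : (⊤ : Subgroup G) → ℂ) (l : G))
        ν ≠ 0})) ⟨fun η η' h => ?_, fun χ => ?_⟩).symm
  · have h1 : F η = F η' := congrArg Subtype.val h
    refine Subtype.ext (BC87.indFun_inertia_injective ν.2 hT' hLT η.1 η'.1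
      (by rw [← hover]; exact η.2.2) (by rw [← hover]; exact η'.2.2) ?_)
    rw [← hF η, ← hF η', h1]
  · obtain ⟨χ, hd, hne⟩ := χ
    rw [classInner_top] at hne
    obtain ⟨ψ, hψ, hind, hin⟩ := CharDeep.Ext.exists_inertia_induced L ν.2 T hT' hLT
      (irrEquiv e χ).2 hne
    let η : IrrCharacter T := ⟨ψ, hψ⟩
    have hη : classInner (fun l : L => extendByZero T (η : T → ℂ) (l : G)) ν ≠ 0 := by
      rw [hover η]
      show classInner (fun n : L => ψ ⟨(n : G), hLT n.2⟩) (ν : L → ℂ) ≠ 0
      rw [hin]; exact hne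
    have hd' : ¬ p ∣ Cfsg.charDegree (η : T → ℂ) := (hcd η χ hind.symm).mp hd
    refine ⟨⟨η, hd', hη⟩, Subtype.ext ((irrEquiv e).injective ?_)⟩
    exact Subtype.ext ((hF ⟨η, hd', hη⟩).trans hind)

end Cfsg.Agent.PMcKay87
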