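import Cfsg.Agent.PMcKay87.Over
import Cfsg.Agent.CharB.CliffordProj
import Cfsg.Agent.CharDeep.Ext.Main

/-!
An invariant character of a normal subgroup may be replaced by a linear character of a central
subgroup: the group of pairs `(g, A)` with `A` an intertwiner of bounded determinant.
-/

set_option autoImplicit false

namespace Cfsg.Agent.PMcKay87

open scoped ComplexConjugate
open Cfsg (extendByZero classInner IsIrrCharacter IrrCharacter)
open Subgroup

attribute [local instance high] Fintype.ofFinite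

universe u

namespace Triple

variable {G : Type u} [Group G]

/-- The endomorphisms of the space of a representation of degree `d`. -/
abbrev EndV (d : ℕ) : Type := Module.End ℂ (Fin d → ℂ)

/-- Conjugation of an element of a normal subgroup. -/
def cn (L : Subgroup G) [hL : L.Normal] (g : G) (l : L) : L :=
  ⟨g * l * g⁻¹, hL.conj_mem (l : G) l.2 g⟩

variable (L : Subgroup G) [L.Normal] {d : ℕ} (σ : Representation ℂ L (Fin d → ℂ))

theorem cn_one (l : L) : cn L 1 l = l := Subtype.ext (by simp [cn])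

theorem cn_cn (g h : G) (l : L) : cn L g (cn L h l) = cn L (g * h) l :=
  Subtype.ext (by simp [cn, mul_assoc])

/-- The pairs of an element and an intertwiner of bounded determinant. -/
def hat : Subgroup (G × (EndV d)ˣ) where
  carrier := {x | (∀ l, (x.2 : EndV d) * σ l = σ (cn L x.1 l) * (x.2 : EndV d)) ∧
    LinearMap.det (x.2 : EndV d) ^ Nat.card L = 1}
  one_mem' := ⟨fun l => by simp [cn_one], by simp⟩
  mul_mem' := by
    rintro x y ⟨hx, hx'⟩ ⟨hy, hy'⟩
    refine ⟨fun l => ?_, ?_⟩
    · simp only [Prod.fst_mul, Prod.snd_mul, Units.val_mul]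
      rw [mul_assoc, hy, ← mul_assoc, hx, cn_cn, mul_assoc]
    · simp only [Prod.snd_mul, Units.val_mul, map_mul, mul_pow, hx', hy', mul_one]
  inv_mem' := by
    rintro x ⟨hx, hx'⟩
    refine ⟨fun l => ?_, ?_⟩
    · have h := hx (cn L x.1⁻¹ l)
      rw [cn_cn, mul_inv_cancel, cn_one] at h
      simp only [Prod.fst_inv, Prod.snd_inv]
      rw [Units.inv_mul_eq_iff_eq_mul, ← mul_assoc, h, mul_assoc, Units.mul_inv, mul_one]
    · simp only [Prod.snd_inv]
      have h : LinearMap.det (x.2 : EndV d) * LinearMap.det ((x.2⁻¹ : (EndV d)ˣ) : EndV d) = 1 := by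
        rw [← map_mul, Units.mul_inv, map_one]
      have h2 := congrArg (fun t : ℂ => t ^ Nat.card L) h
      simp only [mul_pow, hx', one_mul, one_pow] at h2
      exact h2

theorem mem_hat {x : G × (EndV d)ˣ} : x ∈ hat L σ ↔
    (∀ l, (x.2 : EndV d) * σ l = σ (cn L x.1 l) * (x.2 : EndV d)) ∧
      LinearMap.det (x.2 : EndV d) ^ Nat.card L = 1 :=
  Iff.rfl

/-- The projection. -/
def pr : hat L σ →* G := (MonoidHom.fst G (EndV d)ˣ).comp (hat L σ).subtype

/-- The extending representation. -/
def tau : Representation ℂ (hat L σ) (Fin d → ℂ) :=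
  (Units.coeHom (EndV d)).comp ((MonoidHom.snd G (EndV d)ˣ).comp (hat L σ).subtype)

/-- The copy of `L`. -/
def emb : L →* hat L σ :=
  MonoidHom.codRestrict (MonoidHom.prod L.subtype (MonoidHom.toHomUnits σ)) (hat L σ) fun l => by
    refine ⟨fun m => ?_, ?_⟩
    · change σ l * σ m = σ (cn L (l : G) m) * σ l
      rw [← map_mul, ← map_mul]
      exact congrArg σ (Subtype.ext (by simp [cn]))
    · change LinearMap.det (σ l) ^ Nat.card L = 1
      rw [← map_pow, ← map_pow, pow_card_eq_one', map_one, map_one]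

@[simp] theorem pr_emb (l : L) : pr L σ (emb L σ l) = l := rfl

@[simp] theorem tau_emb (l : L) : tau L σ (emb L σ l) = σ l := rfl

theorem intertwine (x : hat L σ) (l : L) :
    tau L σ x * σ l = σ (cn L (pr L σ x) l) * tau L σ x :=
  x.2.1 l

theorem hat_ext {x y : hat L σ} (h1 : pr L σ x = pr L σ y) (h2 : tau L σ x = tau L σ y) : x = y :=
  Subtype.ext (Prod.ext h1 (Units.ext h2))

theorem normal_range : (emb L σ).range.Normal := by
  refine ⟨?_⟩
  rintro _ ⟨l, rfl⟩ x
  refine ⟨cn L (pr L σ x) l, hat_ext L σ ?_ ?_⟩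
  · simp [cn]
  · rw [map_mul, map_mul, tau_emb, tau_emb, intertwine, mul_assoc, ← map_mul, mul_inv_cancel,
      map_one, mul_one]

variable [Finite G]

omit [Finite G] in
theorem exists_scalar [σ.IsIrreducible] (x y : hat L σ) (h : pr L σ x = pr L σ y) :
    ∃ c : ℂ, tau L σ x = c • tau L σ y := by
  have hpr : pr L σ (y⁻¹ * x) = 1 := by rw [map_mul, map_inv, h, inv_mul_cancel]
  obtain ⟨c, hc⟩ := CharClifford.exists_scalar_of_commute σ (tau L σ (y⁻¹ * x)) fun l => by
    have := intertwine L σ (y⁻¹ * x) l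
    rwa [hpr, cn_one] at this
  refine ⟨c, ?_⟩
  calc tau L σ x = tau L σ y * tau L σ (y⁻¹ * x) := by rw [← map_mul, mul_inv_cancel_left]
    _ = c • tau L σ y := by rw [hc, mul_smul_comm, mul_one]

theorem exists_lift [σ.IsIrreducible]
    (hinv : ∀ (g : G) (l : L), σ.character (cn L g l) = σ.character l) :
    Function.Surjective (pr L σ) := by
  intro g
  obtain ⟨I⟩ := CharB.exists_intertwiners σ (fun g n => hinv g n)
  have hd : 0 < d := by simpa using CharClifford.finrank_pos_of_irreducible σ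
  have hdet : LinearMap.det (I.S g) ≠ 0 := by
    intro h0
    have h := congrArg LinearMap.det (I.S_inv g)
    rw [map_mul, h0, zero_mul, map_one] at h
    exact zero_ne_one h
  obtain ⟨c, hc⟩ := IsAlgClosed.exists_pow_nat_eq ((LinearMap.det (I.S g) ^ Nat.card L)⁻¹)
    (Nat.mul_pos hd (Nat.card_pos (α := L)))
  have hc0 : c ≠ 0 := by
    rintro rfl
    rw [zero_pow (Nat.mul_ne_zero hd.ne' Nat.card_pos.ne')] at hc
    exact inv_ne_zero (pow_ne_zero _ hdet) hc.symm
  let U : (EndV d)ˣ :=
    { val := c • I.S g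
      inv := c⁻¹ • I.S' g
      val_inv := by rw [smul_mul_smul_comm, mul_inv_cancel₀ hc0, I.S_inv, one_smul]
      inv_val := by rw [smul_mul_smul_comm, inv_mul_cancel₀ hc0, I.inv_S, one_smul] }
  refine ⟨⟨(g, U), fun l => ?_, ?_⟩, rfl⟩
  · change (c • I.S g) * σ l = σ (cn L g l) * (c • I.S g)
    rw [smul_mul_assoc, mul_smul_comm, I.intertwine g l]
    rfl
  · change LinearMap.det (c • I.S g) ^ Nat.card L = 1
    rw [LinearMap.det_smul, Module.finrank_fin_fun, mul_pow, ← pow_mul, hc,
      inv_mul_cancel₀ (pow_ne_zero _ hdet)]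

theorem finite_hat [σ.IsIrreducible]
    (hinv : ∀ (g : G) (l : L), σ.character (cn L g l) = σ.character l) : Finite (hat L σ) := by
  classical
  have hd : 0 < d := by simpa using CharClifford.finrank_pos_of_irreducible σ
  choose y hy using exists_lift L σ hinv
  choose c hc using fun x : hat L σ => exists_scalar L σ x (y (pr L σ x)) (hy _).symm
  have hn : 0 < d * Nat.card L := Nat.mul_pos hd Nat.card_pos
  have hroot : ∀ x, c x ∈ (Polynomial.nthRoots (d * Nat.card L) (1 : ℂ)).toFinset := by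
    intro x
    rw [Multiset.mem_toFinset, Polynomial.mem_nthRoots hn, pow_mul]
    have h := congrArg LinearMap.det (hc x)
    rw [LinearMap.det_smul, Module.finrank_fin_fun] at h
    have h' := congrArg (fun t : ℂ => t ^ Nat.card L) h
    have e1 : LinearMap.det (tau L σ x) ^ Nat.card L = 1 := x.2.2
    have e2 : LinearMap.det (tau L σ (y (pr L σ x))) ^ Nat.card L = 1 := (y _).2.2
    simp only [mul_pow, e1, e2, mul_one] at h'
    exact h'.symm
  refine Finite.of_injective
    (fun x => (pr L σ x, (⟨c x, hroot x⟩ :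
      (Polynomial.nthRoots (d * Nat.card L) (1 : ℂ)).toFinset))) ?_
  intro a b hab
  simp only [Prod.mk.injEq, Subtype.mk.injEq] at hab
  refine hat_ext L σ hab.1 ?_
  rw [hc a, hc b, hab.1, hab.2]

theorem smul_one_injective (hd : 0 < d) {a b : ℂ} (h : a • (1 : EndV d) = b • 1) : a = b := by
  have := congrFun (LinearMap.congr_fun h (fun _ => (1 : ℂ))) ⟨0, hd⟩
  simpa using this

/-- A character with the kernel of a surjection in its kernel descends. -/
theorem exists_descend {X Y : Type u} [Group X] [Finite X] [Group Y] [Finite Y] (s : X →* Y)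
    (hs : Function.Surjective s) {f : X → ℂ} (hf : IsIrrCharacter X f)
    (hk : ∀ x, s x = 1 → f x = f 1) : ∃ χ : IrrCharacter Y, ∀ x, (χ : Y → ℂ) (s x) = f x := by
  obtain ⟨ψ, -, hψ, he⟩ := CharCore.IsCharacter.exists_quotient
    (CharCore.IsIrrCharacter.isCharacter hf) s.ker fun k hk' => hk k hk'
  let e := QuotientGroup.quotientKerEquivOfSurjective s hs
  refine ⟨⟨fun y => ψ (e.symm y),
    CharCore.isIrrCharacter_comp_surjective (hψ hf) e.symm.toMonoidHom e.symm.surjective⟩,
    fun x => ?_⟩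
  have : e.symm (s x) = QuotientGroup.mk' s.ker x :=
    e.injective (by rw [MulEquiv.apply_symm_apply]; rfl)
  exact (congrArg ψ this).trans (he x).symm

theorem charDegree_natCast {X : Type u} [Group X] {f : X → ℂ} {n : ℕ} (h : f 1 = n) :
    Cfsg.charDegree f = n := by
  rw [Cfsg.charDegree, h]; simp

end Triple

open Triple in
set_option maxHeartbeats 1600000 in
/-- An invariant character of a normal subgroup is equivalent to a linear character of a central
subgroup. -/
theorem exists_central_triple {G : Type u} [Group G] [Finite G] (p : ℕ) [Fact p.Prime]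
    (L : Subgroup G) [L.Normal] (ν : IrrCharacter L)
    (hν : ¬ p ∣ Cfsg.charDegree (ν : L → ℂ))
    (hinv : ∀ g : G, Fixes L g (ν : L → ℂ)) :
    ∃ (Γ : Type u) (_ : Group Γ) (_ : Finite Γ) (Z : Subgroup Γ) (ζ : Z →* ℂˣ) (π : Γ →* G ⧸ L),
      Z ≤ center Γ ∧ Function.Surjective π ∧ π.ker = Z ∧
        ∀ H : Subgroup G, L ≤ H → countOver p L (ν : L → ℂ) H =
          countZ p Z ζ ((H.map (QuotientGroup.mk' L)).comap π) := by
  classical
  obtain ⟨d, σ, hσ, hch⟩ := ν.2
  have := hσ
  have hd : 0 < d := by simpa using CharClifford.finrank_pos_of_irreducible σ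
  have hν1 : (ν : L → ℂ) 1 = d := by
    rw [← hch, Representation.char_one, Module.finrank_fin_fun]
  have hpd : ¬ p ∣ d := by rwa [← charDegree_natCast hν1]
  have hinv' : ∀ (g : G) (l : L), σ.character (cn L g l) = σ.character l := fun g l => by
    rw [hch]; exact hinv g l _ rfl
  have : Finite (hat L σ) := finite_hat L σ hinv'
  have : (emb L σ).range.Normal := normal_range L σ
  set Lh := (emb L σ).range with hLh
  have hsurj : Function.Surjective (pr L σ) := exists_lift L σ hinv'
  have hker : Lh ≤ ((QuotientGroup.mk' L).comp (pr L σ)).ker := by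
    rintro _ ⟨l, rfl⟩
    simp
  let q : hat L σ →* (hat L σ) ⧸ Lh := QuotientGroup.mk' Lh
  let π : (hat L σ) ⧸ Lh →* G ⧸ L :=
    QuotientGroup.lift Lh ((QuotientGroup.mk' L).comp (pr L σ)) hker
  have hπq : ∀ x, π (q x) = QuotientGroup.mk' L (pr L σ x) := fun x => rfl
  have hqker : ∀ x, q x = 1 ↔ ∃ l, emb L σ l = x := fun x => QuotientGroup.eq_one_iff x
  -- elements over `L` are scalars times the copy of `L`
  let Kh : Subgroup (hat L σ) := L.comap (pr L σ)
  let pK : Kh →* L := ((pr L σ).comp Kh.subtype).codRestrict L fun x => x.2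
  have hscal : ∀ x : Kh, ∃ c : ℂ, tau L σ (x : hat L σ) = c • σ (pK x) := fun x =>
    exists_scalar L σ _ (emb L σ (pK x)) rfl
  choose c hc using hscal
  have hcu : ∀ (x : Kh) (a : ℂ), tau L σ (x : hat L σ) = a • σ (pK x) → c x = a := by
    intro x a ha
    refine smul_one_injective hd ?_
    have h := congrArg (fun t => t * σ (pK x)⁻¹) ((hc x).symm.trans ha)
    simpa only [smul_mul_assoc, ← map_mul, mul_inv_cancel, map_one] using h
  have hc1 : c 1 = 1 := hcu 1 1 (by
    rw [one_smul, map_one pK, Subgroup.coe_one, map_one, map_one])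
  have hcmul : ∀ a b, c (a * b) = c a * c b := fun a b => hcu _ _ (by
    rw [map_mul pK, Subgroup.coe_mul, map_mul, hc a, hc b, smul_mul_smul_comm, ← map_mul])
  let e : Kh →* ℂˣ := MonoidHom.toHomUnits ⟨⟨c, hc1⟩, hcmul⟩
  let q' : Kh →* π.ker := (q.comp Kh.subtype).codRestrict π.ker fun x => by
    rw [MonoidHom.mem_ker]
    exact (QuotientGroup.eq_one_iff _).mpr x.2
  have hq' : Function.Surjective q' := by
    rintro ⟨w, hw⟩
    obtain ⟨x, rfl⟩ := QuotientGroup.mk'_surjective Lh w
    exact ⟨⟨x, (QuotientGroup.eq_one_iff (N := L) _).mp hw⟩, rfl⟩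
  have hek : q'.ker ≤ (e⁻¹ : Kh →* ℂˣ).ker := by
    intro x hx
    obtain ⟨l, hl⟩ := (hqker x).mp (congrArg Subtype.val hx)
    have h1 : c x = 1 := hcu x 1 (by
      rw [one_smul, ← hl, tau_emb]
      exact congrArg σ (Subtype.ext (show (l : G) = pr L σ x by rw [← hl, pr_emb])))
    rw [MonoidHom.mem_ker, MonoidHom.inv_apply, inv_eq_one]
    exact Units.ext h1
  let ζ : π.ker →* ℂˣ := q'.liftOfSurjective hq' ⟨e⁻¹, hek⟩
  have hζ : ∀ x : Kh, (ζ (q' x) : ℂ) = (c x)⁻¹ := fun x => by
    have h : ζ (q' x) = (e⁻¹ : Kh →* ℂˣ) x :=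
      MonoidHom.liftOfRightInverse_comp_apply _ _ _ _ _
    rw [h, MonoidHom.inv_apply, Units.val_inv_eq_inv_val]
    rfl
  have hcentral : π.ker ≤ center ((hat L σ) ⧸ Lh) := by
    intro w hw
    obtain ⟨x, rfl⟩ := QuotientGroup.mk'_surjective Lh w
    have hxL : pr L σ x ∈ L := (QuotientGroup.eq_one_iff (N := L) _).mp hw
    obtain ⟨z, hz⟩ : ∃ z, z = x * (emb L σ ⟨pr L σ x, hxL⟩)⁻¹ := ⟨_, rfl⟩
    have hzq : q z = q x := by
      rw [hz, map_mul, map_inv, (hqker _).mpr ⟨_, rfl⟩, inv_one, mul_one]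
    have hz1 : pr L σ z = 1 := by rw [hz, map_mul, map_inv, pr_emb, mul_inv_cancel]
    obtain ⟨a, ha⟩ := exists_scalar L σ z 1 (by rw [hz1, map_one])
    rw [map_one] at ha
    refine mem_center_iff.mpr fun v => ?_
    obtain ⟨y, rfl⟩ := QuotientGroup.mk'_surjective Lh v
    change q y * q x = q x * q y
    rw [← hzq, ← map_mul, ← map_mul]
    refine congrArg q (hat_ext L σ ?_ ?_)
    · simp [hz1]
    · rw [map_mul, map_mul, ha, smul_mul_assoc, mul_smul_comm, one_mul, mul_one]
  refine ⟨(hat L σ) ⧸ Lh, inferInstance, inferInstance, π.ker, ζ, π, hcentral, fun w => ?_, rfl,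
    fun H hLH => ?_⟩
  · obtain ⟨g, rfl⟩ := QuotientGroup.mk'_surjective L w
    obtain ⟨x, rfl⟩ := hsurj g
    exact ⟨q x, hπq x⟩
  set J := (H.map (QuotientGroup.mk' L)).comap π with hJ
  let Hh : Subgroup (hat L σ) := H.comap (pr L σ)
  let prH : Hh →* H := ((pr L σ).comp Hh.subtype).codRestrict H fun x => x.2
  have hprH : Function.Surjective prH := by
    intro h
    obtain ⟨x, hx⟩ := hsurj h
    exact ⟨⟨x, show pr L σ x ∈ H by rw [hx]; exact h.2⟩, Subtype.ext hx⟩
  let qH : Hh →* J := (q.comp Hh.subtype).codRestrict J fun x => ⟨pr L σ x, x.2, (hπq x).symm⟩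
  have hqH : Function.Surjective qH := by
    rintro ⟨w, g, hg, hgw⟩
    obtain ⟨x, rfl⟩ := QuotientGroup.mk'_surjective Lh w
    have hmem : g⁻¹ * pr L σ x ∈ L := QuotientGroup.eq.mp hgw
    have hxH : pr L σ x ∈ H := by
      simpa using mul_mem hg (hLH hmem)
    exact ⟨⟨x, hxH⟩, rfl⟩
  let N : Subgroup Hh := Lh.subgroupOf Hh
  have hembH : ∀ l : L, emb L σ l ∈ Hh := fun l => hLH l.2
  let eN : L →* N :=
    MonoidHom.codRestrict (MonoidHom.codRestrict (emb L σ) Hh hembH) N fun l => ⟨l, rfl⟩
  have heN : Function.Bijective eN := by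
    refine ⟨fun a b h => ?_, fun n => ?_⟩
    · have h' : pr L σ (emb L σ a) = pr L σ (emb L σ b) :=
        congrArg (fun n : N => pr L σ ((n : Hh) : hat L σ)) h
      exact Subtype.ext h'
    · obtain ⟨l, hl⟩ := n.2
      exact ⟨l, Subtype.ext (Subtype.ext hl)⟩
  let T : Hh → ℂ := fun x => (tau L σ).character (x : hat L σ)
  have hTemb : ∀ (l : L), (tau L σ).character (emb L σ l) = (ν : L → ℂ) l := fun l => by
    rw [← hch]; rfl
  have hTN : IsIrrCharacter N (fun n : N => T n) := by
    let eN' := MulEquiv.ofBijective eN heN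
    have he : (fun n : N => T n) = fun n : N => (ν : L → ℂ) (eN'.symm n) := funext fun n => by
      obtain ⟨l, rfl⟩ := eN'.surjective n
      rw [MulEquiv.symm_apply_apply]
      exact hTemb l
    rw [he]
    exact CharCore.isIrrCharacter_comp_surjective ν.2 eN'.symm.toMonoidHom eN'.symm.surjective
  have hTirr : IsIrrCharacter Hh T :=
    CharDeep.Ext.isIrrCharacter_of_restrict N
      (CharCore.isCharacter_restrict (CharCore.isCharacter_character (tau L σ)) Hh) hTN
  have hsum : ∀ f : Hh → ℂ, classInner (fun n : N => f n) (fun n : N => T n) =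
      classInner (fun l : L => f ⟨emb L σ l, hembH l⟩) (ν : L → ℂ) := by
    intro f
    rw [CharCore.classInner_def, CharCore.classInner_def,
      ← Nat.card_congr (Equiv.ofBijective eN heN),
      ← Equiv.sum_comp (Equiv.ofBijective eN heN)]
    refine congrArg _ (Finset.sum_congr rfl fun l _ => ?_)
    rw [← hTemb l]
    rfl
  have hT1 : T 1 = d := by
    show (tau L σ).character 1 = d
    rw [Representation.char_one, Module.finrank_fin_fun]
  have hqN : ∀ (n : N) (x : Hh), qH ((n : Hh) * x) = qH x := fun n x => by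
    rw [map_mul, show qH (n : Hh) = 1 from Subtype.ext ((hqker _).mpr n.2), one_mul]
  -- from the central side to the side of `ν`
  have hforth : ∀ β : {χ : IrrCharacter J //
      ¬ p ∣ Cfsg.charDegree (χ : J → ℂ) ∧ Central π.ker ζ J (χ : J → ℂ)},
      ∃ χ : {χ : IrrCharacter H // ¬ p ∣ Cfsg.charDegree (χ : H → ℂ) ∧
        classInner (fun l : L => extendByZero H (χ : H → ℂ) (l : G)) (ν : L → ℂ) ≠ 0},
      ∀ x : Hh, (χ.1 : H → ℂ) (prH x) = ((β.1 : J → ℂ) (qH x)) * T x := by
    rintro ⟨β, hβp, hβc⟩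
    have hf : IsIrrCharacter Hh ((fun x => (β : J → ℂ) (qH x)) * T) :=
      CharDeep.Ext.isIrrCharacter_mul hTirr hTN
        (CharCore.isIrrCharacter_comp_surjective β.2 qH hqH) fun n x => by rw [hqN]
    have hβ0 := CharCore.irr_apply_one_ne_zero β
    obtain ⟨χ, hχ⟩ := exists_descend prH hprH hf fun x hx => by
      have hx1 : pr L σ (x : hat L σ) = 1 := congrArg Subtype.val hx
      let xK : Kh := ⟨x, show pr L σ (x : hat L σ) ∈ L by rw [hx1]; exact L.one_mem⟩
      have hτ : tau L σ (x : hat L σ) = c xK • 1 := by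
        refine (hc xK).trans (congrArg _ ?_)
        exact (congrArg σ (Subtype.ext hx1)).trans (map_one σ)
      have hT : T x = c xK * d := by
        show LinearMap.trace ℂ _ (tau L σ (x : hat L σ)) = _
        rw [hτ, map_smul, smul_eq_mul, LinearMap.trace_one, Module.finrank_fin_fun]
      have hb : (β : J → ℂ) (qH x) = (c xK)⁻¹ * (β : J → ℂ) 1 := by
        rw [← hζ xK]
        exact hβc (q' xK) (qH x).2
      have hc0 : c xK ≠ 0 := (e xK).ne_zero
      simp only [Pi.mul_apply, map_one, hb, hT, hT1]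
      field_simp
    obtain ⟨b, hb1, hbdeg, hb0, -⟩ := exists_deg β
    have hχ1 : (χ : H → ℂ) 1 = ((b * d : ℕ) : ℂ) := by
      rw [← map_one prH, hχ]
      simp [hb1, hT1]
    refine ⟨⟨χ, ?_, ?_⟩, fun x => hχ x⟩
    · rw [charDegree_natCast hχ1, (Fact.out : p.Prime).dvd_mul, ← hbdeg]
      exact fun h => h.elim hβp hpd
    · have hres : (fun l : L => extendByZero H (χ : H → ℂ) (l : G)) =
          (b : ℂ) • (ν : L → ℂ) := funext fun l => by
        rw [CharInd.extendByZero_mem _ (hLH l.2)]
        have h := hχ ⟨emb L σ l, hembH l⟩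
        simp only [Pi.mul_apply] at h
        refine (congrArg (χ : H → ℂ) (Subtype.ext ?_)).trans (h.trans ?_)
        · rfl
        · rw [show qH ⟨emb L σ l, hembH l⟩ = 1 from Subtype.ext ((hqker _).mpr ⟨l, rfl⟩), hb1,
            Pi.smul_apply, smul_eq_mul]
          exact congrArg _ (hTemb l)
      rw [hres, CharCore.classInner_smul_left, CharCore.classInner_irr_self, mul_one]
      exact Nat.cast_ne_zero.mpr hb0
  choose Φ hΦ using hforth
  have hbij : Function.Bijective Φ := by
    constructor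
    · intro β₁ β₂ h
      have havg : ∀ β : IrrCharacter J, CharDeep.Ext.avg N
          (fun x => (β : J → ℂ) (qH x) * T x * conj (T x)) = fun x => (β : J → ℂ) (qH x) := by
        intro β
        funext x
        have h1 := congrFun (CharDeep.Ext.avg_mul_conj_self hTirr hTN) x
        rw [CharDeep.Ext.avg_apply, Pi.one_apply] at h1
        rw [CharDeep.Ext.avg_apply]
        simp only [hqN, mul_assoc, ← Finset.mul_sum]
        rw [mul_left_comm, h1, mul_one]
      refine Subtype.ext (Subtype.ext (funext fun j => ?_))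
      obtain ⟨x, rfl⟩ := hqH j
      have he : (fun x => (β₁.1 : J → ℂ) (qH x) * T x * conj (T x)) =
          fun x => (β₂.1 : J → ℂ) (qH x) * T x * conj (T x) := funext fun x => by
        rw [← hΦ β₁ x, ← hΦ β₂ x, h]
      exact congrFun ((havg β₁.1).symm.trans (he ▸ havg β₂.1)) x
    · rintro ⟨χ, hχp, hχν⟩
      have hψ : IsIrrCharacter Hh (fun x => (χ : H → ℂ) (prH x)) :=
        CharCore.isIrrCharacter_comp_surjective χ.2 prH hprH
      obtain ⟨γ, hγ, hγinv, hγeq, -⟩ := CharDeep.Ext.exists_gallagher hTirr hTN hψ (by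
        rw [hsum fun x => (χ : H → ℂ) (prH x)]
        refine fun h0 => hχν (Eq.trans ?_ h0)
        refine congrArg (fun f => classInner f (ν : L → ℂ)) (funext fun l => ?_)
        rw [CharInd.extendByZero_mem _ (hLH l.2)]
        rfl)
      obtain ⟨β, hβ⟩ := exists_descend qH hqH hγ fun x hx => by
        have hxN : x ∈ N := (hqker _).mp (congrArg Subtype.val hx)
        simpa using hγinv ⟨x, hxN⟩ 1
      have hval : ∀ x : Hh, (χ : H → ℂ) (prH x) = (β : J → ℂ) (qH x) * T x := fun x => by
        rw [hβ]; exact congrFun hγeq x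
      obtain ⟨b, hb1, hbdeg, hb0, -⟩ := exists_deg β
      have hχ1 : (χ : H → ℂ) 1 = ((b * d : ℕ) : ℂ) := by
        rw [← map_one prH, hval]
        simp [hb1, hT1]
      have hβp : ¬ p ∣ Cfsg.charDegree (β : J → ℂ) := by
        rw [hbdeg]
        intro h
        rw [charDegree_natCast hχ1] at hχp
        exact hχp (h.mul_right d)
      have hβc : Central π.ker ζ J (β : J → ℂ) := by
        intro w hw
        obtain ⟨x, rfl⟩ := hq' w
        -- replace `x` by the scalar in its coset
        obtain ⟨z, hz⟩ : ∃ z, z = (x : hat L σ) * (emb L σ (pK x))⁻¹ := ⟨_, rfl⟩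
        have hz1 : pr L σ z = 1 := by rw [hz, map_mul, map_inv, pr_emb]; exact mul_inv_cancel _
        have hzH : z ∈ Hh := show pr L σ z ∈ H by rw [hz1]; exact H.one_mem
        have hτ : tau L σ z = c x • 1 := by
          rw [hz, map_mul, hc, smul_mul_assoc]
          refine congrArg _ ?_
          rw [← map_inv, tau_emb, ← map_mul, mul_inv_cancel, map_one]
        have hT : T ⟨z, hzH⟩ = c x * d := by
          show LinearMap.trace ℂ _ (tau L σ z) = _
          rw [hτ, map_smul, smul_eq_mul, LinearMap.trace_one, Module.finrank_fin_fun]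
        have hqz : qH ⟨z, hzH⟩ = ⟨((q' x : π.ker) : (hat L σ) ⧸ Lh), hw⟩ := Subtype.ext (by
          show q z = q x
          rw [hz, map_mul, map_inv, (hqker _).mpr ⟨_, rfl⟩, inv_one, mul_one])
        have h := hval ⟨z, hzH⟩
        rw [show prH ⟨z, hzH⟩ = 1 from Subtype.ext hz1, hχ1, hqz, hT] at h
        rw [hζ, hb1]
        have hc0 : c x ≠ 0 := (e x).ne_zero
        have hd0 : (d : ℂ) ≠ 0 := Nat.cast_ne_zero.mpr hd.ne'
        push_cast at h
        field_simp
        exact mul_right_cancel₀ hd0 (by linear_combination -h)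
      refine ⟨⟨β, hβp, hβc⟩, Subtype.ext (Subtype.ext (funext fun g => ?_))⟩
      obtain ⟨x, rfl⟩ := hprH g
      rw [hΦ]
      exact (hval x).symm
  exact (Nat.card_congr (Equiv.ofBijective Φ hbij)).symm

end Cfsg.Agent.PMcKay87
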